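import Mathlib
import Cfsg.Agent.Lib.BenderMaximal
import Cfsg.Agent.OddOrderLocal.CyclicSub
import Cfsg.Agent.H465.LinSolv
import Cfsg.Agent.Lib.PGroupFixedVector
import Cfsg.Prelude.Def_KGroupFacts
import Cfsg.Agent.FastGrp
import Cfsg.Agent.Prune
set_option linter.all false

section
prune_inst 0x7f00000000000000000000000000000000000000000000000000000000000000000000000000000000000000000000000000000000000000000000000000000000000000000000000000000000000000003fffffffffffffffffffffffffffbeffbdffffffff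

-- part: H465/SU
section
set_option linter.all false
open scoped Cfsg.Agent.FastGrp

/-!
# Solvably unique elements (helper465)

`SUel p y`: every solvable subgroup containing the `p`-element `y` has a unique subgroup of order `p`.
-/

set_option autoImplicit false

namespace Cfsg.Agent.H465.SU

open Subgroup

variable {K : Type*} [Group K]

/-- every solvable subgroup containing `y` has (at most) one subgroup of order `p` -/
def SUel (p : ℕ) (y : K) : Prop :=
  y ≠ 1 ∧ (∃ k, orderOf y = p ^ k) ∧ ∀ M : Subgroup K, Group.IsSolvable M → y ∈ M →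
    ∀ A B : Subgroup K, A ≤ M → B ≤ M → Nat.card A = p → Nat.card B = p → A = B

/-- there is a solvably unique element of odd prime power order -/
def HasSU (K : Type*) [Group K] : Prop := ∃ p : ℕ, p.Prime ∧ p ≠ 2 ∧ ∃ y : K, SUel p y

/-- for every non-trivial automorphism `x` there is `y` of odd prime power order with `⟨y, x y⟩` not solvable -/
def P2 (K : Type*) [Group K] : Prop :=
  ∀ x : MulAut K, x ≠ 1 → ∃ y : K, (∃ p k : ℕ, p.Prime ∧ p ≠ 2 ∧ orderOf y = p ^ k) ∧
    ¬ Group.IsSolvable (closure ({y, x y} : Set K))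

theorem P2.congr {K L : Type*} [Group K] [Group L] (e : K ≃* L) (h : P2 K) : P2 L := by
  intro x hx
  have hx' : (e.trans x).trans e.symm ≠ (1 : MulAut K) := by
    intro h1
    apply hx
    ext l
    have h2 := DFunLike.congr_fun h1 (e.symm l)
    have h3 : e.symm (x (e (e.symm l))) = e.symm l := h2
    rw [e.apply_symm_apply] at h3
    exact e.symm.injective h3
  obtain ⟨y, ⟨p, k, hp, hp2, hy⟩, hns⟩ := h _ hx'
  refine ⟨e y, ⟨p, k, hp, hp2, by rw [MulEquiv.orderOf_eq, hy]⟩, fun hs => hns ?_⟩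
  have h1 : (closure ({y, ((e.trans x).trans e.symm : MulAut K) y} : Set K)).map e.toMonoidHom =
      closure ({e y, x (e y)} : Set L) := by
    rw [MonoidHom.map_closure, Set.image_pair]
    congr 1
    show ({e y, e (e.symm (x (e y)))} : Set L) = _
    rw [e.apply_symm_apply]
  have e1 := (closure ({y, ((e.trans x).trans e.symm : MulAut K) y} : Set K)).equivMapOfInjective e.toMonoidHom
    e.injective
  rw [h1] at e1
  exact Group.isSolvable_of_isSolvable_injective (f := e1.toMonoidHom) e1.injective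

/-! ### the criterion -/

/-- `x` normalises all conjugates of the proper nontrivial subgroup `A` of the simple group `K` => `x = 1` -/
theorem eq_one_of_normalises [IsSimpleGroup K] {A : Subgroup K} (hnc : ¬ A.Normal)
    {x : MulAut K} (h : ∀ g : K, (A.map (MulAut.conj g).toMonoidHom).map x.toMonoidHom =
      A.map (MulAut.conj g).toMonoidHom) : x = 1 := by
  -- `g⁻¹ x(g)` normalises every conjugate
  have key : ∀ g h' : K, (A.map (MulAut.conj h').toMonoidHom).map (MulAut.conj (g⁻¹ * x g)).toMonoidHom =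
      A.map (MulAut.conj h').toMonoidHom := by
    intro g h'
    have h1 := h (g * h')
    have h2 := h h'
    have e1 : A.map (MulAut.conj (g * h')).toMonoidHom =
        (A.map (MulAut.conj h').toMonoidHom).map (MulAut.conj g).toMonoidHom := by
      rw [map_map]
      congr 1
      ext z
      simp [mul_assoc]
    have e2 : ((A.map (MulAut.conj h').toMonoidHom).map (MulAut.conj g).toMonoidHom).map x.toMonoidHom =
        ((A.map (MulAut.conj h').toMonoidHom).map x.toMonoidHom).map (MulAut.conj (x g)).toMonoidHom := by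
      rw [map_map, map_map (K := A.map (MulAut.conj h').toMonoidHom) (MulAut.conj (x g)).toMonoidHom x.toMonoidHom]
      congr 1
      ext z
      simp
    rw [e1, e2, h2] at h1
    have e3 : (A.map (MulAut.conj h').toMonoidHom).map (MulAut.conj (g⁻¹ * x g)).toMonoidHom =
        ((A.map (MulAut.conj h').toMonoidHom).map (MulAut.conj (x g)).toMonoidHom).map
          (MulAut.conj g⁻¹).toMonoidHom := by
      rw [map_map (K := A.map (MulAut.conj h').toMonoidHom) (MulAut.conj g⁻¹).toMonoidHom]
      congr 1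
      ext z
      simp [mul_assoc]
    rw [e3, h1, map_map]
    have e4 : ((MulAut.conj g⁻¹).toMonoidHom.comp (MulAut.conj g).toMonoidHom : K →* K) = MonoidHom.id K := by
      ext z
      simp [mul_assoc]
    rw [e4, map_id]
  -- the kernel
  let N : Subgroup K := (normalizer (A : Set K)).normalCore
  have hN : N.Normal := normalCore_normal _
  have hmem : ∀ g : K, g⁻¹ * x g ∈ N := by
    intro g h'
    rw [mem_normalizer_iff_map_conj_eq]
    have h1 := key g h'⁻¹
    have h2 : A.map (MulAut.conj (h' * (g⁻¹ * x g) * h'⁻¹)).toMonoidHom =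
        ((A.map (MulAut.conj h'⁻¹).toMonoidHom).map (MulAut.conj (g⁻¹ * x g)).toMonoidHom).map
          (MulAut.conj h').toMonoidHom := by
      rw [map_map, map_map]
      congr 1
      ext z
      simp [mul_assoc]
    have e4 : ((MulAut.conj h').toMonoidHom.comp (MulAut.conj h'⁻¹).toMonoidHom : K →* K) = MonoidHom.id K := by
      ext z
      simp [mul_assoc]
    refine Eq.trans h2 ?_
    rw [h1, map_map, e4, map_id]
  have hNbot : N = ⊥ := by
    rcases hN.eq_bot_or_eq_top with h1 | h1
    · exact h1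
    · exfalso
      apply hnc
      rw [← normalizer_eq_top_iff]
      exact top_le_iff.1 (h1 ▸ normalCore_le _)
  ext g
  have h1 := hmem g
  rw [hNbot, mem_bot, inv_mul_eq_one] at h1
  exact h1.symm

theorem card_socle [Finite K] {p k : ℕ} [Fact p.Prime] {y : K} (hy : orderOf y = p ^ k) (hk : 1 ≤ k) :
    Nat.card (zpowers (y ^ p ^ (k - 1))) = p := by
  have hp : p.Prime := Fact.out
  rw [Nat.card_zpowers, orderOf_pow, hy]
  have h2 : Nat.gcd (p ^ k) (p ^ (k - 1)) = p ^ (k - 1) := Nat.gcd_eq_right (pow_dvd_pow p (by omega))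
  rw [h2, Nat.pow_div (by omega) hp.pos]
  have : k - (k - 1) = 1 := by omega
  rw [this, pow_one]

theorem one_le_of {p k : ℕ} {y : K} (hy1 : y ≠ 1) (hy : orderOf y = p ^ k) : 1 ≤ k := by
  rcases Nat.eq_zero_or_pos k with h | h
  · rw [h, pow_zero, orderOf_eq_one_iff] at hy
    exact absurd hy hy1
  · exact h

theorem P2.of_SU [Finite K] [IsSimpleGroup K] (hK : ¬ IsMulCommutative K) (h : HasSU K) : P2 K := by
  obtain ⟨p, hp, hp2, y, hy1, ⟨k, hk⟩, hu⟩ := h
  have : Fact p.Prime := ⟨hp⟩
  have hk1 := one_le_of hy1 hk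
  intro x hx
  by_contra hcon
  push Not at hcon
  apply hx
  set A := zpowers (y ^ p ^ (k - 1)) with hA
  have hAc : Nat.card A = p := card_socle hk hk1
  have hyA : A ≤ zpowers y := zpowers_le.2 (npow_mem_zpowers _ _)
  have hAbot : A ≠ ⊥ := by
    intro h
    rw [h, card_bot] at hAc
    exact hp.one_lt.ne hAc
  have hAtop : A ≠ ⊤ := by
    intro h
    apply hK
    have hc : ∀ a b : K, a * b = b * a := by
      intro a b
      have ha : a ∈ A := by rw [h]; trivial
      have hb : b ∈ A := by rw [h]; trivial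
      obtain ⟨i, rfl⟩ := mem_zpowers_iff.1 ha
      obtain ⟨j, rfl⟩ := mem_zpowers_iff.1 hb
      rw [← zpow_add, ← zpow_add, add_comm]
    exact ⟨⟨hc⟩⟩
  refine eq_one_of_normalises (A := A) (fun hn => ?_) fun g => ?_
  · rcases hn.eq_bot_or_eq_top with h | h
    · exact hAbot h
    · exact hAtop h
  · -- apply the hypothesis to `g y g⁻¹`
    have h1 := hcon (g * y * g⁻¹) ⟨p, k, hp, hp2, by
      have : g * y * g⁻¹ = MulAut.conj g y := rfl
      rw [this, MulEquiv.orderOf_eq, hk]⟩
    -- transport uniqueness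
    set M := closure ({g * y * g⁻¹, x (g * y * g⁻¹)} : Set K) with hM
    have hM' : Group.IsSolvable (M.map (MulAut.conj g⁻¹).toMonoidHom) := by
      have := h1
      exact Group.isSolvable_of_surjective (f := ((MulAut.conj g⁻¹).toMonoidHom.subgroupMap M))
        (MonoidHom.subgroupMap_surjective _ _)
    have hyM : y ∈ M.map (MulAut.conj g⁻¹).toMonoidHom := by
      refine ⟨g * y * g⁻¹, subset_closure (by simp), ?_⟩
      simp [mul_assoc]
    have hle1 : A.map (MulAut.conj g).toMonoidHom ≤ M := by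
      rintro _ ⟨z, hz, rfl⟩
      obtain ⟨i, rfl⟩ := mem_zpowers_iff.1 (hyA hz)
      have h2 : g * y * g⁻¹ ∈ M := subset_closure (by simp)
      have h3 : (MulAut.conj g).toMonoidHom (y ^ i) = (g * y * g⁻¹) ^ i := by
        show g * y ^ i * g⁻¹ = _
        rw [conj_zpow]
      rw [h3]
      exact zpow_mem h2 i
    have hle2 : (A.map (MulAut.conj g).toMonoidHom).map x.toMonoidHom ≤ M := by
      rintro _ ⟨_, ⟨z, hz, rfl⟩, rfl⟩
      obtain ⟨i, rfl⟩ := mem_zpowers_iff.1 (hyA hz)
      have h2 : x (g * y * g⁻¹) ∈ M := subset_closure (by simp)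
      have h3 : x.toMonoidHom ((MulAut.conj g).toMonoidHom (y ^ i)) = (x (g * y * g⁻¹)) ^ i := by
        show x (g * y ^ i * g⁻¹) = _
        rw [← map_zpow, conj_zpow]
      rw [h3]
      exact zpow_mem h2 i
    have hcard : ∀ B : Subgroup K, ∀ e : MulAut K, Nat.card (B.map e.toMonoidHom) = Nat.card B := fun B e =>
      card_map_of_injective e.injective
    have h4 := hu _ hM' hyM _ _ (map_mono (f := (MulAut.conj g⁻¹).toMonoidHom) hle1)
      (map_mono (f := (MulAut.conj g⁻¹).toMonoidHom) hle2) (by rw [hcard, hcard, hAc])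
      (by rw [hcard, hcard, hcard, hAc])
    exact (map_injective (f := (MulAut.conj g⁻¹).toMonoidHom) (MulAut.conj g⁻¹).injective h4).symm

/-! ### how to prove uniqueness -/

/-- If the element `y₁` of order `p` of `⟨y⟩` centralises every `y`-invariant `t`-subgroup of the solvable group `X ∋ y`
(`t ≠ p`) and the Sylow `p`-subgroups are cyclic, then `X` has a unique subgroup of order `p`. -/
theorem unique_of_centralize {G : Type*} [Group G] [Finite G] {X : Subgroup G} (hX : Group.IsSolvable X) {p a : ℕ}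
    [Fact p.Prime] (ha : 1 ≤ a) {y : G} (hy : orderOf y = p ^ a) (hyX : y ∈ X) (hcyc : ∀ P : Sylow p G, IsCyclic P)
    (hcent : ∀ t : ℕ, t.Prime → t ≠ p → ∀ T : Subgroup G, T ≤ X → IsPGroup t T → (∀ u ∈ T, y * u * y⁻¹ ∈ T) →
      ∀ u ∈ T, y ^ p ^ (a - 1) * u = u * y ^ p ^ (a - 1))
    (A B : Subgroup G) (hA : A ≤ X) (hB : B ≤ X) (hAc : Nat.card A = p) (hBc : Nat.card B = p) : A = B := by
  have hp : p.Prime := Fact.out
  set y1 := y ^ p ^ (a - 1) with hy1
  -- cores are normalised by the elements of `X`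
  have hcore : ∀ (t : ℕ) (g : G), g ∈ X → ∀ u ∈ (Cfsg.pCore t X).map X.subtype, g * u * g⁻¹ ∈
      (Cfsg.pCore t X).map X.subtype := by
    rintro t g hg _ ⟨u, hu, rfl⟩
    have hn : (Cfsg.pCore t X).Normal := Lib.Cores.pCore_normal t
    exact ⟨(⟨g, hg⟩ * u * ⟨g, hg⟩⁻¹ :), hn.conj_mem u hu _, rfl⟩
  have hcoreP : ∀ t : ℕ, t.Prime → IsPGroup t ((Cfsg.pCore t X).map X.subtype) := by
    intro t ht
    have : Fact t.Prime := ⟨ht⟩
    exact (Lib.Cores.pCore_isPGroup t).map _
  -- a `p`-subgroup normalising `O_p(X)` commutes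
  have hnormP : ∀ C : Subgroup G, C ≤ X → IsPGroup p C → ∃ P : Sylow p G, (Cfsg.pCore p X).map X.subtype ≤ P ∧
      C ≤ P := by
    intro C hC hCp
    have h1 : C ≤ normalizer (((Cfsg.pCore p X).map X.subtype : Subgroup G) : Set G) := by
      intro g hg
      rw [mem_normalizer_iff_map_conj_eq]
      refine eq_of_le_of_card_ge ?_ (le_of_eq (card_map_of_injective (MulAut.conj g).injective).symm)
      rintro _ ⟨u, hu, rfl⟩
      exact hcore p g (hC hg) u hu
    have h2 := hCp.to_sup_of_normal_right' (hcoreP p hp) h1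
    obtain ⟨P, hP⟩ := h2.exists_le_sylow
    exact ⟨P, le_sup_right.trans hP, le_sup_left.trans hP⟩
  have hzy : IsPGroup p (zpowers y) := IsPGroup.of_card (n := a) (by rw [Nat.card_zpowers, hy])
  have hK1X : zpowers y1 ≤ X := (zpowers_le.2 (npow_mem_zpowers _ _) : zpowers y1 ≤ zpowers y).trans (zpowers_le.2 hyX)
  have hK1 : zpowers y1 ≤ (Cfsg.pCore p X).map X.subtype := by
    refine Lib.BenderMaximal.le_map_pCore_of_le_fitting
      (hzy.to_le (zpowers_le.2 (npow_mem_zpowers _ _))) ?_
    refine (le_inf hK1X (Lib.BenderMaximal.le_centralizer_fitting fun t ht => ?_)).trans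
      (Lib.BenderMaximal.inf_centralizer_fitting_le hX)
    rw [zpowers_le, mem_centralizer_iff]
    intro u hu
    by_cases htp : t = p
    · subst htp
      obtain ⟨P, hP1, hP2⟩ := hnormP (zpowers y) (zpowers_le.2 hyX) hzy
      have := hcyc P
      have h3 : y1 ∈ (P : Subgroup G) := hP2 (npow_mem_zpowers _ _)
      have h4 : u ∈ (P : Subgroup G) := hP1 hu
      have h5 := IsCyclic.commGroup (α := (P : Subgroup G))
      have h6 : (⟨u, h4⟩ : (P : Subgroup G)) * ⟨y1, h3⟩ = ⟨y1, h3⟩ * ⟨u, h4⟩ := by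
        obtain ⟨g, hg⟩ := hcyc P
        obtain ⟨i, hi⟩ := mem_zpowers_iff.1 (hg ⟨u, h4⟩)
        obtain ⟨j, hj⟩ := mem_zpowers_iff.1 (hg ⟨y1, h3⟩)
        rw [← hi, ← hj, ← zpow_add, ← zpow_add, add_comm]
      exact congrArg Subtype.val h6
    · exact (hcent t ht htp _ (map_subtype_le _) (hcoreP t ht) (hcore t y hyX) u hu).symm
  have hK1c : Nat.card (zpowers y1) = p := card_socle hy ha
  have key : ∀ C : Subgroup G, C ≤ X → Nat.card C = p → C = zpowers y1 := by
    intro C hC hCc
    obtain ⟨P, hP1, hP2⟩ := hnormP C hC (IsPGroup.of_card (n := 1) (by rw [hCc, pow_one]))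
    exact OddOrderLocal.CyclicSub.eq_of_card_eq_of_le_cyclic (hcyc P) hP2 (hK1.trans hP1) (by rw [hCc, hK1c])
  rw [key A hA hAc, key B hB hBc]

/-- transport along an isomorphism -/
theorem SUel.congr {L : Type*} [Group L] (e : K ≃* L) {p : ℕ} {y : K} (h : SUel p y) : SUel p (e y) := by
  obtain ⟨hy1, ⟨k, hk⟩, hu⟩ := h
  refine ⟨fun h1 => hy1 (e.injective (by rw [h1, map_one])), ⟨k, by rw [MulEquiv.orderOf_eq, hk]⟩, ?_⟩
  intro M hM hyM A B hA hB hAc hBc
  have hM' : Group.IsSolvable (M.map e.symm.toMonoidHom) :=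
    Group.isSolvable_of_surjective (f := (e.symm.toMonoidHom.subgroupMap M)) (MonoidHom.subgroupMap_surjective _ _)
  have h4 := hu _ hM' ⟨e y, hyM, e.symm_apply_apply y⟩ (A.map e.symm.toMonoidHom) (B.map e.symm.toMonoidHom)
    (map_mono hA) (map_mono hB) (by rw [card_map_of_injective (f := e.symm.toMonoidHom) e.symm.injective, hAc])
      (by rw [card_map_of_injective (f := e.symm.toMonoidHom) e.symm.injective, hBc])
  exact map_injective (f := e.symm.toMonoidHom) e.symm.injective h4

theorem HasSU.congr {L : Type*} [Group L] (e : K ≃* L) (h : HasSU K) : HasSU L := by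
  obtain ⟨p, hp, hp2, y, hy⟩ := h
  exact ⟨p, hp, hp2, e y, hy.congr e⟩

/-- Solvable unique elements go down to quotients by solvable `p'`-kernels. -/
theorem SUel.map {G : Type*} [Group G] [Finite G] (π : G →* K) (hπ : Function.Surjective π)
    (hsol : Group.IsSolvable π.ker) {p : ℕ} (hp : p.Prime) (hcop : ¬ p ∣ Nat.card π.ker) {y : G} (h : SUel p y) :
    SUel p (π y) := by
  have : Fact p.Prime := ⟨hp⟩
  obtain ⟨hy1, ⟨k, hk⟩, hu⟩ := h
  have hker : ∀ g : G, (∃ j, orderOf g = p ^ j) → π g = 1 → g = 1 := by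
    rintro g ⟨j, hj⟩ hg
    rw [← orderOf_eq_one_iff, hj]
    rcases Nat.eq_zero_or_pos j with h0 | h0
    · rw [h0, pow_zero]
    · exfalso
      apply hcop
      have hg' : g ∈ π.ker := hg
      have h1 : orderOf (⟨g, hg'⟩ : π.ker) ∣ Nat.card π.ker := orderOf_dvd_natCard _
      rw [orderOf_mk, hj] at h1
      exact (dvd_pow_self p (by omega)).trans h1
  refine ⟨fun h1 => hy1 (hker y ⟨k, hk⟩ h1), ?_, ?_⟩
  · obtain ⟨m, -, hm⟩ := (Nat.dvd_prime_pow hp).1 (hk ▸ orderOf_map_dvd π y)
    exact ⟨m, hm⟩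
  · intro M hM hyM A B hA hB hAc hBc
    have hM' : Group.IsSolvable (M.comap π) := by
      let f : M.comap π →* M := (π.comp (M.comap π).subtype).codRestrict M fun g => g.2
      let g : π.ker →* M.comap π := π.ker.subtype.codRestrict (M.comap π) fun g => by
        show π g ∈ M
        rw [show π g = 1 from g.2]
        exact M.one_mem
      refine Group.isSolvable_of_ker_le_range g f ?_
      intro a ha
      have h1 : π a = 1 := congrArg Subtype.val ha
      exact ⟨⟨a, h1⟩, rfl⟩
    -- lifting a subgroup of order `p`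
    have lift : ∀ C : Subgroup K, C ≤ M → Nat.card C = p → ∃ D : Subgroup G, D ≤ M.comap π ∧ Nat.card D = p ∧
        D.map π = C := by
      intro C hC hCc
      have h1 : p ∣ Nat.card (C.comap π) := by
        have h2 := card_map_dvd (C.comap π) π
        rw [map_comap_eq_self_of_surjective hπ, hCc] at h2
        exact h2
      obtain ⟨d, hd⟩ := exists_prime_orderOf_dvd_card' p h1
      have hd' : orderOf (d : G) = p := by rw [orderOf_coe, hd]
      refine ⟨zpowers (d : G), ?_, by rw [Nat.card_zpowers, hd'], ?_⟩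
      · rw [zpowers_le]
        exact hC d.2
      · have h3 : (zpowers (d : G)).map π ≤ C := by
          rw [MonoidHom.map_zpowers, zpowers_le]
          exact d.2
        have h4 : π (d : G) ≠ 1 := fun h5 => by
          have := hker d ⟨1, by rw [hd', pow_one]⟩ h5
          rw [this, orderOf_one] at hd'
          exact hp.one_lt.ne hd'
        have hfin : Finite C := Nat.finite_of_card_ne_zero (by rw [hCc]; exact hp.ne_zero)
        refine eq_of_le_of_card_ge h3 ?_
        rw [hCc, MonoidHom.map_zpowers, Nat.card_zpowers]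
        have h6 : orderOf (π (d : G)) ∣ p := hd' ▸ orderOf_map_dvd π _
        rcases (Nat.dvd_prime hp).1 h6 with h7 | h7
        · exact absurd (orderOf_eq_one_iff.1 h7) h4
        · exact h7.ge
    obtain ⟨A', hA1, hA2, rfl⟩ := lift A hA hAc
    obtain ⟨B', hB1, hB2, rfl⟩ := lift B hB hBc
    rw [hu _ hM' hyM A' B' hA1 hB1 hA2 hB2]

end Cfsg.Agent.H465.SU
end

-- part: H465/SULin
section
set_option linter.all false
open scoped Cfsg.Agent.FastGrp

/-!
# Solvably unique elements of linear groups (helper465)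
-/

set_option autoImplicit false

namespace Cfsg.Agent.H465.SU

open Subgroup

/-- The linear criterion: `y` a `p`-element of order `p^a` (`p` odd) of the linear group `G ≤ GL(V)`, cyclic Sylow
`p`-subgroups, `dim V + p^(a-1) < p^a` (or `a = 1`, `dim V + 1 = p`, `dim V` not a power of `2`), and `y^(p^(a-1))`
centralises every `y`-invariant `r`-subgroup in characteristic `r`. Then `y` is solvably unique. -/
theorem SUel.of_linear {G : Type*} [Group G] [Finite G] {F V : Type*} [Field F] [AddCommGroup V] [Module F V]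
    [FiniteDimensional F V] (ρ : G →* (V ≃ₗ[F] V)) (hinj : Function.Injective ρ) {p a : ℕ} (hp : p.Prime)
    (hp2 : p ≠ 2) (ha : 1 ≤ a) {y : G} (hy : orderOf y = p ^ a) (hcyc : ∀ P : Sylow p G, IsCyclic P)
    (hdim : Module.finrank F V + p ^ (a - 1) < p ^ a ∨
      a = 1 ∧ Module.finrank F V + 1 = p ∧ ¬ ∃ k, Module.finrank F V = 2 ^ k)
    (hchar : ∀ t : ℕ, t.Prime → t ≠ p → (t : F) = 0 → ∀ T : Subgroup G, IsPGroup t T → (∀ u ∈ T, y * u * y⁻¹ ∈ T) →
      ∀ u ∈ T, y ^ p ^ (a - 1) * u = u * y ^ p ^ (a - 1)) : SUel p y := by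
  have : Fact p.Prime := ⟨hp⟩
  refine ⟨fun h => ?_, ⟨a, hy⟩, fun M hM hyM A B hA hB hAc hBc => ?_⟩
  · rw [h, orderOf_one] at hy
    exact (Nat.one_lt_pow (by omega) hp.one_lt).ne hy
  · refine unique_of_centralize hM ha hy hyM hcyc (fun t ht htp T _ hT hyT => ?_) A B hA hB hAc hBc
    by_cases h0 : (t : F) = 0
    · exact hchar t ht htp h0 T hT hyT
    · refine LinSolv.centralize ρ hinj hp hp2 ha ht htp h0 hy hT hyT (hdim.imp_right ?_)
      rintro ⟨h1, h2, h3⟩
      exact ⟨h1, h2, fun h4 => h3 h4.2⟩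

/-- In characteristic `r`: an `r`-group normalised by an irreducible element is trivial. -/
theorem eq_bot_of_irreducible {G : Type*} [Group G] [Finite G] {F V : Type*} [Field F] [AddCommGroup V] [Module F V]
    [FiniteDimensional F V] (ρ : G →* (V ≃ₗ[F] V)) (hinj : Function.Injective ρ) {y : G}
    (hirr : ∀ W : Submodule F V, (∀ w ∈ W, ρ y w ∈ W) → W = ⊥ ∨ W = ⊤) [Nontrivial V] {t : ℕ} (ht : t.Prime)
    (h0 : (t : F) = 0) {T : Subgroup G} (hT : IsPGroup t T) (hyT : ∀ u ∈ T, y * u * y⁻¹ ∈ T) : T = ⊥ := by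
  have hft : Fact t.Prime := ⟨ht⟩
  have hchar : CharP F t := by
    have h1 : ringChar F ∣ t := (ringChar.spec F t).1 h0
    rcases (Nat.dvd_prime ht).1 h1 with h2 | h2
    · exact absurd h2 CharP.ringChar_ne_one
    · exact ringChar.of_eq h2
  -- conjugation by `y` is onto on `T`
  have hyT' : ∀ u ∈ T, y⁻¹ * u * y ∈ T := by
    intro u hu
    have h1 : T.map (MulAut.conj y).toMonoidHom = T := by
      refine eq_of_le_of_card_ge ?_ (le_of_eq (card_map_of_injective (MulAut.conj y).injective).symm)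
      rintro _ ⟨v, hv, rfl⟩
      exact hyT v hv
    rw [← h1] at hu
    obtain ⟨v, hv, rfl⟩ := hu
    have : y⁻¹ * ((MulAut.conj y).toMonoidHom v) * y = v := by
      show y⁻¹ * (y * v * y⁻¹) * y = v
      group
    rw [this]
    exact hv
  let W : Submodule F V :=
    { carrier := {v | ∀ u ∈ T, ρ u v = v}
      add_mem' := fun {a b} ha hb u hu => by rw [map_add, ha u hu, hb u hu]
      zero_mem' := fun u _ => map_zero _
      smul_mem' := fun c v hv u hu => by rw [map_smul, hv u hu] }
  have hW : ∀ v, v ∈ W ↔ ∀ u ∈ T, ρ u v = v := fun v => Iff.rfl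
  have hWy : ∀ w ∈ W, ρ y w ∈ W := by
    intro w hw u hu
    have h1 : u * y = y * (y⁻¹ * u * y) := by group
    have h2 : ρ u (ρ y w) = ρ (u * y) w := by rw [map_mul]; rfl
    have h3 : ρ (y * (y⁻¹ * u * y)) w = ρ y (ρ (y⁻¹ * u * y) w) := by rw [map_mul]; rfl
    rw [h2, h1, h3, hw _ (hyT' u hu)]
  have hne : W ≠ ⊥ := by
    let σ : Representation F T V :=
      { toFun := fun u => ((ρ (u : G)) : V ≃ₗ[F] V).toLinearMap
        map_one' := by
          ext v
          simp
        map_mul' := fun a b => by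
          ext v
          simp }
    obtain ⟨v, hv0, hv⟩ := Lib.PGroupFixedVector.exists_ne_zero_fixed_rep (p := t) hT σ
    intro h
    have : v ∈ W := fun u hu => hv ⟨u, hu⟩
    rw [h, Submodule.mem_bot] at this
    exact hv0 this
  have htop := (hirr W hWy).resolve_left hne
  rw [eq_bot_iff]
  intro u hu
  rw [mem_bot]
  apply hinj
  rw [map_one]
  ext v
  have : v ∈ W := by rw [htop]; trivial
  exact this u hu

/-- The linear criterion for irreducible elements. -/
theorem SUel.of_irreducible {G : Type*} [Group G] [Finite G] {F V : Type*} [Field F] [AddCommGroup V] [Module F V]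
    [FiniteDimensional F V] [Nontrivial V] (ρ : G →* (V ≃ₗ[F] V)) (hinj : Function.Injective ρ) {p a : ℕ}
    (hp : p.Prime) (hp2 : p ≠ 2) (ha : 1 ≤ a) {y : G} (hy : orderOf y = p ^ a) (hcyc : ∀ P : Sylow p G, IsCyclic P)
    (hdim : Module.finrank F V + p ^ (a - 1) < p ^ a ∨
      a = 1 ∧ Module.finrank F V + 1 = p ∧ ¬ ∃ k, Module.finrank F V = 2 ^ k)
    (hirr : ∀ W : Submodule F V, (∀ w ∈ W, ρ y w ∈ W) → W = ⊥ ∨ W = ⊤) : SUel p y :=
  SUel.of_linear ρ hinj hp hp2 ha hy hcyc hdim fun t ht _ h0 T hT hyT u hu => by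
    rw [eq_bot_of_irreducible ρ hinj hirr ht h0 hT hyT, mem_bot] at hu
    rw [hu, mul_one, one_mul]

end Cfsg.Agent.H465.SU
end

-- part: H585/Good
section
set_option linter.all false
open scoped Cfsg.Agent.FastGrp

/-!
# The data at one prime used for S4384 (helper585)

* `InnAt K r` : every automorphism of `r`-power order is inner; `InnAt.of_out`, `InnAt.congr`;
* `Wit K r x` : some element of prime power order `p^k`, `p ≠ r`, generates with `x` a non-solvable subgroup;
* `GoodAt K r a y`, `HasGood K`, `HasGood.congr`, `Wit.of_one` (automatic if `y` has prime order).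
-/

set_option autoImplicit false
set_option linter.unusedSectionVars false

namespace Cfsg.Agent.H585.Good

open Cfsg.Agent.H465.SU

/-- every automorphism of `r`-power order is inner -/
def InnAt (K : Type*) [Group K] (r : ℕ) : Prop :=
  ∀ β : MulAut K, (∃ k, orderOf β = r ^ k) → β ∈ (MulAut.conj : K →* MulAut K).range

/-- a partner of `x` of prime power order prime to `r` -/
def Wit (K : Type*) [Group K] (r : ℕ) (x : K) : Prop :=
  ∃ (p : ℕ) (c : K), p.Prime ∧ p ≠ r ∧ (∃ k, orderOf c = p ^ k) ∧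
    ¬ Group.IsSolvable (Subgroup.closure ({x, c} : Set K))

/-- the data at the prime `r` -/
structure GoodAt (K : Type*) [Group K] (r a : ℕ) (y : K) : Prop where
  prime : r.Prime
  odd : r ≠ 2
  pos : 1 ≤ a
  ord : orderOf y = r ^ a
  syl : ¬ r ^ (a + 1) ∣ Nat.card K
  su : SUel r y
  inn : InnAt K r
  wit : Wit K r (y ^ r ^ (a - 1))

/-- there is a good prime -/
def HasGood (K : Type*) [Group K] : Prop := ∃ (r a : ℕ) (y : K), GoodAt K r a y

section

variable {K : Type*} [Group K] {L : Type*} [Group L]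

theorem InnAt.congr {r : ℕ} (h : InnAt K r) (e : K ≃* L) : InnAt L r := by
  rintro β ⟨k, hk⟩
  have hb : orderOf (MulAut.congr e.symm β) = r ^ k := by rw [MulEquiv.orderOf_eq, hk]
  obtain ⟨g, hg⟩ := h _ ⟨k, hb⟩
  refine ⟨e g, ?_⟩
  ext l
  have h1 := DFunLike.congr_fun hg (e.symm l)
  have h2 : g * e.symm l * g⁻¹ = e.symm (β (e (e.symm l))) := h1
  rw [e.apply_symm_apply] at h2
  show e g * l * (e g)⁻¹ = β l
  have h3 := congrArg e h2
  rw [map_mul, map_mul, map_inv, e.apply_symm_apply, e.apply_symm_apply] at h3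
  exact h3

/-- `r ∤ |Out K|` -/
theorem InnAt.of_out [Finite K] {r : ℕ} (hr : r.Prime) (h : ¬ r ∣ Nat.card (Cfsg.Out K)) : InnAt K r := by
  rintro β ⟨k, hk⟩
  have h1 : orderOf (QuotientGroup.mk' (Cfsg.Inn K) β) = 1 := by
    have h2 : orderOf (QuotientGroup.mk' (Cfsg.Inn K) β) ∣ r ^ k := by
      rw [← hk]
      exact orderOf_map_dvd _ _
    have h3 : orderOf (QuotientGroup.mk' (Cfsg.Inn K) β) ∣ Nat.card (Cfsg.Out K) := orderOf_dvd_natCard _
    have h4 : Nat.Coprime (r ^ k) (Nat.card (Cfsg.Out K)) :=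
      Nat.Coprime.pow_left _ ((Nat.Prime.coprime_iff_not_dvd hr).2 h)
    exact Nat.dvd_one.1 (h4 ▸ Nat.dvd_gcd h2 h3)
  rw [orderOf_eq_one_iff, QuotientGroup.mk'_apply, QuotientGroup.eq_one_iff] at h1
  exact h1

theorem Wit.congr {r : ℕ} {x : K} (h : Wit K r x) (e : K ≃* L) : Wit L r (e x) := by
  obtain ⟨p, c, hp, hpr, ⟨k, hk⟩, hns⟩ := h
  refine ⟨p, e c, hp, hpr, ⟨k, by rw [MulEquiv.orderOf_eq, hk]⟩, fun hs => hns ?_⟩
  have h1 : (Subgroup.closure ({x, c} : Set K)).map e.toMonoidHom = Subgroup.closure ({e x, e c} : Set L) := by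
    rw [MonoidHom.map_closure, Set.image_pair]; rfl
  have e1 := (Subgroup.closure ({x, c} : Set K)).equivMapOfInjective e.toMonoidHom e.injective
  rw [h1] at e1
  exact Group.isSolvable_of_isSolvable_injective (f := e1.toMonoidHom) e1.injective

theorem GoodAt.congr {r a : ℕ} {y : K} (h : GoodAt K r a y) (e : K ≃* L) : GoodAt L r a (e y) where
  prime := h.prime
  odd := h.odd
  pos := h.pos
  ord := by rw [MulEquiv.orderOf_eq, h.ord]
  syl := by rw [← Nat.card_congr e.toEquiv]; exact h.syl
  su := h.su.congr e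
  inn := h.inn.congr e
  wit := by rw [← map_pow]; exact h.wit.congr e

theorem HasGood.congr (h : HasGood K) (e : K ≃* L) : HasGood L := by
  obtain ⟨r, a, y, hy⟩ := h
  exact ⟨r, a, e y, hy.congr e⟩

/-- the partner exists if the solvably unique element has prime order -/
theorem Wit.of_one [Finite K] [IsSimpleGroup K] {r : ℕ} (hr : r.Prime) {y : K} (hy : orderOf y = r)
    (hsu : SUel r y) (hK : ¬ IsMulCommutative K) : Wit K r y := by
  classical
  by_contra hcon
  have hall : ∀ (p : ℕ) (c : K), p.Prime → p ≠ r → (∃ k, orderOf c = p ^ k) →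
      Group.IsSolvable (Subgroup.closure ({y, c} : Set K)) := by
    intro p c hp hpr hc
    by_contra hns
    exact hcon ⟨p, c, hp, hpr, hc, hns⟩
  -- such elements normalise `⟨y⟩`
  have hcard : Nat.card (Subgroup.zpowers y) = r := by rw [Nat.card_zpowers, hy]
  have hnorm : ∀ (p : ℕ) (c : K), p.Prime → p ≠ r → (∃ k, orderOf c = p ^ k) →
      c ∈ Subgroup.normalizer (Subgroup.zpowers y : Set K) := by
    intro p c hp hpr hc
    have hs := hall p c hp hpr hc
    have hyM : y ∈ Subgroup.closure ({y, c} : Set K) := Subgroup.subset_closure (by simp)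
    have hcM : c ∈ Subgroup.closure ({y, c} : Set K) := Subgroup.subset_closure (by simp)
    have h1 : (Subgroup.zpowers y).map (MulAut.conj c).toMonoidHom ≤ Subgroup.closure ({y, c} : Set K) := by
      rw [MonoidHom.map_zpowers, Subgroup.zpowers_le]
      exact mul_mem (mul_mem hcM hyM) (inv_mem hcM)
    have h2 := hsu.2.2 _ hs hyM _ _ h1 (Subgroup.zpowers_le.2 hyM)
      (by rw [Subgroup.card_map_of_injective (f := (MulAut.conj c).toMonoidHom) (MulAut.conj c).injective, hcard]) hcard
    rw [Subgroup.mem_normalizer_iff_map_conj_eq]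
    exact h2
  -- the group generated by them
  let S : Set K := {c | ∃ p, p.Prime ∧ p ≠ r ∧ ∃ k, orderOf c = p ^ k}
  have hNn : Subgroup.normalClosure S ≤ Subgroup.normalizer (Subgroup.zpowers y : Set K) := by
    refine (Subgroup.closure_le _).2 ?_
    intro c hc
    obtain ⟨b, ⟨p, hp, hpr, k, hk⟩, hbc⟩ := Group.mem_conjugatesOfSet_iff.1 hc
    refine hnorm p c hp hpr ⟨k, ?_⟩
    obtain ⟨g, rfl⟩ := isConj_iff.1 hbc
    have e : g * b * g⁻¹ = MulAut.conj g b := rfl
    rw [e, MulEquiv.orderOf_eq, hk]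
  have hyne : y ≠ 1 := hsu.1
  have hcomm : ∀ {M : Subgroup K}, M = ⊤ → (∀ a ∈ M, ∀ b ∈ M, a * b = b * a) → False := by
    intro M hM h1
    apply hK
    subst hM
    exact ⟨⟨fun a b => h1 a trivial b trivial⟩⟩
  rcases (Subgroup.normalClosure_normal (s := S)).eq_bot_or_eq_top with h1 | h1
  · -- `K` is an `r`-group
    have hrf : Fact r.Prime := ⟨hr⟩
    have hKr : IsPGroup r K := by
      intro g
      refine ⟨(Nat.card K).primeFactorsList.length, ?_⟩
      have h2 : Nat.card K = r ^ (Nat.card K).primeFactorsList.length := by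
        refine Nat.eq_prime_pow_of_unique_prime_dvd Nat.card_pos.ne' ?_
        intro p hp hpK
        by_contra hpr
        have : Fact p.Prime := ⟨hp⟩
        obtain ⟨c, hc⟩ := exists_prime_orderOf_dvd_card' p hpK
        have h3 : c ∈ Subgroup.normalClosure S :=
          Subgroup.subset_normalClosure ⟨p, hp, hpr, 1, by rw [hc, pow_one]⟩
        rw [h1, Subgroup.mem_bot] at h3
        rw [h3, orderOf_one] at hc
        exact hp.one_lt.ne hc
      rw [← h2]
      exact pow_card_eq_one'
    have hnt := hKr.center_nontrivial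
    rcases (inferInstance : (Subgroup.center K).Normal).eq_bot_or_eq_top with h2 | h2
    · rw [h2] at hnt
      exact not_nontrivial _ hnt
    · exact hcomm h2 fun a _ b hb => (Subgroup.mem_center_iff.1 hb a)
  · rw [h1, top_le_iff, Subgroup.normalizer_eq_top_iff] at hNn
    rcases hNn.eq_bot_or_eq_top with h2 | h2
    · exact hyne (Subgroup.zpowers_eq_bot.1 h2)
    · refine hcomm h2 fun a ha b hb => ?_
      obtain ⟨i, rfl⟩ := Subgroup.mem_zpowers_iff.1 ha
      obtain ⟨j, rfl⟩ := Subgroup.mem_zpowers_iff.1 hb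
      rw [← zpow_add, ← zpow_add, add_comm]

end

end Cfsg.Agent.H585.Good
end
end
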