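import Mathlib
import Cfsg.Prelude.Def_Local
import Cfsg.Prelude.Def_RootSubgroups
import Cfsg.Agent.SignalizersComponents.ComponentExists
import Cfsg.Agent.SignalizersComponents.Components
import Cfsg.Agent.Lib.GenFitting
import Cfsg.Agent.S0489
import Cfsg.Agent.H478.RadTools_m3
import Cfsg.Agent.H465.SULin_m3
import Cfsg.Agent.FastGrp
import Cfsg.Agent.Prune
set_option linter.all false

section
prune_inst 0x7f00000000000000000000000000000000000000000000000000000000000000000000000000000000000000000000000000000000000000000000000000000000000000000000000000000000000000003fffffffffffffffffffffffffffbeffbdffffffff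

-- part: H459/Reduce
section
set_option linter.all false
open scoped Cfsg.Agent.FastGrp

/-!
# Reduction of the solvable Baer-Suzuki theorems to radical automorphisms of simple groups (helper459, S3829, S3832)

`reduction` : `G` finite, `x ∈ G` of prime order `p`, any `k` conjugates of `x` generate a solvable subgroup, `k ≥ 2`,
`p ≥ 3` or `k ≥ 3`. Then `x` lies in the solvable radical, provided that no non-abelian simple group `K` has an
automorphism `x` of order `p` with `RC x` and `PS k x`.
-/

set_option autoImplicit false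
set_option linter.unusedSectionVars false

namespace Cfsg.Agent.H459.Reduce

open Cfsg Subgroup Cfsg.Agent.SignalizersComponents.ComponentExists Cfsg.Agent.H459.Rad
open Cfsg.Agent.SignalizersComponents.Components
open scoped commutatorElement

universe u

/-- any `k` conjugates of `x` generate a solvable subgroup -/
def Q (k : ℕ) {G : Type*} [Group G] (x : G) : Prop :=
  ∀ f : Fin k → G, Group.IsSolvable ↥(_root_.Subgroup.closure (Set.range fun i => f i * x * (f i)⁻¹) : Subgroup G)

theorem Q.map {k : ℕ} {G H : Type*} [Group G] [Group H] {x : G} (h : Q k x) {f : G →* H}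
    (hf : Function.Surjective f) : Q k (f x) := by
  intro g
  choose g' hg' using fun i => hf (g i)
  have h1 := h g'
  have h2 : (_root_.Subgroup.closure (Set.range fun i => g' i * x * (g' i)⁻¹) : Subgroup G).map f =
      _root_.Subgroup.closure (Set.range fun i => g i * f x * (g i)⁻¹) := by
    rw [MonoidHom.map_closure, ← Set.range_comp]
    congr 2
    funext i
    simp only [hg', _root_.Function.comp_apply, _root_.map_mul, _root_.map_inv]
  rw [← h2]
  exact isSolvable_map h1 _

theorem Q.subtype {k : ℕ} {G : Type*} [Group G] {H : Subgroup G} {x : H} (h : Q k (x : G)) : Q k x := by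
  intro g
  have h1 := h fun i => (g i : G)
  have h2 : (_root_.Subgroup.closure (Set.range fun i => g i * x * (g i)⁻¹) : Subgroup H).map H.subtype =
      _root_.Subgroup.closure (Set.range fun i => (g i : G) * x * (g i : G)⁻¹) := by
    rw [MonoidHom.map_closure, ← Set.range_comp]
    rfl
  rw [← h2] at h1
  exact Group.isSolvable_of_isSolvable_injective
    (f := ((_root_.Subgroup.closure (Set.range fun i => g i * x * (g i)⁻¹)).equivMapOfInjective H.subtype
      H.subtype_injective).toMonoidHom) (MulEquiv.injective _)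

section Comp

variable {G : Type u} [Group G] [Finite G]

/-- the Fitting subgroup of a group without radical is trivial -/
theorem fitting_eq_bot (hR : solvableRadical G = ⊥) : fittingSubgroup G = ⊥ := by
  rw [eq_bot_iff, ← hR]
  refine sSup_le fun N hN => ?_
  have := hN.2
  exact le_rad hN.1 inferInstance

/-- an element centralising all components of a group without radical is trivial -/
theorem exists_component (hR : solvableRadical G = ⊥) {x : G} (hx : x ≠ 1) :
    ∃ L : Subgroup G, IsComponent L ∧ ∃ l ∈ L, x * l ≠ l * x := by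
  by_contra hcon
  push Not at hcon
  apply hx
  have h1 : x ∈ centralizer (generalizedFittingSubgroup G : Set G) := by
    have h2 : generalizedFittingSubgroup G = layer G := by
      rw [Cfsg.Agent.Lib.GenFitting.genFitting_def, fitting_eq_bot hR, sup_bot_eq]
    rw [h2]
    have h3 : layer G ≤ centralizer ({x} : Set G) := by
      refine sSup_le fun L hL => ?_
      intro l hl
      rw [mem_centralizer_iff]
      intro y hy
      rw [Set.mem_singleton_iff.1 hy]
      exact hcon L hL l hl
    rw [mem_centralizer_iff]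
    intro l hl
    exact (mem_centralizer_iff.1 (h3 hl) x rfl).symm
  have h2 := Cfsg.Agent.Lib.GenFitting.centralizer_genFitting_le h1
  set C := centralizer (generalizedFittingSubgroup G : Set G) with hC
  have hCn : C.Normal := by
    have := Cfsg.Agent.Lib.GenFitting.genFitting_normal (G := G)
    rw [hC]; infer_instance
  have hCs : Group.IsSolvable C := by
    refine Group.isSolvable_of_comm fun a b => Subtype.ext ?_
    exact (mem_centralizer_iff.1 b.2 a (Cfsg.Agent.Lib.GenFitting.centralizer_genFitting_le a.2))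
  have h3 := le_rad hCn hCs h1
  rwa [hR, mem_bot] at h3

/-- the components of a group without radical have trivial centre -/
theorem component_center (hR : solvableRadical G = ⊥) {L : Subgroup G} (hL : IsComponent L) : center L = ⊥ := by
  have h1 : ((center L).map L.subtype).IsSubnormal :=
    (Subgroup.Normal.isSubnormal (H := center L) inferInstance).trans' hL.1
  have h2 : Group.IsSolvable ↥((center L).map L.subtype) :=
    isSolvable_map (Group.isSolvable_of_comm fun a b => Subtype.ext (mem_center_iff.1 b.2 a)) _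
  obtain ⟨N, hN1, hN2, hN3⟩ := exists_normal_isSolvable_of_isSubnormal h1 h2
  have h3 := hN3.trans (le_rad hN1 hN2)
  rw [hR, le_bot_iff, Subgroup.map_eq_bot_iff_of_injective _ L.subtype_injective] at h3
  exact h3

theorem component_simple (hR : solvableRadical G = ⊥) {L : Subgroup G} (hL : IsComponent L) : IsSimpleGroup L := by
  have := quasisimple_nontrivial hL.2
  refine ⟨fun N hN => ?_⟩
  rcases quasisimple_normal hL.2 N hN with h | h
  · exact Or.inr h
  · rw [component_center hR hL, le_bot_iff] at h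
    exact Or.inl h

/-- the conjugate of a subgroup -/
def cj (g : G) (L : Subgroup G) : Subgroup G := L.map (MulAut.conj g).toMonoidHom

theorem mem_cj {g x : G} {L : Subgroup G} : x ∈ cj g L ↔ g⁻¹ * x * g ∈ L := by
  constructor
  · rintro ⟨y, hy, rfl⟩
    have e : g⁻¹ * ((MulAut.conj g).toMonoidHom y) * g = y := by
      change g⁻¹ * (g * y * g⁻¹) * g = y
      group
    rwa [e]
  · intro h
    refine ⟨_, h, ?_⟩
    change g * (g⁻¹ * x * g) * g⁻¹ = x
    group

theorem conj_mem_cj {g x : G} {L : Subgroup G} (hx : x ∈ L) : g * x * g⁻¹ ∈ cj g L := ⟨x, hx, rfl⟩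

theorem mem_normalizer_of_cj {g : G} {L : Subgroup G} (h : cj g L = L) : g ∈ normalizer (L : Set G) := by
  rw [Subgroup.mem_normalizer_iff_map_conj_eq]
  exact h

/-- elements of other conjugates centralise a component -/
theorem comm_of_cj_ne {L : Subgroup G} (hL : IsComponent L) {g : G} (h : cj g L ≠ L) {y : G} (hy : y ∈ cj g L)
    {l : G} (hl : l ∈ L) : y * l = l * y := by
  have h1 := component_le_centralizer_of_ne (isComponent_conj g hL) hL h hy
  exact (mem_centralizer_iff.1 h1 l hl).symm

/-- a component, an element moving it: the pair condition fails -/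
theorem moved {k : ℕ} {p : ℕ} [Fact p.Prime] (hk : 2 ≤ k) (hkp : 3 ≤ p ∨ 3 ≤ k) (hR : solvableRadical G = ⊥) {x : G}
    (hx : x ^ p = 1) {L : Subgroup G} (hL : IsComponent L) (hm : x ∉ normalizer (L : Set G)) (h : Q k x) : False := by
  have hns : ¬ Group.IsSolvable L := quasisimple_not_isSolvable hL.2
  have hcen := component_center hR hL
  obtain ⟨a, b, hab⟩ : ∃ a b : L, ¬ Group.IsSolvable (closure ({a, b} : Set L)) := by
    by_contra hcon
    push Not at hcon
    exact hns (S0489.result hcon)
  set N := normalizer (L : Set G) with hN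
  set ρ : N →* MulAut L := L.normalizerMonoidHom with hρ
  have hLN : L ≤ N := le_normalizer
  have hinj : Function.Injective (MulAut.conj : L →* MulAut L) := by
    rw [← MonoidHom.ker_eq_bot_iff, eq_bot_iff, ← hcen]
    intro z hz
    rw [mem_center_iff]
    intro l
    have h1 : MulAut.conj z l = l := by rw [MonoidHom.mem_ker.1 hz]; rfl
    rw [MulAut.conj_apply] at h1
    calc l * z = (z * l * z⁻¹) * z := by rw [h1]
      _ = z * l := by group
  have hρL : ∀ l : L, ρ ⟨l, hLN l.2⟩ = MulAut.conj l := by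
    intro l
    ext y
    rfl
  have hρC : ∀ (y : G) (hy : y ∈ N), (∀ l ∈ L, y * l = l * y) → ρ ⟨y, hy⟩ = 1 := by
    intro y hy hc
    ext l
    change y * l * y⁻¹ = l
    rw [hc l l.2]; group
  have hcN : ∀ y : G, (∀ l ∈ L, y * l = l * y) → y ∈ N := by
    intro y hy
    rw [hN, Subgroup.mem_normalizer_iff]
    intro l
    constructor
    · intro hl
      rw [hy l hl]; simpa using hl
    · intro hl
      have h1 := hy _ hl
      have h2 : y * l * y⁻¹ = l := by
        have h3 : y * (y * l * y⁻¹) = (y * l * y⁻¹) * y := h1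
        have h4 : y * (y * l * y⁻¹) = y * l := by rw [h3]; group
        exact mul_left_cancel h4
      rwa [h2] at hl
  -- two elements of a solvable subgroup acting as `a`, `b` on `L`
  have key : ∀ (S : Subgroup G), Group.IsSolvable S → ∀ c ∈ S, ∀ d ∈ S, ∀ (hc : c ∈ N) (hd : d ∈ N) (a' b' : L),
      ρ ⟨c, hc⟩ = MulAut.conj a' → ρ ⟨d, hd⟩ = MulAut.conj b' → Group.IsSolvable (closure ({a', b'} : Set L)) := by
    intro S hS c hc d hd hcN hdN a' b' h1 h2
    have h3 : Group.IsSolvable ↥((S.subgroupOf N).map ρ) := by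
      refine isSolvable_map ?_ _
      let f : ↥(S.subgroupOf N) →* ↥S := (N.subtype.comp (S.subgroupOf N).subtype).codRestrict S
        fun s => s.2
      refine Group.isSolvable_of_isSolvable_injective (f := f) ?_
      intro s t hst
      have h4 : ((s : N) : G) = ((t : N) : G) := congrArg (fun z : ↥S => (z : G)) hst
      exact Subtype.ext (Subtype.ext h4)
    have h4 : (_root_.Subgroup.closure ({a', b'} : Set L)).map (MulAut.conj : L →* MulAut L) ≤ (S.subgroupOf N).map ρ := by
      rw [MonoidHom.map_closure, closure_le]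
      rintro _ ⟨y, (rfl | rfl), rfl⟩
      · exact ⟨⟨c, hcN⟩, hc, h1⟩
      · exact ⟨⟨d, hdN⟩, hd, h2⟩
    have h5 := isSolvable_of_le h4 h3
    exact Group.isSolvable_of_isSolvable_injective
      (f := ((_root_.Subgroup.closure ({a', b'} : Set L)).equivMapOfInjective _ hinj).toMonoidHom) (MulEquiv.injective _)
  have hx1 : cj x L ≠ L := fun h1 => hm (mem_normalizer_of_cj h1)
  rcases hkp with hp3 | hk3
  · -- `p ≥ 3`
    have hx2 : cj (x * x) L ≠ L := by
      intro h1
      apply hm
      have h2 := mem_normalizer_of_cj h1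
      have hodd : Odd p := (Fact.out : p.Prime).odd_of_ne_two (by omega)
      obtain ⟨m, hm'⟩ := hodd
      have h3 : (x * x) ^ (m + 1) = x := by
        rw [← pow_two, ← pow_mul]
        have : 2 * (m + 1) = p + 1 := by omega
        rw [this, pow_succ, hx, one_mul]
      rw [← h3]
      exact pow_mem h2 _
    have hxi : cj x⁻¹ L ≠ L := by
      intro h1
      have h2 := mem_normalizer_of_cj h1
      exact hm (by simpa using inv_mem h2)
    set g : G := a * (x * b * x⁻¹) with hg
    have hsol := h fun i => if (i : ℕ) = 0 then 1 else g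
    set S : Subgroup G := _root_.Subgroup.closure (Set.range fun i : Fin k => (if (i : ℕ) = 0 then 1 else g) * x *
      (if (i : ℕ) = 0 then 1 else g)⁻¹) with hS
    have h0 : x ∈ S := subset_closure ⟨⟨0, by omega⟩, by simp⟩
    have h1 : g * x * g⁻¹ ∈ S := subset_closure ⟨⟨1, by omega⟩, by simp⟩
    have hcS : g * x * g⁻¹ * x⁻¹ ∈ S := mul_mem h1 (inv_mem h0)
    have hdS : x⁻¹ * (g * x * g⁻¹ * x⁻¹) * x ∈ S := mul_mem (mul_mem (inv_mem h0) hcS) h0
    have hxx : ∀ y ∈ L, ∀ l ∈ L, (x * y * x⁻¹) * l = l * (x * y * x⁻¹) := fun y hy l hl =>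
      comm_of_cj_ne hL hx1 (conj_mem_cj hy) hl
    have hxx2 : ∀ y ∈ L, ∀ l ∈ L, (x * x * y * (x * x)⁻¹) * l = l * (x * x * y * (x * x)⁻¹) := fun y hy l hl =>
      comm_of_cj_ne hL hx2 (conj_mem_cj hy) hl
    have hxxi : ∀ y ∈ L, ∀ l ∈ L, (x⁻¹ * y * x⁻¹⁻¹) * l = l * (x⁻¹ * y * x⁻¹⁻¹) := fun y hy l hl =>
      comm_of_cj_ne hL hxi (conj_mem_cj hy) hl
    -- the first element
    have e1 : g * x * g⁻¹ * x⁻¹ = a * (x * b * x⁻¹) * (x * x * (b⁻¹ : L) * (x * x)⁻¹) * (x * (a⁻¹ : L) * x⁻¹) := by
      rw [hg]; push_cast; group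
    have e2 : x⁻¹ * (g * x * g⁻¹ * x⁻¹) * x = (x⁻¹ * a * x⁻¹⁻¹) * b * (x * (b⁻¹ : L) * x⁻¹) * (a⁻¹ : L) := by
      rw [hg]; push_cast; group
    have m1 : (x * b * x⁻¹) ∈ N := hcN _ (hxx _ b.2)
    have m2 : (x * x * (b⁻¹ : L) * (x * x)⁻¹) ∈ N := hcN _ (hxx2 _ (b⁻¹).2)
    have m3 : (x * (a⁻¹ : L) * x⁻¹) ∈ N := hcN _ (hxx _ (a⁻¹).2)
    have m4 : (x⁻¹ * a * x⁻¹⁻¹) ∈ N := hcN _ (hxxi _ a.2)
    have m5 : (x * (b⁻¹ : L) * x⁻¹) ∈ N := hcN _ (hxx _ (b⁻¹).2)
    have hcN' : g * x * g⁻¹ * x⁻¹ ∈ N := by
      rw [e1]; exact mul_mem (mul_mem (mul_mem (hLN a.2) m1) m2) m3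
    have hdN' : x⁻¹ * (g * x * g⁻¹ * x⁻¹) * x ∈ N := by
      rw [e2]; exact mul_mem (mul_mem (mul_mem m4 (hLN b.2)) m5) (hLN (a⁻¹).2)
    have r1 : ρ ⟨_, hcN'⟩ = MulAut.conj a := by
      have : (⟨_, hcN'⟩ : N) = ⟨a, hLN a.2⟩ * ⟨_, m1⟩ * ⟨_, m2⟩ * ⟨_, m3⟩ := Subtype.ext e1
      rw [this, map_mul, map_mul, map_mul, hρL, hρC _ m1 (hxx _ b.2), hρC _ m2 (hxx2 _ (b⁻¹).2),
        hρC _ m3 (hxx _ (a⁻¹).2), mul_one, mul_one, mul_one]
    have r2 : ρ ⟨_, hdN'⟩ = MulAut.conj (b * a⁻¹) := by
      have : (⟨_, hdN'⟩ : N) = ⟨_, m4⟩ * ⟨b, hLN b.2⟩ * ⟨_, m5⟩ * ⟨(a⁻¹ : L), hLN (a⁻¹).2⟩ := Subtype.ext e2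
      rw [this, map_mul, map_mul, map_mul, hρL, hρL, hρC _ m4 (hxxi _ a.2), hρC _ m5 (hxx _ (b⁻¹).2), one_mul,
        mul_one, ← map_mul]
    have h2 := key S hsol _ hcS _ hdS hcN' hdN' a (b * a⁻¹) r1 r2
    apply hab
    refine isSolvable_of_le ?_ h2
    rw [closure_le]
    rintro y (rfl | rfl)
    · exact _root_.Subgroup.subset_closure (by simp)
    · have h3 : y * a⁻¹ * a ∈ _root_.Subgroup.closure ({a, y * a⁻¹} : Set L) :=
        mul_mem (_root_.Subgroup.subset_closure (by simp only [_root_.Set.mem_insert_iff, _root_.Set.mem_singleton_iff, _root_.or_true])) (_root_.Subgroup.subset_closure (by simp))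
      rwa [inv_mul_cancel_right] at h3
  · -- `k ≥ 3`
    have hsol := h fun i => if (i : ℕ) = 0 then 1 else if (i : ℕ) = 1 then (a : G) else (b : G)
    set S : Subgroup G := _root_.Subgroup.closure (Set.range fun i : Fin k => (if (i : ℕ) = 0 then 1 else if (i : ℕ) = 1 then (a : G)
      else (b : G)) * x * (if (i : ℕ) = 0 then 1 else if (i : ℕ) = 1 then (a : G) else (b : G))⁻¹) with hS
    have h0 : x ∈ S := subset_closure ⟨⟨0, by omega⟩, by simp⟩
    have h1 : a * x * (a : G)⁻¹ ∈ S := subset_closure ⟨⟨1, by omega⟩, by simp only [_root_.one_ne_zero, ↓ _root_.reduceIte]⟩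
    have h2 : b * x * (b : G)⁻¹ ∈ S := subset_closure ⟨⟨2, by omega⟩, by simp only [_root_.OfNat.ofNat_ne_zero, ↓ _root_.reduceIte, _root_.OfNat.ofNat_ne_one]⟩
    have hcS : a * x * (a : G)⁻¹ * x⁻¹ ∈ S := mul_mem h1 (inv_mem h0)
    have hdS : b * x * (b : G)⁻¹ * x⁻¹ ∈ S := mul_mem h2 (inv_mem h0)
    have hxx : ∀ y ∈ L, ∀ l ∈ L, (x * y * x⁻¹) * l = l * (x * y * x⁻¹) := fun y hy l hl =>
      comm_of_cj_ne hL hx1 (conj_mem_cj hy) hl
    have e : ∀ c : L, c * x * (c : G)⁻¹ * x⁻¹ = c * (x * (c⁻¹ : L) * x⁻¹) := by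
      intro c; push_cast; group
    have m : ∀ c : L, (x * (c⁻¹ : L) * x⁻¹) ∈ N := fun c => hcN _ (hxx _ (c⁻¹).2)
    have n : ∀ c : L, c * x * (c : G)⁻¹ * x⁻¹ ∈ N := by
      intro c; rw [e]; exact mul_mem (hLN c.2) (m c)
    have r : ∀ c : L, ρ ⟨_, n c⟩ = MulAut.conj c := by
      intro c
      have : (⟨_, n c⟩ : N) = ⟨c, hLN c.2⟩ * ⟨_, m c⟩ := Subtype.ext (e c)
      rw [this, map_mul, hρL, hρC _ (m c) (hxx _ (c⁻¹).2), mul_one]
    exact hab (key S hsol _ hcS _ hdS (n a) (n b) a b (r a) (r b))

end Comp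

/-- **The reduction.** -/
theorem reduction {k p : ℕ} [Fact p.Prime] (hk : 2 ≤ k) (hkp : 3 ≤ p ∨ 3 ≤ k)
    (core : ∀ (K : Type u) [Group K] [Finite K] [IsSimpleGroup K] (x : MulAut K), ¬ IsMulCommutative K →
      orderOf x = p → RC x → PS k x → False)
    (G : Type u) [Group G] [Finite G] (x : G) (hx : orderOf x = p) (h : Q k x) : x ∈ solvableRadical G := by
  induction hn : Nat.card G using Nat.strong_induction_on generalizing G with
  | _ n ih =>
    subst hn
    by_contra hxR
    have hp : p.Prime := Fact.out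
    have hR : solvableRadical G = ⊥ := by
      by_contra hne
      have hRn := rad_normal G
      set R := solvableRadical G with hRdef
      have hx1 : QuotientGroup.mk' R x ≠ 1 := fun h1 => hxR ((QuotientGroup.eq_one_iff x).1 h1)
      have hox : orderOf (QuotientGroup.mk' R x) = p := by
        have h1 : orderOf (QuotientGroup.mk' R x) ∣ p := hx ▸ orderOf_map_dvd _ x
        rcases (Nat.dvd_prime hp).1 h1 with h2 | h2
        · exact absurd (orderOf_eq_one_iff.1 h2) hx1
        · exact h2
      have hcard : Nat.card (G ⧸ R) < Nat.card G := by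
        have h3 := Subgroup.card_eq_card_quotient_mul_card_subgroup R
        have h4 : 1 < Nat.card R := (Subgroup.one_lt_card_iff_ne_bot R).mpr hne
        have h5 : 0 < Nat.card (G ⧸ R) := Nat.card_pos
        nlinarith only [h3, h4, h5]
      have h1 := ih _ hcard (G ⧸ R) (QuotientGroup.mk' R x) hox
        (h.map (QuotientGroup.mk'_surjective R)) rfl
      have h2 : solvableRadical (G ⧸ R) = ⊥ := rad_quotient
      rw [h2, mem_bot] at h1
      exact hx1 h1
    have hsub : ∀ H : Subgroup G, H ≠ ⊤ → x ∈ H → x ∈ radIn H := by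
      intro H hH hxH
      have hcard : Nat.card H < Nat.card G :=
        lt_of_le_of_ne (Subgroup.card_le_card_group H) fun h => hH (Subgroup.eq_top_of_card_eq H h)
      have h1 := ih _ hcard H ⟨x, hxH⟩ (by rw [Subgroup.orderOf_mk]; exact hx) (Q.subtype (x := ⟨x, hxH⟩) h) rfl
      exact mem_radIn_coe.2 h1
    have hx1 : x ≠ 1 := by
      rintro rfl
      rw [orderOf_one] at hx
      exact hp.one_lt.ne hx
    obtain ⟨L, hL, l0, hl0, hne0⟩ := exists_component hR hx1
    by_cases hm : x ∈ normalizer (L : Set G)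
    swap
    · exact moved hk hkp hR (by rw [← hx]; exact pow_orderOf_eq_one x) hL hm h
    have hsimp := component_simple hR hL
    set N := normalizer (L : Set G) with hN
    set ρ : N →* MulAut L := L.normalizerMonoidHom with hρ
    have hLN : L ≤ N := le_normalizer
    have hρL : ∀ l : L, ρ ⟨l, hLN l.2⟩ = MulAut.conj l := by
      intro l
      ext y
      rfl
    set y : MulAut L := ρ ⟨x, hm⟩ with hy
    have hyl : ∀ l : L, ((y l : L) : G) = x * l * x⁻¹ := fun l => rfl
    refine core L y (quasisimple_not_isMulCommutative hL.2) ?_ ?_ ?_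
    · have h1 : orderOf y ∣ p := by
        have h2 : orderOf y ∣ orderOf (⟨x, hm⟩ : N) := orderOf_map_dvd ρ _
        rwa [Subgroup.orderOf_mk, hx] at h2
      rcases (Nat.dvd_prime hp).1 h1 with h2 | h2
      · exfalso
        rw [orderOf_eq_one_iff] at h2
        apply hne0
        have h3 : ((y ⟨l0, hl0⟩ : L) : G) = l0 := by rw [h2]; rfl
        rw [hyl] at h3
        calc x * l0 = (x * l0 * x⁻¹) * x := by group
          _ = l0 * x := by rw [h3]
      · exact h2
    · -- `RC`
      intro M hM hMx m hm'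
      set M' : Subgroup G := M.map L.subtype with hM'
      set H : Subgroup G := M' ⊔ zpowers x with hH
      have hxH : x ∈ H := mem_sup_right (mem_zpowers x)
      have hM'x : ∀ g ∈ M', x * g * x⁻¹ ∈ M' := by
        rintro _ ⟨l, hl, rfl⟩
        exact ⟨y l, hMx l hl, hyl l⟩
      have hHn : H ≤ normalizer (M' : Set G) := by
        refine sup_le le_normalizer ?_
        rw [zpowers_le]
        refine mem_normalizer_of_cj ?_
        have hle : cj x M' ≤ M' := by
          rintro _ ⟨g, hg, rfl⟩
          exact hM'x g hg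
        exact Subgroup.eq_of_le_of_card_ge hle (le_of_eq (Subgroup.card_map_of_injective
          (K := M') (MulAut.conj x).injective).symm)
      have hHt : H ≠ ⊤ := by
        intro hHt
        have hMn : M'.Normal := by
          rw [hHt] at hHn
          exact Subgroup.normalizer_eq_top_iff.1 (top_le_iff.1 hHn)
        have hMn' : M.Normal := by
          refine ⟨fun n hn g => ?_⟩
          have h1 := hMn.conj_mem _ (show (n : G) ∈ M' from ⟨n, hn, rfl⟩) g
          obtain ⟨n', hn', h2⟩ := h1
          have h3 : n' = g * n * g⁻¹ := Subtype.ext h2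
          rwa [← h3]
        rcases hMn'.eq_bot_or_eq_top with h1 | h1
        · have h2 : (⊤ : Subgroup G) = zpowers x := by
            rw [← hHt, hH, hM', h1, Subgroup.map_bot, bot_sup_eq]
          have h3 : Group.IsSolvable G := by
            have h4 : ∀ a b : G, a * b = b * a := by
              intro a b
              obtain ⟨i, rfl⟩ := mem_zpowers_iff.1 (show a ∈ zpowers x by rw [← h2]; exact mem_top _)
              obtain ⟨j, rfl⟩ := mem_zpowers_iff.1 (show b ∈ zpowers x by rw [← h2]; exact mem_top _)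
              rw [← zpow_add, ← zpow_add, add_comm]
            exact Group.isSolvable_of_comm h4
          rw [← rad_eq_top_iff, hR] at h3
          have h4 : x ∈ (⊥ : Subgroup G) := by rw [h3]; exact mem_top _
          exact hx1 (mem_bot.1 h4)
        · exact hM h1
      have hxr := hsub H hHt hxH
      have hmM' : (m : G) ∈ M' := ⟨m, hm', rfl⟩
      have hM'H : M' ≤ H := le_sup_left
      have h1 : (m : G)⁻¹ * x * m * x⁻¹ ∈ radIn H := by
        have h2 := radIn_conj_mem (inv_mem (hM'H hmM')) hxr
        rw [inv_inv] at h2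
        exact mul_mem h2 (inv_mem hxr)
      have h2 : (m : G)⁻¹ * x * m * x⁻¹ ∈ M' := by
        have h3 := mul_mem (inv_mem hmM') (hM'x _ hmM')
        have e : (m : G)⁻¹ * x * m * x⁻¹ = (m : G)⁻¹ * (x * m * x⁻¹) := by group
        rwa [e]
      have h3 := radIn_inf_le hM'H ⟨h1, h2⟩
      have h4 : (radIn M).map L.subtype = radIn M' := by
        apply le_antisymm
        · refine le_radIn (map_mono (radIn_le M)) ?_ (isSolvable_map (radIn_solvable M) _)
          rintro _ ⟨g, hg, rfl⟩ _ ⟨n, hn, rfl⟩
          exact ⟨g * n * g⁻¹, radIn_conj_mem hg hn, by simp only [_root_.Subgroup.subtype_apply, _root_.Subgroup.coe_mul, _root_.InvMemClass.coe_inv]⟩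
        · have h5 : radIn M' ≤ L := (radIn_le M').trans (map_subtype_le _)
          have h6 : (radIn M').subgroupOf L ≤ radIn M := by
            refine le_radIn ?_ ?_ ?_
            · intro l hl
              obtain ⟨l', hl', h7⟩ := radIn_le M' (mem_subgroupOf.1 hl)
              rwa [← Subtype.ext h7]
            · intro g hg n hn
              rw [mem_subgroupOf] at hn ⊢
              exact radIn_conj_mem (M := M') ⟨g, hg, rfl⟩ hn
            · have := radIn_solvable M'
              exact Group.isSolvable_of_surjective (f := (subgroupOfEquivOfLe h5).symm.toMonoidHom)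
                (subgroupOfEquivOfLe h5).symm.surjective
          intro z hz
          exact ⟨⟨z, h5 hz⟩, h6 (mem_subgroupOf.2 hz), rfl⟩
      rw [← h4] at h3
      obtain ⟨w, hw, h5⟩ := h3
      have h6 : w = m⁻¹ * y m := by
        apply Subtype.ext
        rw [show ((w : L) : G) = L.subtype w from rfl, h5]
        push_cast
        rw [hyl]
        group
      rwa [← h6]
    · -- `PS`
      intro f
      have h1 := h fun i => (f i : G)
      set S : Subgroup G := _root_.Subgroup.closure (Set.range fun i => (f i : G) * x * (f i : G)⁻¹) with hS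
      have h2 : Group.IsSolvable ↥((S.subgroupOf N).map ρ) := by
        refine isSolvable_map ?_ _
        let f : ↥(S.subgroupOf N) →* ↥S := (N.subtype.comp (S.subgroupOf N).subtype).codRestrict S
          fun s => s.2
        refine Group.isSolvable_of_isSolvable_injective (f := f) ?_
        intro s t hst
        have h4 : ((s : N) : G) = ((t : N) : G) := congrArg (fun z : ↥S => (z : G)) hst
        exact Subtype.ext (Subtype.ext h4)
      refine isSolvable_of_le ?_ h2
      rw [closure_le]
      rintro _ ⟨i, rfl⟩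
      have hi : (f i : G) * x * (f i : G)⁻¹ ∈ N := mul_mem (mul_mem (hLN (f i).2) hm) (inv_mem (hLN (f i).2))
      refine ⟨⟨_, hi⟩, ?_, ?_⟩
      · exact subset_closure ⟨i, rfl⟩
      · have : (⟨_, hi⟩ : N) = ⟨f i, hLN (f i).2⟩ * ⟨x, hm⟩ * ⟨f i, hLN (f i).2⟩⁻¹ := rfl
        rw [this, map_mul, map_mul, map_inv, hρL]

/-- pairs `x`, `g x g⁻¹` suffice for `k = 2` -/
theorem Q_two {G : Type*} [Group G] {x : G}
    (h : ∀ g : G, Group.IsSolvable ↥(_root_.Subgroup.closure ({x, g * x * g⁻¹} : Set G))) : Q 2 x := by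
  intro f
  have h1 := h ((f 0)⁻¹ * f 1)
  have h2 : (_root_.Subgroup.closure ({x, (f 0)⁻¹ * f 1 * x * ((f 0)⁻¹ * f 1)⁻¹} : Set G)).map (MulAut.conj (f 0)).toMonoidHom =
      closure (Set.range fun i => f i * x * (f i)⁻¹) := by
    rw [MonoidHom.map_closure, Set.image_pair]
    congr 1
    ext z
    simp only [Set.mem_insert_iff, Set.mem_singleton_iff, Set.mem_range, Fin.exists_fin_two,
      MulEquiv.coe_toMonoidHom, MulAut.conj_apply]
    constructor
    · rintro (rfl | rfl)
      · exact Or.inl rfl
      · right; group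
    · rintro (rfl | rfl)
      · exact Or.inl rfl
      · right; group
  rw [← h2]
  exact isSolvable_map h1 _

end Cfsg.Agent.H459.Reduce
end

-- part: H465/Red
section
set_option linter.all false
open scoped Cfsg.Agent.FastGrp

/-!
# Reduction of S3853 to simple groups (helper465)

`PE K`: (1) for every `x ≠ 1` in `Aut K` there is `y ∈ K` of odd prime power order with `⟨x, y⟩` not solvable,
(2) there are two `p`-elements of `K`, `p` odd, generating a non-solvable subgroup.

`reduction`: if `PE K` for all non-abelian finite simple groups `K` then S3853.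
-/

set_option autoImplicit false
set_option linter.unusedSectionVars false

namespace Cfsg.Agent.H465.Red

open Cfsg Subgroup Cfsg.Agent.SignalizersComponents.ComponentExists Cfsg.Agent.H459.Rad
open Cfsg.Agent.SignalizersComponents.Components Cfsg.Agent.H459.Reduce Cfsg.Agent.H465.SU

universe u

/-- an element of odd prime power order -/
def OddPow {G : Type*} [Group G] (y : G) : Prop := ∃ p k : ℕ, p.Prime ∧ p ≠ 2 ∧ orderOf y = p ^ k

/-- the property of simple groups needed -/
structure PE (K : Type*) [Group K] : Prop where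
  aut : ∀ x : MulAut K, x ≠ 1 → ∃ y : K, OddPow y ∧ ¬ Group.IsSolvable (closure ({x, MulAut.conj y} : Set (MulAut K)))
  pair : ∃ p : ℕ, p.Prime ∧ p ≠ 2 ∧ ∃ a b : K, (∃ k, orderOf a = p ^ k) ∧ (∃ k, orderOf b = p ^ k) ∧
    ¬ Group.IsSolvable (closure ({a, b} : Set K))

theorem PE.congr {K L : Type*} [Group K] [Group L] (e : K ≃* L) (h : PE K) : PE L := by
  constructor
  · intro x hx
    have hx' : MulAut.congr e.symm x ≠ 1 := fun h1 => hx ((MulAut.congr e.symm).injective (by rw [h1, map_one]))
    obtain ⟨y, ⟨p, k, hp, hp2, hy⟩, hns⟩ := h.aut _ hx'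
    refine ⟨e y, ⟨p, k, hp, hp2, by rw [MulEquiv.orderOf_eq, hy]⟩, fun hs => hns ?_⟩
    have h1 : (_root_.Subgroup.closure ({MulAut.congr e.symm x, MulAut.conj y} : Set (MulAut K))).map (MulAut.congr e).toMonoidHom =
        _root_.Subgroup.closure ({x, MulAut.conj (e y)} : Set (MulAut L)) := by
      rw [MonoidHom.map_closure, Set.image_pair]
      have e1 : (MulAut.congr e).toMonoidHom (MulAut.congr e.symm x) = x := by
        ext l
        simp
      have e2 : (MulAut.congr e).toMonoidHom (MulAut.conj y) = MulAut.conj (e y) := by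
        ext l
        simp only [_root_.MulEquiv.toMonoidHom_eq_coe, _root_.MonoidHom.coe_coe, _root_.MulAut.congr_apply, _root_.MulEquiv.trans_apply, _root_.MulAut.conj_apply, _root_.map_mul, _root_.MulEquiv.apply_symm_apply, _root_.map_inv]
      rw [e1, e2]
    have e1 := (_root_.Subgroup.closure ({MulAut.congr e.symm x, MulAut.conj y} : Set (MulAut K))).equivMapOfInjective
      (MulAut.congr e).toMonoidHom (MulAut.congr e).injective
    rw [h1] at e1
    exact Group.isSolvable_of_isSolvable_injective (f := e1.toMonoidHom) e1.injective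
  · obtain ⟨p, hp, hp2, a, b, ⟨i, ha⟩, ⟨j, hb⟩, hns⟩ := h.pair
    refine ⟨p, hp, hp2, e a, e b, ⟨i, by rw [MulEquiv.orderOf_eq, ha]⟩, ⟨j, by rw [MulEquiv.orderOf_eq, hb]⟩,
      fun hs => hns ?_⟩
    have h1 : (_root_.Subgroup.closure ({a, b} : Set K)).map e.toMonoidHom = _root_.Subgroup.closure ({e a, e b} : Set L) := by
      rw [MonoidHom.map_closure, Set.image_pair]; rfl
    have e1 := (closure ({a, b} : Set K)).equivMapOfInjective e.toMonoidHom e.injective
    rw [h1] at e1
    exact Group.isSolvable_of_isSolvable_injective (f := e1.toMonoidHom) e1.injective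

/-- `P2` gives `PE` -/
theorem PE.of_P2 {K : Type*} [Group K] [Finite K] [IsSimpleGroup K] (hK : ¬ IsMulCommutative K) (h : P2 K) : PE K := by
  have hcen : center K = ⊥ := by
    rcases (inferInstance : (center K).Normal).eq_bot_or_eq_top with h1 | h1
    · exact h1
    · exfalso
      apply hK
      refine ⟨⟨fun a b => ?_⟩⟩
      have ha : b ∈ center K := by rw [h1]; trivial
      exact mem_center_iff.1 ha a
  have hinj : Function.Injective (MulAut.conj : K →* MulAut K) := by
    rw [← MonoidHom.ker_eq_bot_iff, eq_bot_iff, ← hcen]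
    intro z hz
    rw [mem_center_iff]
    intro l
    have h1 : MulAut.conj z l = l := by rw [MonoidHom.mem_ker.1 hz]; rfl
    rw [MulAut.conj_apply] at h1
    calc l * z = (z * l * z⁻¹) * z := by rw [h1]
      _ = z * l := by group
  constructor
  · intro x hx
    obtain ⟨y, hy, hns⟩ := h x hx
    refine ⟨y, hy, fun hs => hns ?_⟩
    have h1 : (_root_.Subgroup.closure ({y, x y} : Set K)).map (MulAut.conj : K →* MulAut K) ≤
        _root_.Subgroup.closure ({x, MulAut.conj y} : Set (MulAut K)) := by
      rw [MonoidHom.map_closure, closure_le]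
      rintro _ ⟨z, (rfl | rfl), rfl⟩
      · exact _root_.Subgroup.subset_closure (by simp)
      · have e : (MulAut.conj (x y) : MulAut K) = x * MulAut.conj y * x⁻¹ := by
          ext l
          simp only [_root_.MulAut.conj_apply, _root_.MulAut.mul_apply, _root_.MulAut.inv_apply, _root_.map_mul, _root_.MulEquiv.apply_symm_apply, _root_.map_inv]
        rw [e]
        exact mul_mem (mul_mem (_root_.Subgroup.subset_closure (by simp)) (_root_.Subgroup.subset_closure (by simp)))
          (inv_mem (_root_.Subgroup.subset_closure (by simp)))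
    have h2 := isSolvable_of_le h1 hs
    exact Group.isSolvable_of_isSolvable_injective
      (f := ((_root_.Subgroup.closure ({y, x y} : Set K)).equivMapOfInjective _ hinj).toMonoidHom) (MulEquiv.injective _)
  · obtain ⟨g, hg⟩ : ∃ g : K, g ≠ 1 := exists_ne 1
    have hx : (MulAut.conj g : MulAut K) ≠ 1 := fun h1 => hg (hinj (by rw [h1, map_one]))
    obtain ⟨y, ⟨p, k, hp, hp2, hy⟩, hns⟩ := h _ hx
    exact ⟨p, hp, hp2, y, _, ⟨k, hy⟩, ⟨k, by rw [MulEquiv.orderOf_eq, hy]⟩, hns⟩

/-- the condition of S3853 -/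
def Cond {G : Type*} [Group G] (x : G) : Prop :=
  ∀ p : ℕ, p.Prime → p ≠ 2 → ∀ y : G, (∃ k : ℕ, orderOf y = p ^ k) → Group.IsSolvable ↥(_root_.Subgroup.closure ({x, y} : Set G))

/-- lifting elements of prime power order -/
theorem exists_lift {G H : Type*} [Group G] [Finite G] [Group H] (f : G →* H) (hf : Function.Surjective f) {p k : ℕ}
    (hp : p.Prime) {h : H} (hh : orderOf h = p ^ k) : ∃ g : G, f g = h ∧ ∃ j, orderOf g = p ^ j := by
  have : Fact p.Prime := ⟨hp⟩
  obtain ⟨g0, rfl⟩ := hf h
  obtain ⟨m, n, hn, hmn⟩ := Nat.exists_eq_pow_mul_and_not_dvd (orderOf_pos g0).ne' p hp.ne_one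
  have hcop : Nat.Coprime n (p ^ k) := Nat.Coprime.pow_right k ((Nat.Prime.coprime_iff_not_dvd hp).2 hn).symm
  have hb := Nat.gcd_eq_gcd_ab n (p ^ k)
  rw [hcop] at hb
  refine ⟨g0 ^ ((n : ℤ) * n.gcdA (p ^ k)), ?_, ?_⟩
  · rw [map_zpow]
    have e : (n : ℤ) * n.gcdA (p ^ k) = 1 - ((p ^ k : ℕ) : ℤ) * n.gcdB (p ^ k) := by
      push_cast at hb ⊢
      linarith only [hb]
    rw [e, zpow_sub, zpow_one, zpow_mul, zpow_natCast, ← hh, pow_orderOf_eq_one, one_zpow, inv_one, mul_one]
  · have h1 : orderOf (g0 ^ ((n : ℤ) * n.gcdA (p ^ k))) ∣ p ^ m := by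
      rw [orderOf_dvd_iff_pow_eq_one, ← zpow_natCast, ← zpow_mul]
      have e : (n : ℤ) * n.gcdA (p ^ k) * ((p ^ m : ℕ) : ℤ) = ((p ^ m * n : ℕ) : ℤ) * n.gcdA (p ^ k) := by
        push_cast
        ring
      rw [e, zpow_mul, zpow_natCast, ← hmn, pow_orderOf_eq_one, one_zpow]
    obtain ⟨j, -, hj⟩ := (Nat.dvd_prime_pow hp).1 h1
    exact ⟨j, hj⟩

theorem Cond.quot {G : Type*} [Group G] [Finite G] {x : G} (h : Cond x) (N : Subgroup G) [N.Normal] :
    Cond (QuotientGroup.mk' N x) := by
  rintro p hp hp2 y ⟨k, hk⟩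
  obtain ⟨g, rfl, j, hj⟩ := exists_lift (QuotientGroup.mk' N) (QuotientGroup.mk'_surjective N) hp hk
  have h1 := h p hp hp2 g ⟨j, hj⟩
  have h2 : (_root_.Subgroup.closure ({x, g} : Set G)).map (QuotientGroup.mk' N) =
      _root_.Subgroup.closure ({QuotientGroup.mk' N x, QuotientGroup.mk' N g} : Set (G ⧸ N)) := by
    rw [MonoidHom.map_closure, Set.image_pair]
  rw [← h2]
  exact isSolvable_map h1 _

section Main

variable {G : Type u} [Group G] [Finite G]

/-- images under the action on a component -/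
theorem key {L : Subgroup G} {S : Subgroup G} (hS : Group.IsSolvable S) {c d : G} (hc : c ∈ S)
    (hd : d ∈ S) (hcN : c ∈ normalizer (L : Set G)) (hdN : d ∈ normalizer (L : Set G)) {c' d' : MulAut L}
    (h1 : L.normalizerMonoidHom ⟨c, hcN⟩ = c') (h2 : L.normalizerMonoidHom ⟨d, hdN⟩ = d') :
    Group.IsSolvable (closure ({c', d'} : Set (MulAut L))) := by
  have h3 : Group.IsSolvable ↥((S.subgroupOf (normalizer (L : Set G))).map L.normalizerMonoidHom) := by
    refine isSolvable_map ?_ _
    let f : ↥(S.subgroupOf (normalizer (L : Set G))) →* ↥S :=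
      ((normalizer (L : Set G)).subtype.comp (S.subgroupOf (normalizer (L : Set G))).subtype).codRestrict S
      fun s => s.2
    refine Group.isSolvable_of_isSolvable_injective (f := f) ?_
    intro s t hst
    have h4 : ((s : normalizer (L : Set G)) : G) = ((t : normalizer (L : Set G)) : G) :=
      congrArg (fun z : ↥S => (z : G)) hst
    exact Subtype.ext (Subtype.ext h4)
  refine isSolvable_of_le ?_ h3
  rw [closure_le]
  rintro y (rfl | rfl)
  · exact ⟨⟨c, hcN⟩, hc, h1⟩
  · exact ⟨⟨d, hdN⟩, hd, h2⟩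

theorem conj_injective {L : Type*} [Group L] (hcen : center L = ⊥) :
    Function.Injective (MulAut.conj : L →* MulAut L) := by
  rw [← MonoidHom.ker_eq_bot_iff, eq_bot_iff, ← hcen]
  intro z hz
  rw [mem_center_iff]
  intro l
  have h1 : MulAut.conj z l = l := by rw [MonoidHom.mem_ker.1 hz]; rfl
  rw [MulAut.conj_apply] at h1
  calc l * z = (z * l * z⁻¹) * z := by rw [h1]
    _ = z * l := by group

/-- two elements of `L` acting like inner automorphisms -/
theorem solvable_of_conj {L : Type*} [Group L] (hcen : center L = ⊥) {a b : L}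
    (h : Group.IsSolvable (closure ({MulAut.conj a, MulAut.conj b} : Set (MulAut L)))) :
    Group.IsSolvable (closure ({a, b} : Set L)) := by
  have h4 : (_root_.Subgroup.closure ({a, b} : Set L)).map (MulAut.conj : L →* MulAut L) =
      _root_.Subgroup.closure ({MulAut.conj a, MulAut.conj b} : Set (MulAut L)) := by
    rw [MonoidHom.map_closure, Set.image_pair]
  rw [← h4] at h
  exact Group.isSolvable_of_isSolvable_injective
    (f := ((_root_.Subgroup.closure ({a, b} : Set L)).equivMapOfInjective _ (conj_injective hcen)).toMonoidHom) (MulEquiv.injective _)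

theorem acts_inner {L : Subgroup G} (l : L) : L.normalizerMonoidHom ⟨(l : G), le_normalizer l.2⟩ = MulAut.conj l := by
  ext y
  rfl

theorem acts_one {L : Subgroup G} {y : G} (hy : y ∈ normalizer (L : Set G)) (hc : ∀ l ∈ L, y * l = l * y) :
    L.normalizerMonoidHom ⟨y, hy⟩ = 1 := by
  ext l
  change y * l * y⁻¹ = l
  rw [hc l l.2]; group

theorem mem_normalizer_of_comm {L : Subgroup G} {y : G} (hy : ∀ l ∈ L, y * l = l * y) :
    y ∈ normalizer (L : Set G) := by
  rw [Subgroup.mem_normalizer_iff]
  intro l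
  constructor
  · intro hl
    rw [hy l hl]; simpa using hl
  · intro hl
    have h1 := hy _ hl
    have h2 : y * l * y⁻¹ = l := by
      have h3 : y * (y * l * y⁻¹) = (y * l * y⁻¹) * y := h1
      have h4 : y * (y * l * y⁻¹) = y * l := by rw [h3]; group
      exact mul_left_cancel h4
    rwa [h2] at hl

theorem eq_one (hR : solvableRadical G = ⊥) (core : ∀ L : Subgroup G, IsSimpleGroup L → ¬ IsMulCommutative L → PE L)
    {x : G} (h : Cond x) : x = 1 := by
  by_contra hx
  obtain ⟨L, hL, l0, hl0, hne0⟩ := exists_component hR hx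
  have hsimp := component_simple hR hL
  have hcen := component_center hR hL
  have hPE := core L hsimp (quasisimple_not_isMulCommutative hL.2)
  by_cases hm : x ∈ normalizer (L : Set G)
  · -- `x` normalises `L`
    set x' : MulAut L := L.normalizerMonoidHom ⟨x, hm⟩ with hx'
    have hx1 : x' ≠ 1 := by
      intro h1
      apply hne0
      have h3 : ((x' ⟨l0, hl0⟩ : L) : G) = l0 := by rw [h1]; rfl
      have h4 : ((x' ⟨l0, hl0⟩ : L) : G) = x * l0 * x⁻¹ := rfl
      rw [h4] at h3
      calc x * l0 = (x * l0 * x⁻¹) * x := by group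
        _ = l0 * x := by rw [h3]
    obtain ⟨y, ⟨p, k, hp, hp2, hy⟩, hns⟩ := hPE.aut x' hx1
    have h1 := h p hp hp2 y ⟨k, by rw [orderOf_coe, hy]⟩
    exact hns (key h1 (c := x) (d := (y : G)) (_root_.Subgroup.subset_closure (by simp)) (_root_.Subgroup.subset_closure (by simp)) hm
      (le_normalizer y.2) hx'.symm (acts_inner y))
  · -- `x` moves `L`
    have hx1 : cj x L ≠ L := fun h1 => hm (mem_normalizer_of_cj h1)
    have hxi : cj x⁻¹ L ≠ L := by
      intro h1
      have h2 := mem_normalizer_of_cj h1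
      exact hm (by simpa using inv_mem h2)
    obtain ⟨p, hp, hp2, a, b, ⟨i, ha⟩, ⟨j, hb⟩, hns⟩ := hPE.pair
    have hxx : ∀ y ∈ L, ∀ l ∈ L, (x * y * x⁻¹) * l = l * (x * y * x⁻¹) := fun y hy l hl =>
      comm_of_cj_ne hL hx1 (conj_mem_cj hy) hl
    have hxxi : ∀ y ∈ L, ∀ l ∈ L, (x⁻¹ * y * x⁻¹⁻¹) * l = l * (x⁻¹ * y * x⁻¹⁻¹) := fun y hy l hl =>
      comm_of_cj_ne hL hxi (conj_mem_cj hy) hl
    set g : G := a * (x * b * x⁻¹) with hg
    -- `g` is a `p`-element
    have hgp : ∃ k, orderOf g = p ^ k := by
      have hcomm : Commute (a : G) (x * b * x⁻¹) := (hxx b b.2 a a.2).symm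
      have h1 : g ^ (p ^ (i + j)) = 1 := by
        rw [hg, hcomm.mul_pow]
        have e1 : (a : G) ^ p ^ (i + j) = 1 := by
          rw [pow_add, pow_mul, ← ha, ← orderOf_coe, pow_orderOf_eq_one, one_pow]
        have e2 : (x * b * x⁻¹) ^ p ^ (i + j) = 1 := by
          rw [conj_pow]
          have : (b : G) ^ p ^ (i + j) = 1 := by
            rw [pow_add, mul_comm (p ^ i), pow_mul, ← hb, ← orderOf_coe, pow_orderOf_eq_one, one_pow]
          rw [this, mul_one, mul_inv_cancel]
        rw [e1, e2, mul_one]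
      obtain ⟨k, -, hk⟩ := (Nat.dvd_prime_pow hp).1 (orderOf_dvd_of_pow_eq_one h1)
      exact ⟨k, hk⟩
    have hsol := h p hp hp2 g hgp
    set S := _root_.Subgroup.closure ({x, g} : Set G) with hS
    have hxS : x ∈ S := _root_.Subgroup.subset_closure (by simp)
    have hgS : g ∈ S := _root_.Subgroup.subset_closure (by simp)
    have hdS : x⁻¹ * g * x ∈ S := mul_mem (mul_mem (inv_mem hxS) hgS) hxS
    have e2 : x⁻¹ * g * x = (x⁻¹ * a * x⁻¹⁻¹) * b := by
      rw [hg]; group
    have m1 : (x * b * x⁻¹) ∈ normalizer (L : Set G) := mem_normalizer_of_comm (hxx _ b.2)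
    have m2 : (x⁻¹ * a * x⁻¹⁻¹) ∈ normalizer (L : Set G) := mem_normalizer_of_comm (hxxi _ a.2)
    have hgN : g ∈ normalizer (L : Set G) := mul_mem (le_normalizer a.2) m1
    have hdN : x⁻¹ * g * x ∈ normalizer (L : Set G) := by
      rw [e2]; exact mul_mem m2 (le_normalizer b.2)
    have r1 : L.normalizerMonoidHom ⟨g, hgN⟩ = MulAut.conj a := by
      have : (⟨g, hgN⟩ : normalizer (L : Set G)) = ⟨a, le_normalizer a.2⟩ * ⟨_, m1⟩ := rfl
      rw [this, map_mul, acts_inner, acts_one m1 (hxx _ b.2), mul_one]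
    have r2 : L.normalizerMonoidHom ⟨_, hdN⟩ = MulAut.conj b := by
      have : (⟨_, hdN⟩ : normalizer (L : Set G)) = ⟨_, m2⟩ * ⟨b, le_normalizer b.2⟩ := Subtype.ext e2
      rw [this, map_mul, acts_inner, acts_one m2 (hxxi _ a.2), one_mul]
    exact hns (solvable_of_conj hcen (key hsol hgS hdS hgN hdN r1 r2))

/-- **The reduction of S3853 to simple groups.** -/
theorem reduction (core : ∀ (K : Type u) [Group K] [Finite K] [IsSimpleGroup K], ¬ IsMulCommutative K → PE K)
    (G : Type u) [Group G] [Finite G] (x : G) :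
    x ∈ Cfsg.solvableRadical G ↔ ∀ p : ℕ, p.Prime → p ≠ 2 → ∀ y : G, (∃ k : ℕ, orderOf y = p ^ k) →
      Group.IsSolvable ↥(Subgroup.closure ({x, y} : Set G)) := by
  constructor
  · intro hx p hp hp2 y _
    have hRs := rad_solvable G
    have hRn := rad_normal G
    set R := solvableRadical G with hRdef
    -- `⟨x, y⟩ ≤ R ⟨y⟩`
    set S := _root_.Subgroup.closure ({x, y} : Set G) with hS
    have h1 : Group.IsSolvable (S.map (QuotientGroup.mk' R)) := by
      have h2 : S.map (QuotientGroup.mk' R) ≤ zpowers (QuotientGroup.mk' R y) := by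
        rw [hS, MonoidHom.map_closure, Set.image_pair, closure_le]
        rintro z (rfl | rfl)
        · have : QuotientGroup.mk' R x = 1 := (QuotientGroup.eq_one_iff x).2 hx
          rw [this]; exact one_mem _
        · exact mem_zpowers _
      refine isSolvable_of_le h2 (Group.isSolvable_of_comm fun a b => ?_)
      obtain ⟨i, hi⟩ := mem_zpowers_iff.1 a.2
      obtain ⟨j, hj⟩ := mem_zpowers_iff.1 b.2
      apply Subtype.ext
      push_cast
      rw [← hi, ← hj, ← zpow_add, ← zpow_add, add_comm]
    have h2 : Group.IsSolvable (R.subgroupOf S) := by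
      let f : ↥(R.subgroupOf S) →* ↥R := (S.subtype.comp (R.subgroupOf S).subtype).codRestrict R fun s => s.2
      refine Group.isSolvable_of_isSolvable_injective (f := f) ?_
      intro s t hst
      exact Subtype.ext (Subtype.ext (congrArg (fun z : ↥R => (z : G)) hst))
    refine Group.isSolvable_of_ker_le_range (R.subgroupOf S).subtype ((QuotientGroup.mk' R).subgroupMap S) ?_
    intro s hs
    rw [range_subtype, mem_subgroupOf]
    have h3 : (QuotientGroup.mk' R) (s : G) = 1 := congrArg Subtype.val hs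
    exact (QuotientGroup.eq_one_iff _).1 h3
  · intro h
    have hc : Cond (QuotientGroup.mk' (solvableRadical G) x) := Cond.quot (x := x) h _
    have h1 := eq_one (rad_quotient (G := G)) (fun L hL hL' => core L hL') hc
    exact (QuotientGroup.eq_one_iff x).1 h1

end Main

end Cfsg.Agent.H465.Red
end
end
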