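import Cfsg.Agent.H555.Hall.ZStar_m3
import Cfsg.Agent.Lib.MinNormal
import Cfsg.Agent.S0336
import Cfsg.Agent.Lib.Cores
import Cfsg.Agent.H331.SCExc
import Cfsg.Agent.S1163
import Cfsg.Agent.H469.PiBS.Def
import Cfsg.Prelude.Def_RootSubgroups
import Cfsg.Agent.FastGrp
import Cfsg.Agent.Prune
set_option linter.all false

section
prune_inst 0x7f00000000000000000000000000000000000000000000000000000000000000000000000000000000000000000000000000000000000000000000000000000000000000000000000000000000000000003fffffffffffffffffffffffffffbeffbdffffffff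

-- part: H465/PiBSNC
section
set_option linter.all false
open scoped Cfsg.Agent.FastGrp

/-!
# 3'-groups without elements of order `r s` (helper465, for S3876)

`NC r s H` : no commuting elements of orders `r` and `s`.

* `NC.fixed` : `N ⊴ H`, `r ∣ |H/N|`, `P` a Sylow `s`-subgroup of `N`: `|P| ≡ 1 mod r`;
* `NC.bound` : the `s`-part of a 3'-group `X` with `O_{r'}(X) = 1`;
* `NC.main` : the `s`-part of a 3'-group.
-/

set_option autoImplicit false
set_option linter.unusedSectionVars false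
set_option linter.style.haveILetI false

namespace Cfsg.Agent.H465.SporB

open Subgroup Cfsg Cfsg.Agent.H171.Odd

/-- order of `Sz(2^(2m+1))` -/
def szc (m : ℕ) : ℕ := (2 ^ (2 * m + 1)) ^ 2 * ((2 ^ (2 * m + 1)) ^ 2 + 1) * (2 ^ (2 * m + 1) - 1)

/-- no commuting elements of orders `r` and `s` -/
def NC (r s : ℕ) (H : Type*) [Group H] : Prop := ∀ y z : H, orderOf y = r → orderOf z = s → y * z ≠ z * y

variable {H : Type*} [Group H] [Finite H] {r s : ℕ}

theorem NC.subgroup (h : NC r s H) (K : Subgroup H) : NC r s K := fun y z hy hz hyz =>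
  h y z (by rw [orderOf_coe, hy]) (by rw [orderOf_coe, hz]) (congrArg Subtype.val hyz)

theorem NC.of_injective {K : Type*} [Group K] (h : NC r s H) {f : K →* H} (hf : Function.Injective f) : NC r s K :=
  fun y z hy hz hyz => h (f y) (f z) (by rw [orderOf_injective f hf, hy]) (by rw [orderOf_injective f hf, hz])
    (by rw [← map_mul, hyz, map_mul])

theorem NC.of_surjective {K : Type*} [Group K] (hr : r.Prime) (hs : s.Prime) (hrs : r ≠ s) (h : NC r s H)
    {f : H →* K} (hf : Function.Surjective f) : NC r s K := by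
  intro y z hy hz hyz
  have hc : Commute y z := hyz
  have hcop : (orderOf y).Coprime (orderOf z) := by rw [hy, hz]; exact (Nat.coprime_primes hr hs).2 hrs
  have ho := hc.orderOf_mul_eq_mul_orderOf_of_coprime hcop
  rw [hy, hz] at ho
  obtain ⟨g, hg⟩ := hf (y * z)
  have hd : r * s ∣ orderOf g := by
    rw [← ho, ← hg]
    exact orderOf_map_dvd f g
  obtain ⟨n, hn⟩ := hd
  have hg0 : 0 < orderOf g := orderOf_pos g
  have hn0 : 0 < n := by
    rcases Nat.eq_zero_or_pos n with h0 | h0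
    · rw [hn, h0, mul_zero] at hg0
      exact absurd hg0 (lt_irrefl 0)
    · exact h0
  refine h (g ^ (s * n)) (g ^ (r * n)) ?_ ?_ ?_
  · rw [orderOf_pow_of_dvd (Nat.mul_pos hs.pos hn0).ne' ⟨r, by rw [hn]; ring⟩, hn]
    rw [show r * s * n = r * (s * n) by ring, Nat.mul_div_cancel _ (Nat.mul_pos hs.pos hn0)]
  · rw [orderOf_pow_of_dvd (Nat.mul_pos hr.pos hn0).ne' ⟨s, by rw [hn]; ring⟩, hn]
    rw [show r * s * n = s * (r * n) by ring, Nat.mul_div_cancel _ (Nat.mul_pos hr.pos hn0)]
  · rw [← pow_add, ← pow_add, add_comm]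

/-- an `s`-group normalised by an element of order `r` -/
theorem NC.card_modEq (hr : r.Prime) (hs : s.Prime) (h : NC r s H) {Q : Subgroup H}
    (hQ : IsPGroup s Q) {y : H} (hy : orderOf y = r) (hn : y ∈ normalizer (Q : Set H)) : Nat.card Q ≡ 1 [MOD r] := by
  classical
  haveI : Fact r.Prime := ⟨hr⟩
  haveI : Fact s.Prime := ⟨hs⟩
  let A : Subgroup H := zpowers y
  have hA : IsPGroup r A := IsPGroup.of_card (n := 1) (by rw [Nat.card_zpowers, hy, pow_one])
  have hAn : A ≤ normalizer (Q : Set H) := by rw [zpowers_le]; exact hn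
  letI : MulAction A Q :=
    { smul := fun g y => ⟨(g : H) * y * (g : H)⁻¹, (mem_normalizer_iff.1 (hAn g.2) y).1 y.2⟩
      one_smul := fun y => Subtype.ext (by show ((1 : A) : H) * y * ((1 : A) : H)⁻¹ = y; simp)
      mul_smul := fun g h y => Subtype.ext (by
        show ((g * h : A) : H) * y * ((g * h : A) : H)⁻¹ = (g : H) * ((h : H) * y * (h : H)⁻¹) * (g : H)⁻¹
        rw [coe_mul]; group) }
  have h1 := hA.card_modEq_card_fixedPoints Q
  have h2 : Nat.card (MulAction.fixedPoints A Q) = 1 := by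
    rw [Nat.card_eq_one_iff_unique]
    refine ⟨⟨?_⟩, ⟨⟨1, ?_⟩⟩⟩
    · have h3 : ∀ z : MulAction.fixedPoints A Q, (z : Q) = 1 := by
        rintro ⟨z, hz⟩
        by_contra hz1
        have hc : y * (z : H) = z * y := by
          have h4 := congrArg Subtype.val (hz ⟨y, mem_zpowers y⟩)
          change y * (z : H) * y⁻¹ = z at h4
          calc y * (z : H) = y * z * y⁻¹ * y := by group
            _ = z * y := by rw [h4]
        obtain ⟨k, hk⟩ := hQ z
        have h5 : orderOf z ∣ s ^ k := orderOf_dvd_of_pow_eq_one hk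
        obtain ⟨j, -, hj⟩ := (Nat.dvd_prime_pow hs).1 h5
        have hj0 : j ≠ 0 := by
          rintro rfl
          rw [pow_zero, orderOf_eq_one_iff] at hj
          exact hz1 hj
        obtain ⟨i, rfl⟩ : ∃ i, j = i + 1 := ⟨j - 1, by omega⟩
        have h6 : orderOf ((z : H) ^ s ^ i) = s := by
          have h7 : orderOf (z : H) = s ^ (i + 1) := by rw [orderOf_coe, hj]
          rw [orderOf_pow_of_dvd (pow_pos hs.pos i).ne' ⟨s, by rw [h7, pow_succ]⟩, h7, pow_succ,
            Nat.mul_div_cancel_left _ (pow_pos hs.pos i)]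
        exact h y ((z : H) ^ s ^ i) hy h6 ((show Commute y (z : H) from hc).pow_right _).eq
      intro a b
      exact Subtype.ext ((h3 a).trans (h3 b).symm)
    · intro g
      apply Subtype.ext
      show (g : H) * ((1 : Q) : H) * (g : H)⁻¹ = ((1 : Q) : H)
      simp
  rw [h2] at h1
  exact h1

/-- **fixed points** -/
theorem NC.fixed (hr : r.Prime) (hs : s.Prime) (h : NC r s H) {N : Subgroup H} [N.Normal]
    (hd : r ∣ N.index) [Fact s.Prime] (P : Sylow s N) : Nat.card (P : Subgroup N) ≡ 1 [MOD r] := by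
  set Q : Subgroup H := (P : Subgroup N).map N.subtype with hQ
  have hfr : normalizer (Q : Set H) ⊔ N = ⊤ := Sylow.normalizer_sup_eq_top P
  have hrN : r ∣ Nat.card (normalizer (Q : Set H)) := by
    have h1 : N.relIndex (normalizer (Q : Set H)) = N.index := by
      rw [← Subgroup.relIndex_sup_right (H := normalizer (Q : Set H)) (K := N), hfr, Subgroup.relIndex_top_right]
    rw [← h1] at hd
    exact hd.trans (Subgroup.relIndex_dvd_card _ _)
  haveI : Fact r.Prime := ⟨hr⟩
  obtain ⟨y, hy⟩ := exists_prime_orderOf_dvd_card' r hrN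
  have h1 := h.card_modEq hr hs (Q := Q) (P.isPGroup'.map _) (y := (y : H)) (by rw [orderOf_coe, hy]) y.2
  rwa [hQ, card_map_of_injective N.subtype_injective] at h1

/-- a nontrivial subgroup of prime power order has an element of order the prime -/
theorem exists_orderOf {p : ℕ} (hp : p.Prime) {Q : Subgroup H} (hQ : IsPGroup p Q) (hQ1 : Q ≠ ⊥) :
    ∃ y ∈ Q, orderOf y = p := by
  haveI : Fact p.Prime := ⟨hp⟩
  have h1 : p ∣ Nat.card Q := by
    obtain ⟨k, hk⟩ := hQ.exists_card_eq
    rw [hk]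
    rcases Nat.eq_zero_or_pos k with h | h
    · exfalso
      rw [h, pow_zero] at hk
      exact hQ1 (card_eq_one.1 hk)
    · exact dvd_pow_self p (by omega)
  obtain ⟨y, hy⟩ := exists_prime_orderOf_dvd_card' p h1
  exact ⟨y, y.2, by rw [orderOf_coe, hy]⟩

/-- **the `s`-part of a 3'-group `X` with `O_{r'}(X) = 1`** -/
theorem NC.bound (hr : r.Prime) (hs : s.Prime) (hrs : r ≠ s) (h : NC r s H) (hO : pPrimeCore r H = ⊥)
    (h3 : ¬ 3 ∣ Nat.card H) {b : ℕ} (hb : ¬ r ^ (b + 1) ∣ Nat.card H) (w : ℕ → ℕ)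
    (hw : ∀ k, 1 ≤ k → k ≤ b → ¬ s ^ (w k + 1) ∣ r ^ k - 1) {c : ℕ}
    (hc : ∀ m, 1 ≤ m → szc m ∣ Nat.card H → r ∣ szc m → ¬ s ^ (c + 1) ∣ szc m) {a : ℕ}
    (ha : s ^ a ∣ Nat.card H) : a ≤ (∑ i ∈ Finset.range b, w (i + 1)) + b * c := by
  classical
  haveI : Fact r.Prime := ⟨hr⟩
  haveI : Fact s.Prime := ⟨hs⟩
  set W := ∑ i ∈ Finset.range b, w (i + 1) with hW
  by_cases htriv : (⊤ : Subgroup H) = ⊥
  · have h1 : Nat.card H = 1 := by rw [← Subgroup.card_top, htriv, Subgroup.card_bot]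
    rw [h1, Nat.dvd_one] at ha
    rcases Nat.pow_eq_one.1 ha with h2 | h2
    · exact absurd h2 hs.one_lt.ne'
    · omega
  obtain ⟨K, -, hK1, hKn, hKmin⟩ := Lib.MinNormal.exists_minimal_normal_le (⊤ : Subgroup H) htriv
  haveI hKN : K.Normal := normalizer_eq_top_iff.1 (top_le_iff.1 hKn)
  have hmin : ∀ M : Subgroup H, M.Normal → M ≤ K → M = ⊥ ∨ M = K := fun M hM hMK =>
    hKmin M hMK (by rw [normalizer_eq_top_iff.2 hM])
  have hrK : r ∣ Nat.card K := by
    by_contra hcon
    apply hK1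
    rw [← le_bot_iff, ← hO]
    exact Lib.Cores.le_pPrimeCore hKN (((Nat.Prime.coprime_iff_not_dvd hr).2 hcon).symm)
  -- Frattini
  obtain ⟨P⟩ : Nonempty (Sylow r K) := inferInstance
  set Q : Subgroup H := (P : Subgroup K).map K.subtype with hQ
  have hQp : IsPGroup r Q := P.isPGroup'.map _
  have hQ1 : Q ≠ ⊥ := by
    intro h1
    rw [hQ, map_eq_bot_iff_of_injective _ K.subtype_injective] at h1
    have h2 := P.card_mul_index
    rw [h1, card_bot, one_mul] at h2
    apply P.not_dvd_index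
    rw [h1, h2]
    exact hrK
  have hfr : normalizer (Q : Set H) ⊔ K = ⊤ := Sylow.normalizer_sup_eq_top P
  have hidx : K.index ∣ Nat.card (normalizer (Q : Set H)) := by
    have h1 : K.relIndex (normalizer (Q : Set H)) = K.index := by
      rw [← Subgroup.relIndex_sup_right (H := normalizer (Q : Set H)) (K := K), hfr, Subgroup.relIndex_top_right]
    rw [← h1]
    exact Subgroup.relIndex_dvd_card _ _
  -- a Sylow `s`-subgroup of the normaliser
  obtain ⟨S⟩ : Nonempty (Sylow s (normalizer (Q : Set H))) := inferInstance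
  set S' : Subgroup H := (S : Subgroup (normalizer (Q : Set H))).map (normalizer (Q : Set H)).subtype with hS'
  have hS'p : IsPGroup s S' := S.isPGroup'.map _
  have hS'n : S' ≤ normalizer (Q : Set H) := map_subtype_le _
  have hcS' : Nat.card S' = Nat.card (S : Subgroup (normalizer (Q : Set H))) :=
    card_map_of_injective (subtype_injective _)
  have hker := card_dvd_kernel (s := s) (t := r) hrs.symm hb w hw hQp b S' hS'p hS'n (by
    intro k j hk _
    obtain ⟨k', hk', hk''⟩ := card_pgroup hb hQp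
    have : k = k' := Nat.pow_right_injective hr.two_le (hk.symm.trans hk'')
    omega)
  have htr : S' ⊓ centralizer (Q : Set H) = ⊥ := by
    by_contra hne
    obtain ⟨z, hz, hzs⟩ := exists_orderOf hs (hS'p.to_le inf_le_left) hne
    obtain ⟨y, hy, hyr⟩ := exists_orderOf hr hQp hQ1
    exact h y z hyr hzs (mem_centralizer_iff.1 hz.2 y hy)
  rw [htr, card_bot, one_mul] at hker
  -- `s ^ a ∣ |K| s ^ W`
  have h1 : s ^ a ∣ Nat.card K * s ^ W := by
    have h2 : s ^ a ∣ Nat.card K * Nat.card (normalizer (Q : Set H)) := by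
      rw [← K.card_mul_index] at ha
      exact ha.trans (mul_dvd_mul_left _ hidx)
    rw [← S.card_mul_index, ← mul_assoc, ← hcS'] at h2
    have h3 := (Nat.Coprime.pow_left a ((Nat.Prime.coprime_iff_not_dvd hs).2 S.not_dvd_index)).dvd_of_dvd_mul_right h2
    exact h3.trans (mul_dvd_mul_left _ hker)
  -- `K ≅ T ^ m`
  obtain ⟨T, m, hTK, hTs, hm, ⟨e⟩⟩ := Lib.MinNormal.exists_mulEquiv_pi K hK1 hmin
  have hcK : Nat.card K = Nat.card T ^ m := by
    rw [Nat.card_congr e.toEquiv, Nat.card_pi, Finset.prod_const, Finset.card_univ, Fintype.card_fin]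
  have hrT : r ∣ Nat.card T := hr.dvd_of_dvd_pow (hcK ▸ hrK)
  have hmb : m ≤ b := by
    by_contra hlt
    apply hb
    refine ((pow_dvd_pow r (by omega : b + 1 ≤ m)).trans (pow_dvd_pow_of_dvd hrT m)).trans ?_
    rw [← hcK]
    exact card_subgroup_dvd_card K
  have hT0 : Nat.card T ≠ 0 := Nat.card_pos.ne'
  have hval : padicValNat s (Nat.card T) ≤ c := by
    by_cases hab : ∃ x y : T, x * y ≠ y * x
    · have h3T : ¬ 3 ∣ Nat.card T := fun hd => h3 (hd.trans (card_subgroup_dvd_card T))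
      obtain ⟨-, m', hm', hcT⟩ := Cfsg.Agent.S0336.result hab h3T
      have hcT' : Nat.card T = szc m' := hcT
      have h4 := hc m' hm' (hcT' ▸ card_subgroup_dvd_card T) (hcT' ▸ hrT)
      rw [← hcT'] at h4
      by_contra hlt
      exact h4 ((padicValNat_dvd_iff_le hT0).2 (by omega))
    · push Not at hab
      letI : CommGroup T := { (inferInstance : Group T) with mul_comm := hab }
      have h4 : (Nat.card T).Prime := IsSimpleGroup.prime_card (α := T)
      have h5 : r = Nat.card T := (Nat.prime_dvd_prime_iff_eq hr h4).1 hrT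
      rw [← h5, padicValNat_primes hrs.symm]
      exact Nat.zero_le c
  have h5 : a ≤ padicValNat s (Nat.card K * s ^ W) :=
    (padicValNat_dvd_iff_le (Nat.mul_ne_zero Nat.card_pos.ne' (pow_pos hs.pos W).ne')).1 h1
  rw [padicValNat.mul Nat.card_pos.ne' (pow_pos hs.pos W).ne', padicValNat.prime_pow, hcK,
    padicValNat.pow] at h5
  calc a ≤ m * padicValNat s (Nat.card T) + W := h5
    _ ≤ b * c + W := Nat.add_le_add_right (Nat.mul_le_mul hmb hval) W
    _ = W + b * c := Nat.add_comm _ _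

/-- **the `s`-part of a 3'-group** -/
theorem NC.main (hr : r.Prime) (hs : s.Prime) (hrs : r ≠ s) (h : NC r s H) (hrH : r ∣ Nat.card H)
    (h3 : ¬ 3 ∣ Nat.card H) {b : ℕ} (hb : ¬ r ^ (b + 1) ∣ Nat.card H) (w : ℕ → ℕ)
    (hw : ∀ k, 1 ≤ k → k ≤ b → ¬ s ^ (w k + 1) ∣ r ^ k - 1) {c : ℕ}
    (hc : ∀ m, 1 ≤ m → szc m ∣ Nat.card H → r ∣ szc m → ¬ s ^ (c + 1) ∣ szc m) {a : ℕ}
    (ha : s ^ a ∣ Nat.card H) (ha' : ¬ s ^ (a + 1) ∣ Nat.card H) :
    ∃ j, j ≤ a ∧ a ≤ j + ((∑ i ∈ Finset.range b, w (i + 1)) + b * c) ∧ s ^ j ≡ 1 [MOD r] := by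
  classical
  haveI : Fact r.Prime := ⟨hr⟩
  haveI : Fact s.Prime := ⟨hs⟩
  set N := pPrimeCore r H with hN
  haveI hNn : N.Normal := Lib.Cores.pPrimeCore_normal r
  have hNc : (Nat.card N).Coprime r := Lib.Cores.pPrimeCore_coprime r
  have hidx : r ∣ N.index := by
    rw [← N.card_mul_index] at hrH
    exact hNc.symm.dvd_of_dvd_mul_left hrH
  obtain ⟨P⟩ : Nonempty (Sylow s N) := inferInstance
  have h1 := h.fixed hr hs hidx P
  obtain ⟨j, hj⟩ := P.isPGroup'.exists_card_eq
  rw [hj] at h1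
  have hcardq : Nat.card (H ⧸ N) ∣ Nat.card H := Subgroup.card_quotient_dvd_card N
  have hq : pPrimeCore r (H ⧸ N) = ⊥ := Lib.Cores.pPrimeCore_quotient_pPrimeCore r
  have hNCq : NC r s (H ⧸ N) := h.of_surjective hr hs hrs (QuotientGroup.mk'_surjective N)
  have hja : j ≤ a := by
    by_contra hlt
    apply ha'
    refine (pow_dvd_pow s (by omega : a + 1 ≤ j)).trans ?_
    rw [← hj]
    exact (card_subgroup_dvd_card _).trans (card_subgroup_dvd_card N)
  refine ⟨j, hja, ?_, h1⟩
  have h2 : s ^ (a - j) ∣ Nat.card (H ⧸ N) := by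
    have h3 : s ^ j * s ^ (a - j) ∣ s ^ j * ((P : Subgroup N).index * N.index) := by
      rw [← pow_add, Nat.add_sub_cancel' hja, ← mul_assoc, ← hj, P.card_mul_index, N.card_mul_index]
      exact ha
    have h4 := Nat.dvd_of_mul_dvd_mul_left (pow_pos hs.pos j) h3
    rw [← Subgroup.index_eq_card]
    exact (Nat.Coprime.pow_left _ ((Nat.Prime.coprime_iff_not_dvd hs).2 P.not_dvd_index)).dvd_of_dvd_mul_left h4
  have h5 := hNCq.bound hr hs hrs hq (fun hd => h3 (hd.trans hcardq)) (fun hd => hb (hd.trans hcardq)) w hw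
    (fun m hm hd => hc m hm (hd.trans hcardq)) h2
  omega

end Cfsg.Agent.H465.SporB
end

-- part: H465/PiBSSporB
section
set_option linter.all false
open scoped Cfsg.Agent.FastGrp

-- part: H511/GW/SolvThree
section
/-!
# TEAM GW: `3'`-groups of small order are solvable (helper511)
-/

set_option autoImplicit false

namespace Cfsg.Agent.H511.GW

open Subgroup

universe u

/-- a nonsolvable finite group has a nonabelian simple section of order dividing its order -/
theorem exists_simple_of_not_solvable : ∀ (m : ℕ) (X : Type u) [Group X] [Finite X], Nat.card X = m →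
    ¬ Group.IsSolvable X → ∃ (S : Type u) (_ : Group S), Finite S ∧ IsSimpleGroup S ∧ (∃ a b : S, a * b ≠ b * a) ∧
      Nat.card S ∣ Nat.card X := by
  intro m
  induction m using Nat.strong_induction_on with
  | _ m ih =>
  intro X _ _ hm hX
  have hnt : Nontrivial X := by
    by_contra h
    rw [not_nontrivial_iff_subsingleton] at h
    exact hX inferInstance
  -- a maximal proper normal subgroup
  have hfin : {L : Subgroup X | L.Normal ∧ L ≠ ⊤}.Finite := Set.toFinite _
  obtain ⟨M, ⟨hM, hM1⟩, hmax⟩ := hfin.exists_maximal ⟨⊥, inferInstance, bot_ne_top⟩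
  have hlt : Nat.card M < m := by
    rw [← hm]
    have h1 := M.card_mul_index
    have h2 : M.index ≠ 1 := fun h => hM1 (index_eq_one.1 h)
    have h3 : 0 < M.index := Nat.pos_of_ne_zero index_ne_zero_of_finite
    have h4 : 0 < Nat.card M := Nat.card_pos
    have h5 : 2 ≤ M.index := by omega
    nlinarith
  by_cases hMs : Group.IsSolvable M
  · have hsimple : IsSimpleGroup (X ⧸ M) := by
      have hntq : Nontrivial (X ⧸ M) := by
        obtain ⟨y, hy⟩ : ∃ y, y ∉ M := by
          by_contra h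
          push Not at h
          exact hM1 (eq_top_iff.2 fun y _ => h y)
        exact ⟨QuotientGroup.mk' M y, 1, fun h => hy ((QuotientGroup.eq_one_iff _).1 h)⟩
      refine ⟨fun L hL => ?_⟩
      by_cases hL1 : L = ⊤
      · exact Or.inr hL1
      · left
        have h1 : M ≤ L.comap (QuotientGroup.mk' M) := by
          intro y hy
          rw [mem_comap]
          have : QuotientGroup.mk' M y = 1 := (QuotientGroup.eq_one_iff _).2 hy
          rw [this]; exact one_mem _
        have h2 : L.comap (QuotientGroup.mk' M) ≠ ⊤ := by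
          intro h
          apply hL1
          rw [eq_top_iff]
          intro y _
          obtain ⟨z, rfl⟩ := QuotientGroup.mk'_surjective M y
          have h3 : z ∈ L.comap (QuotientGroup.mk' M) := by rw [h]; trivial
          exact h3
        have h3 := hmax (y := L.comap (QuotientGroup.mk' M)) ⟨hL.comap _, h2⟩ h1
        rw [eq_bot_iff]
        intro y hy
        obtain ⟨z, rfl⟩ := QuotientGroup.mk'_surjective M y
        exact (QuotientGroup.eq_one_iff _).2 (h3 hy)
    refine ⟨X ⧸ M, inferInstance, inferInstance, hsimple, ?_, card_quotient_dvd_card M⟩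
    by_contra hcon
    push Not at hcon
    apply hX
    have h1 : Group.IsSolvable (X ⧸ M) := Group.isSolvable_of_comm hcon
    exact Group.isSolvable_of_ker_le_range M.subtype (QuotientGroup.mk' M) (by
      rw [QuotientGroup.ker_mk', range_subtype])
  · obtain ⟨S, hS, h1, h2, h3, h4⟩ := ih _ hlt M rfl hMs
    exact ⟨S, hS, h1, h2, h3, h4.trans (card_subgroup_dvd_card M)⟩

end Cfsg.Agent.H511.GW
end

-- part: H465/PiBSSporB
section
/-!
# The rows of S3876 with `2 ∈ π`, `3 ∉ π` (helper465)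

* `Inv3 S` : every involution `x` of `Aut S` has some `[x, s]` of order divisible by 3;
* `Guest S` : the statement of S3829 for `S`;
* `Kill S` : numerical data against `Sz(2^(2m+1))`;
* `row_of` : `Row π S`.
-/

set_option autoImplicit false
set_option linter.unusedSectionVars false
set_option linter.style.haveILetI false

universe u

namespace Cfsg.Agent.H465.SporB

open Subgroup Cfsg Cfsg.Agent.H469.PiBS

/-- every involution of `Aut S` has some `[x, s]` of order divisible by 3 -/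
def Inv3 (S : Type*) [Group S] : Prop := ∀ x : MulAut S, orderOf x = 2 → ∃ a : S, 3 ∣ orderOf (x a * a⁻¹)

/-- the statement of S3829 for `S` -/
def Guest (S : Type*) [Group S] : Prop := ∀ p : ℕ, p.Prime → 5 ≤ p → ∀ x : S, orderOf x = p →
  (∀ g : S, Group.IsSolvable ↥(closure ({x, g * x * g⁻¹} : Set S))) → x ∈ solvableRadical S

/-- automorphisms of odd order are inner -/
def OI (S : Type*) [Group S] : Prop := ∀ α : MulAut S, Odd (orderOf α) → ∃ g : S, α = MulAut.conj g

/-- data excluding a Hall subgroup of order divisible by `|Sz(2^(2m+1))|` -/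
def KillAt (S : Type*) [Group S] (m : ℕ) : Prop :=
  ∃ (r s a b c : ℕ) (w : ℕ → ℕ), r.Prime ∧ s.Prime ∧ r ≠ s ∧ NC r s S ∧ r ∣ szc m ∧ s ∣ szc m ∧
    ¬ r ^ (b + 1) ∣ Nat.card S ∧ (∀ k, 1 ≤ k → k ≤ b → ¬ s ^ (w k + 1) ∣ r ^ k - 1) ∧
    (∀ m', 1 ≤ m' → szc m' ∣ Nat.card S → r ∣ szc m' → ¬ s ^ (c + 1) ∣ szc m') ∧
    s ^ a ∣ Nat.card S ∧ ¬ s ^ (a + 1) ∣ Nat.card S ∧
    ∀ j, j ≤ a → a ≤ j + ((∑ i ∈ Finset.range b, w (i + 1)) + b * c) → ¬ s ^ j ≡ 1 [MOD r]

/-- all Suzuki groups are excluded -/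
def Kill (S : Type*) [Group S] : Prop := ∀ m, 1 ≤ m → szc m ∣ Nat.card S → KillAt S m

/-- a nonsolvable 3'-group has order divisible by the order of a Suzuki group -/
theorem exists_szc {L : Type u} [Group L] [Finite L] (hL : ¬ Group.IsSolvable L) (h3 : ¬ 3 ∣ Nat.card L) :
    ∃ m, 1 ≤ m ∧ szc m ∣ Nat.card L := by
  obtain ⟨T, iT, hfin, hs, hab, hd⟩ := H511.GW.exists_simple_of_not_solvable _ L rfl hL
  have h3T : ¬ 3 ∣ Nat.card T := fun h => h3 (h.trans hd)
  obtain ⟨-, m, hm, hc⟩ := Cfsg.Agent.S0336.result hab h3T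
  have hc' : Nat.card T = szc m := hc
  exact ⟨m, hm, hc' ▸ hd⟩

section

variable {π : Set ℕ} {S : Type u} [Group S] [Finite S] {A : Subgroup (MulAut S)} {x : MulAut S} {l : ℕ}

theorem solvableRadical_eq_bot (hs : IsSimpleGroup S) (hna : ¬ IsMulCommutative S) : solvableRadical S = ⊥ := by
  rw [eq_bot_iff]
  refine sSup_le ?_
  rintro N ⟨hN, hNs⟩
  rcases hs.eq_bot_or_eq_top_of_normal N hN with h | h
  · exact h.le
  · exfalso
    subst h
    have h1 : Group.IsSolvable S := Group.isSolvable_of_surjective (f := (Subgroup.topEquiv (G := S)).toMonoidHom)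
      (Subgroup.topEquiv (G := S)).surjective
    exact hna ⟨⟨IsSimpleGroup.comm_iff_isSolvable.mpr h1⟩⟩

theorem center_eq_bot (hs : IsSimpleGroup S) (hna : ¬ IsMulCommutative S) : center S = ⊥ := by
  rcases hs.eq_bot_or_eq_top_of_normal (center S) inferInstance with h | h
  · exact h
  · exfalso
    apply hna
    refine ⟨⟨fun a b => ?_⟩⟩
    have h4 : b ∈ center S := h ▸ mem_top b
    exact (mem_center_iff.1 h4 a)

/-- **the case `l = 2`** -/
theorem false_of_inv3 (h : Hyp π A x l) (hZ : center S = ⊥) (h3 : 3 ∉ π)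
    (hx : ∃ a : S, 3 ∣ orderOf (x a * a⁻¹)) : False := by
  obtain ⟨a, ha⟩ := hx
  exact h3 (h.pi_orderOf hZ a Nat.prime_three ha)

/-- **`l ≥ 5`: a nonsolvable `π`-subgroup of `S`** -/
theorem exists_nonsolvable (h : Hyp π A x l) (hs : IsSimpleGroup S) (hna : ¬ IsMulCommutative S) (hl : 5 ≤ l)
    (hOI : OI S) (hG : Guest S) : ∃ L : Subgroup S, ¬ Group.IsSolvable L ∧ IsPiSubgroup π L := by
  have hZ := center_eq_bot hs hna
  have hodd : Odd (orderOf x) := by
    rw [h.ord]
    exact h.prime.odd_of_ne_two (by omega)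
  obtain ⟨g, rfl⟩ := hOI x hodd
  have hg : orderOf g = l := by rw [← orderOf_injective _ (conj_injective hZ), h.ord]
  have hg1 : g ≠ 1 := by
    rintro rfl
    rw [orderOf_one] at hg
    omega
  by_contra hcon
  push Not at hcon
  have h1 := hG l h.prime hl g hg (fun s => by
    by_contra hns
    refine hcon _ hns ?_
    have h2 := h.pair_inn s
    have h3 : (closure ({g, s * g * s⁻¹} : Set S)).map (MulAut.conj : S →* MulAut S) =
        closure ({MulAut.conj g, MulAut.conj s * MulAut.conj g * (MulAut.conj s)⁻¹} : Set (MulAut S)) := by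
      rw [MonoidHom.map_closure, Set.image_pair, map_mul, map_mul, map_inv]
    rw [← h3] at h2
    intro p hp hd
    refine h2 p hp ?_
    rwa [card_map_of_injective (conj_injective hZ)])
  rw [solvableRadical_eq_bot hs hna, mem_bot] at h1
  exact hg1 h1

/-- **numerical contradiction** -/
theorem false_of_kill (h : Hyp π A x l) (h3 : 3 ∉ π) (hK : Kill S) {L : Subgroup S} (hL : ¬ Group.IsSolvable L)
    (hLπ : IsPiSubgroup π L) : False := by
  obtain ⟨m, hm, hmd⟩ := exists_szc hL fun hd => h3 (hLπ 3 Nat.prime_three hd)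
  obtain ⟨r, s, a, b, c, w, hr, hs, hrs, hNC, hrm, hsm, hb, hw, hc, ha, ha', hj⟩ :=
    hK m hm (hmd.trans (card_subgroup_dvd_card L))
  have hrπ : r ∈ π := hLπ r hr (hrm.trans hmd)
  have hsπ : s ∈ π := hLπ s hs (hsm.trans hmd)
  obtain ⟨H, hH⟩ := h.exists_hall
  have hHS : Nat.card H ∣ Nat.card S := card_subgroup_dvd_card H
  have hrH : r ∣ Nat.card H := by
    have h1 : r ∣ Nat.card S := (hrm.trans hmd).trans (card_subgroup_dvd_card L)
    rw [← H.card_mul_index] at h1
    exact (hr.dvd_mul.1 h1).resolve_right (hH.2 r hr hrπ)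
  have haH : s ^ a ∣ Nat.card H := by
    rw [← H.card_mul_index] at ha
    exact (Nat.Coprime.pow_left _ ((Nat.Prime.coprime_iff_not_dvd hs).2 (hH.2 s hs hsπ))).dvd_of_dvd_mul_right ha
  obtain ⟨j, hja, hj1, hj2⟩ := (hNC.subgroup H).main hr hs hrs hrH (fun hd => h3 (hH.1 3 Nat.prime_three hd))
    (fun hd => hb (hd.trans hHS)) w hw (fun m' hm' hd => hc m' hm' (hd.trans hHS)) haH
    (fun hd => ha' (hd.trans hHS))
  exact hj j hja hj1 hj2

/-- **The rows with `3 ∉ π`.** -/
theorem row_of (hs : IsSimpleGroup S) (hna : ¬ IsMulCommutative S) (h3 : 3 ∉ π) (hOI : OI S) (hG : Guest S)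
    (hI : Inv3 S) (hK : Kill S) : Row π S := by
  intro A x l h
  exfalso
  rcases h.prime.eq_two_or_odd with h2 | ho
  · exact false_of_inv3 h (center_eq_bot hs hna) h3 (hI x (h.ord.trans h2))
  · have hl : 5 ≤ l := by
      have h4 : l ≠ 3 := fun h5 => h3 (h5 ▸ h.lpi)
      have h6 : l ≠ 1 := h.prime.one_lt.ne'
      omega
    obtain ⟨L, hL, hLπ⟩ := exists_nonsolvable h hs hna hl hOI hG
    exact false_of_kill h h3 hK hL hLπ

end

/-! ### Numbers -/

theorem two_pow_dvd_szc (m : ℕ) : 2 ^ (4 * m + 2) ∣ szc m := by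
  unfold szc
  rw [mul_assoc]
  refine dvd_mul_of_dvd_left ?_ _
  rw [← pow_mul]
  exact pow_dvd_pow 2 (by omega)

theorem le_of_szc_dvd {N K m : ℕ} (h : ¬ 2 ^ K ∣ N) (hd : szc m ∣ N) : 4 * m + 2 < K := by
  by_contra hlt
  exact h ((pow_dvd_pow 2 (by omega : K ≤ 4 * m + 2)).trans ((two_pow_dvd_szc m).trans hd))

/-- no Suzuki group at all -/
theorem Kill.of_not_dvd {S : Type*} [Group S] {K : ℕ} (h : ¬ 2 ^ K ∣ Nat.card S)
    (hm : ∀ m, 1 ≤ m → 4 * m + 2 < K → ¬ szc m ∣ Nat.card S) : Kill S := fun m hm1 hd =>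
  absurd hd (hm m hm1 (le_of_szc_dvd h hd))

/-- only `Sz(8)`, `13² ∤ |S|` -/
theorem Kill.of_thirteen {S : Type*} [Group S] {K : ℕ} (h : ¬ 2 ^ K ∣ Nat.card S)
    (hm : ∀ m, 2 ≤ m → 4 * m + 2 < K → ¬ szc m ∣ Nat.card S) (h13 : ¬ 13 ^ 2 ∣ Nat.card S) {s a : ℕ}
    (hs : s = 5 ∨ s = 7) (hNC : NC 13 s S) (ha : s ^ a ∣ Nat.card S) (ha' : ¬ s ^ (a + 1) ∣ Nat.card S)
    (hj : ∀ j, j ≤ a → a ≤ j + 1 → ¬ s ^ j ≡ 1 [MOD 13]) : Kill S := by
  intro m hm1 hd
  have h1 : m = 1 := by
    by_contra hne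
    exact hm m (by omega) (le_of_szc_dvd h hd) hd
  subst h1
  have hsp : s.Prime := by rcases hs with rfl | rfl <;> norm_num
  have hone : ∀ m', 1 ≤ m' → szc m' ∣ Nat.card S → m' = 1 := by
    intro m' hm' hd'
    by_contra hne
    exact hm m' (by omega) (le_of_szc_dvd h hd') hd'
  refine ⟨13, s, a, 1, 1, fun _ => 0, by norm_num, hsp, ?_, hNC, ?_, ?_, h13, ?_, ?_, ha, ha', ?_⟩
  · rcases hs with rfl | rfl <;> norm_num
  · norm_num [szc]
  · rcases hs with rfl | rfl <;> norm_num [szc]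
  · intro k hk1 hk2
    obtain rfl : k = 1 := by omega
    rcases hs with rfl | rfl <;> norm_num
  · intro m' hm' hd' _
    rw [hone m' hm' hd']
    rcases hs with rfl | rfl <;> norm_num [szc]
  · intro j hja hj1
    exact hj j hja (by simpa using hj1)

end Cfsg.Agent.H465.SporB
end

private theorem dce_e40b5b8e62dc : _root_.True := by
  try have : _root_.True := by simp only [_root_.Cfsg.Agent.H465.SporB.szc.eq_1]
  exact _root_.True.intro
end
end
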