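import Cfsg.Agent.H465.PiBSSporB
import Cfsg.Agent.Lib.NormalAbelian
import Cfsg.Agent.MThirteen.FiveRow
import Cfsg.Agent.S0016
import Cfsg.Agent.FastGrp
import Cfsg.Agent.Prune
set_option linter.all false
prune_inst 0x7f00000000000000000000000000000000000000000000000000000000000000000000000000000000000000000000000000000000000000000000000000000000000000000000000000000000000000003fffffffffffffffffffffffffffbeffbdffffffff
open scoped Cfsg.Agent.FastGrp

-- part: H465/PiBSNCTwo
section
/-!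
# 3'-groups: centralizers of the `r`-central elements of order `r` (helper465, for S3876)

* `bound_central` : `X` a 3'-group with `O_{r'}(X) = 1`;
* `main_central` : a 3'-group `H` of order divisible by `r` has an element `y` of order `r`, central in a Sylow
  `r`-subgroup, whose centralizer contains a large part of a Sylow `s`-subgroup.
-/

set_option autoImplicit false
set_option linter.unusedSectionVars false
set_option linter.style.haveILetI false

namespace Cfsg.Agent.H465.SporB

open Subgroup Cfsg Cfsg.Agent.H171.Odd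

variable {H : Type*} [Group H] [Finite H] {r s : ℕ}

/-- **`X` a 3'-group with `O_{r'}(X) = 1`** -/
theorem bound_central (hr : r.Prime) (hs : s.Prime) (hrs : r ≠ s) (hO : pPrimeCore r H = ⊥) (hrH : r ∣ Nat.card H)
    (h3 : ¬ 3 ∣ Nat.card H) {b : ℕ} (hb : ¬ r ^ (b + 1) ∣ Nat.card H) (w : ℕ → ℕ)
    (hw : ∀ k, 1 ≤ k → k ≤ b → ¬ s ^ (w k + 1) ∣ r ^ k - 1) {c : ℕ}
    (hc : ∀ m, 1 ≤ m → szc m ∣ Nat.card H → r ∣ szc m → ¬ s ^ (c + 1) ∣ szc m) {a : ℕ}
    (ha : s ^ a ∣ Nat.card H) : ∃ y : H, orderOf y = r ∧ ¬ r ∣ (centralizer ({y} : Set H)).index ∧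
      s ^ (a - ((∑ i ∈ Finset.range b, w (i + 1)) + b * c)) ∣ Nat.card ↥(centralizer ({y} : Set H)) := by
  classical
  haveI : Fact r.Prime := ⟨hr⟩
  haveI : Fact s.Prime := ⟨hs⟩
  set W := ∑ i ∈ Finset.range b, w (i + 1) with hW
  have htriv : (⊤ : Subgroup H) ≠ ⊥ := by
    intro h
    have h1 : Nat.card H = 1 := by rw [← Subgroup.card_top, h, Subgroup.card_bot]
    rw [h1, Nat.dvd_one] at hrH
    exact hr.one_lt.ne' hrH
  obtain ⟨K, -, hK1, hKn, hKmin⟩ := Lib.MinNormal.exists_minimal_normal_le (⊤ : Subgroup H) htriv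
  haveI hKN : K.Normal := normalizer_eq_top_iff.1 (top_le_iff.1 hKn)
  have hmin : ∀ M : Subgroup H, M.Normal → M ≤ K → M = ⊥ ∨ M = K := fun M hM hMK =>
    hKmin M hMK (by rw [normalizer_eq_top_iff.2 hM])
  have hrK : r ∣ Nat.card K := by
    by_contra hcon
    apply hK1
    rw [← le_bot_iff, ← hO]
    exact Lib.Cores.le_pPrimeCore hKN (((Nat.Prime.coprime_iff_not_dvd hr).2 hcon).symm)
  -- Frattini
  obtain ⟨P⟩ : Nonempty (Sylow r K) := inferInstance
  set Q : Subgroup H := (P : Subgroup K).map K.subtype with hQ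
  have hQp : IsPGroup r Q := P.isPGroup'.map _
  have hQK : Q ≤ K := map_subtype_le _
  have hQ1 : Q ≠ ⊥ := by
    intro h1
    rw [hQ, map_eq_bot_iff_of_injective _ K.subtype_injective] at h1
    have h2 := P.card_mul_index
    rw [h1, card_bot, one_mul] at h2
    apply P.not_dvd_index
    rw [h1, h2]
    exact hrK
  have hfr : normalizer (Q : Set H) ⊔ K = ⊤ := Sylow.normalizer_sup_eq_top P
  have hidx : K.index ∣ Nat.card (normalizer (Q : Set H)) := by
    have h1 : K.relIndex (normalizer (Q : Set H)) = K.index := by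
      rw [← Subgroup.relIndex_sup_right (H := normalizer (Q : Set H)) (K := K), hfr, Subgroup.relIndex_top_right]
    rw [← h1]
    exact Subgroup.relIndex_dvd_card _ _
  -- a Sylow subgroup containing `Q`
  obtain ⟨R, hQR⟩ := hQp.exists_le_sylow
  have hRK : ∀ g ∈ (R : Subgroup H), g ∈ K → g ∈ Q := by
    intro g hgR hgK
    have h1 : IsPGroup r ↥(((R : Subgroup H) ⊓ K).subgroupOf K) :=
      (R.isPGroup'.to_le inf_le_left).comap_of_injective K.subtype K.subtype_injective
    have h2 : (P : Subgroup K) ≤ ((R : Subgroup H) ⊓ K).subgroupOf K := by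
      intro k hk
      exact mem_subgroupOf.2 (mem_inf.2 ⟨hQR ⟨k, hk, rfl⟩, k.2⟩)
    have h3 := P.is_maximal' h1 h2
    have h4 : (⟨g, hgK⟩ : K) ∈ ((R : Subgroup H) ⊓ K).subgroupOf K := mem_subgroupOf.2 (mem_inf.2 ⟨hgR, hgK⟩)
    rw [h3] at h4
    exact ⟨_, h4, rfl⟩
  haveI hN : (Q.subgroupOf (R : Subgroup H)).Normal := ⟨fun q hq g => by
    rw [mem_subgroupOf] at hq ⊢
    exact hRK _ (g * q * g⁻¹ : ↥(R : Subgroup H)).2 (hKN.conj_mem _ (hQK hq) g)⟩
  haveI hnil : Group.IsNilpotent ↥(R : Subgroup H) := R.isPGroup'.isNilpotent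
  have hQR1 : Q.subgroupOf (R : Subgroup H) ≠ ⊥ := by
    intro h
    rw [subgroupOf_eq_bot] at h
    exact hQ1 (disjoint_self.1 (h.mono_right hQR))
  have hzc := Lib.NormalAbelian.normal_inf_center_ne_bot (Q.subgroupOf (R : Subgroup H)) hQR1
  obtain ⟨y, hy, hyr⟩ := exists_orderOf hr
    ((R.isPGroup'.to_subgroup (Q.subgroupOf (R : Subgroup H) ⊓ center ↥(R : Subgroup H)))) hzc
  have hyQ : (y : H) ∈ Q := mem_subgroupOf.1 hy.1
  have hRC : (R : Subgroup H) ≤ centralizer ({(y : H)} : Set H) := by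
    intro g hg
    rw [mem_centralizer_singleton_iff]
    exact congrArg Subtype.val (mem_center_iff.1 hy.2 ⟨g, hg⟩)
  refine ⟨y, by rw [orderOf_coe, hyr], fun h => R.not_dvd_index (h.trans (index_dvd_of_le hRC)), ?_⟩
  -- a Sylow `s`-subgroup of the normaliser
  obtain ⟨S⟩ : Nonempty (Sylow s (normalizer (Q : Set H))) := inferInstance
  set S' : Subgroup H := (S : Subgroup (normalizer (Q : Set H))).map (normalizer (Q : Set H)).subtype with hS'
  have hS'p : IsPGroup s S' := S.isPGroup'.map _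
  have hS'n : S' ≤ normalizer (Q : Set H) := map_subtype_le _
  have hcS' : Nat.card S' = Nat.card (S : Subgroup (normalizer (Q : Set H))) :=
    card_map_of_injective (subtype_injective _)
  have hker := card_dvd_kernel (s := s) (t := r) hrs.symm hb w hw hQp b S' hS'p hS'n (by
    intro k j hk _
    obtain ⟨k', hk', hk''⟩ := card_pgroup hb hQp
    have : k = k' := Nat.pow_right_injective hr.two_le (hk.symm.trans hk'')
    omega)
  obtain ⟨e, he⟩ := (hS'p.to_le (inf_le_left : S' ⊓ centralizer (Q : Set H) ≤ S')).exists_card_eq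
  have heC : s ^ e ∣ Nat.card ↥(centralizer ({(y : H)} : Set H)) := by
    rw [← he]
    refine card_dvd_of_le ?_
    intro g hg
    rw [mem_centralizer_singleton_iff]
    exact (mem_centralizer_iff.1 hg.2 y hyQ).symm
  rw [he] at hker
  -- `s ^ a ∣ |K| s ^ (e + W)`
  have h1 : s ^ a ∣ Nat.card K * s ^ (e + W) := by
    have h2 : s ^ a ∣ Nat.card K * Nat.card (normalizer (Q : Set H)) := by
      rw [← K.card_mul_index] at ha
      exact ha.trans (mul_dvd_mul_left _ hidx)
    rw [← S.card_mul_index, ← mul_assoc, ← hcS'] at h2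
    have h3 := (Nat.Coprime.pow_left a ((Nat.Prime.coprime_iff_not_dvd hs).2 S.not_dvd_index)).dvd_of_dvd_mul_right h2
    rw [pow_add]
    exact h3.trans (mul_dvd_mul_left _ hker)
  -- `K ≅ T ^ m`
  obtain ⟨T, m, hTK, hTs, hm, ⟨e'⟩⟩ := Lib.MinNormal.exists_mulEquiv_pi K hK1 hmin
  have hcK : Nat.card K = Nat.card T ^ m := by
    rw [Nat.card_congr e'.toEquiv, Nat.card_pi, Finset.prod_const, Finset.card_univ, Fintype.card_fin]
  have hrT : r ∣ Nat.card T := hr.dvd_of_dvd_pow (hcK ▸ hrK)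
  have hmb : m ≤ b := by
    by_contra hlt
    apply hb
    refine ((pow_dvd_pow r (by omega : b + 1 ≤ m)).trans (pow_dvd_pow_of_dvd hrT m)).trans ?_
    rw [← hcK]
    exact card_subgroup_dvd_card K
  have hT0 : Nat.card T ≠ 0 := Nat.card_pos.ne'
  have hval : padicValNat s (Nat.card T) ≤ c := by
    by_cases hab : ∃ x y : T, x * y ≠ y * x
    · have h3T : ¬ 3 ∣ Nat.card T := fun hd => h3 (hd.trans (card_subgroup_dvd_card T))
      obtain ⟨-, m', hm', hcT⟩ := Cfsg.Agent.S0336.result hab h3T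
      have hcT' : Nat.card T = szc m' := hcT
      have h4 := hc m' hm' (hcT' ▸ card_subgroup_dvd_card T) (hcT' ▸ hrT)
      rw [← hcT'] at h4
      by_contra hlt
      exact h4 ((padicValNat_dvd_iff_le hT0).2 (by omega))
    · push Not at hab
      letI : CommGroup T := { (inferInstance : Group T) with mul_comm := hab }
      have h4 : (Nat.card T).Prime := IsSimpleGroup.prime_card (α := T)
      have h5 : r = Nat.card T := (Nat.prime_dvd_prime_iff_eq hr h4).1 hrT
      rw [← h5, padicValNat_primes hrs.symm]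
      exact Nat.zero_le c
  have h5 : a ≤ padicValNat s (Nat.card K * s ^ (e + W)) :=
    (padicValNat_dvd_iff_le (Nat.mul_ne_zero Nat.card_pos.ne' (pow_pos hs.pos _).ne')).1 h1
  rw [padicValNat.mul Nat.card_pos.ne' (pow_pos hs.pos _).ne', padicValNat.prime_pow, hcK,
    padicValNat.pow] at h5
  have h6 : m * padicValNat s (Nat.card T) ≤ b * c := Nat.mul_le_mul hmb hval
  exact (pow_dvd_pow s (by omega)).trans heC

/-- **coprime lifting of the centralizer of an element of order `r`** -/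
theorem exists_lift_comm (hr : r.Prime) {N : Subgroup H} [N.Normal] (hN : ¬ r ∣ Nat.card N) {y : H} (hy : orderOf y = r)
    {g : H} (h : QuotientGroup.mk' N g * QuotientGroup.mk' N y = QuotientGroup.mk' N y * QuotientGroup.mk' N g) :
    ∃ g' : H, QuotientGroup.mk' N g' = QuotientGroup.mk' N g ∧ g' * y = y * g' := by
  classical
  haveI : Fact r.Prime := ⟨hr⟩
  have hyN : ∀ i : ℤ, y ^ i ∈ N → y ^ i = 1 := by
    intro i hi
    by_contra h1
    have h2 : (y ^ i) ^ r = 1 := by
      rw [← zpow_natCast, ← zpow_mul, mul_comm, zpow_mul, zpow_natCast, ← hy, pow_orderOf_eq_one, one_zpow]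
    have h3 := orderOf_eq_prime h2 h1
    apply hN
    rw [← h3, ← Subgroup.orderOf_mk _ hi]
    exact orderOf_dvd_natCard _
  have hmy : orderOf (QuotientGroup.mk' N y) = r := by
    have h1 : orderOf (QuotientGroup.mk' N y) ∣ r := by rw [← hy]; exact orderOf_map_dvd _ _
    rcases (Nat.dvd_prime hr).1 h1 with h2 | h2
    · exfalso
      have h3 := hyN 1 (by rw [zpow_one]; exact (QuotientGroup.eq_one_iff y).1 (orderOf_eq_one_iff.1 h2))
      rw [zpow_one] at h3
      rw [h3, orderOf_one] at hy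
      exact hr.one_lt.ne hy
    · exact h2
  set Y : Subgroup H := (zpowers (QuotientGroup.mk' N y)).comap (QuotientGroup.mk' N) with hY
  have hYc : Nat.card Y = r * Nat.card N := by
    have h1 := Subgroup.card_mul_index Y
    have h3 : Y.index = (zpowers (QuotientGroup.mk' N y)).index :=
      Subgroup.index_comap_of_surjective _ (QuotientGroup.mk'_surjective N)
    have h4 := Subgroup.card_mul_index (zpowers (QuotientGroup.mk' N y))
    rw [Nat.card_zpowers, hmy] at h4
    have h5 : Nat.card (H ⧸ N) * Nat.card N = Nat.card H := (Subgroup.card_eq_card_quotient_mul_card_subgroup N).symm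
    rw [h3] at h1
    have h6 : 0 < (zpowers (QuotientGroup.mk' N y)).index := Nat.pos_of_ne_zero (Subgroup.index_ne_zero_of_finite)
    apply Nat.eq_of_mul_eq_mul_right h6
    rw [h1, ← h5, ← h4]
    ring
  have key : ∀ A : Subgroup H, A ≤ Y → Nat.card A = r → IsPGroup r ↥(A.subgroupOf Y) ∧
      ¬ r ∣ (A.subgroupOf Y).index := by
    intro A hA hAc
    have h5 : Nat.card ↥(A.subgroupOf Y) = r := by
      rw [← hAc]
      exact Nat.card_congr (Subgroup.subgroupOfEquivOfLe hA).toEquiv
    refine ⟨IsPGroup.of_card (n := 1) (by rw [h5, pow_one]), fun hd => hN ?_⟩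
    have h6 := (A.subgroupOf Y).card_mul_index
    rw [h5, hYc] at h6
    rwa [Nat.eq_of_mul_eq_mul_left hr.pos h6] at hd
  have hyY : y ∈ Y := mem_zpowers _
  have hgyY : g * y * g⁻¹ ∈ Y := by
    show QuotientGroup.mk' N (g * y * g⁻¹) ∈ zpowers (QuotientGroup.mk' N y)
    rw [map_mul, map_mul, map_inv, h, mul_inv_cancel_right]
    exact mem_zpowers _
  obtain ⟨a1, a2⟩ := key (zpowers y) (by rw [zpowers_le]; exact hyY) (by rw [Nat.card_zpowers, hy])
  obtain ⟨b1, b2⟩ := key (zpowers (g * y * g⁻¹)) (by rw [zpowers_le]; exact hgyY) (by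
    rw [Nat.card_zpowers, ← hy]
    exact MulEquiv.orderOf_eq (MulAut.conj g) y)
  obtain ⟨u, hu⟩ := MulAction.exists_smul_eq ↥Y (b1.toSylow b2) (a1.toSylow a2)
  have h1 : (u : H) * (g * y * g⁻¹) * (u : H)⁻¹ ∈ zpowers y := by
    have h5 : (⟨g * y * g⁻¹, hgyY⟩ : ↥Y) ∈ (zpowers (g * y * g⁻¹)).subgroupOf Y := mem_zpowers (g * y * g⁻¹)
    have h6 : MulAut.conj u ⟨g * y * g⁻¹, hgyY⟩ ∈ (u • (b1.toSylow b2) : Sylow r ↥Y) :=
      Subgroup.smul_mem_pointwise_smul _ (MulAut.conj u) _ h5
    rw [hu] at h6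
    exact h6
  obtain ⟨i, hi⟩ := mem_zpowers_iff.1 (show QuotientGroup.mk' N (u : H) ∈ zpowers (QuotientGroup.mk' N y) from u.2)
  obtain ⟨m, hm⟩ := mem_zpowers_iff.1 h1
  refine ⟨y ^ (-i) * u * g, ?_, ?_⟩
  · rw [map_mul, map_mul, map_zpow, ← hi, ← zpow_add, neg_add_cancel, zpow_zero, one_mul]
  · have h2 : y ^ (-i) * u * g * y * (y ^ (-i) * u * g)⁻¹ = y ^ m := by
      calc y ^ (-i) * u * g * y * (y ^ (-i) * u * g)⁻¹ = y ^ (-i) * (u * (g * y * g⁻¹) * (u : H)⁻¹) * (y ^ (-i))⁻¹ := by
            group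
        _ = y ^ m := by rw [← hm]; group
    have h3 : QuotientGroup.mk' N (y ^ m) = QuotientGroup.mk' N y := by
      rw [← h2]
      simp only [map_mul, map_inv, map_zpow, ← hi]
      calc _ = QuotientGroup.mk' N g * QuotientGroup.mk' N y * (QuotientGroup.mk' N g)⁻¹ := by group
        _ = QuotientGroup.mk' N y := by rw [h, mul_inv_cancel_right]
    have h4 : y ^ (m - 1) ∈ N := by
      rw [← QuotientGroup.eq_one_iff]
      change QuotientGroup.mk' N (y ^ (m - 1)) = 1
      rw [zpow_sub_one, map_mul, h3, map_inv, mul_inv_cancel]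
    have h5 : y ^ m = y := by
      have h6 := hyN _ h4
      rw [zpow_sub_one, mul_inv_eq_one] at h6
      exact h6
    rw [h5] at h2
    exact mul_inv_eq_iff_eq_mul.1 h2

/-- an element of order `r` normalising an `s`-group -/
theorem comm_of_small (hr : r.Prime) (hs : s.Prime) (hrs : r ≠ s) {a : ℕ} (ha : ¬ s ^ (a + 1) ∣ Nat.card H)
    (hn : ∀ i, 1 ≤ i → i ≤ a → ¬ r ∣ s ^ i - 1) {Q : Subgroup H} (hQ : IsPGroup s Q) {y : H} (hy : orderOf y = r)
    (hyn : y ∈ normalizer (Q : Set H)) : y ∈ centralizer (Q : Set H) := by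
  haveI : Fact r.Prime := ⟨hr⟩
  haveI : Fact s.Prime := ⟨hs⟩
  have hzp : IsPGroup r (zpowers y) := IsPGroup.of_card (n := 1) (by rw [Nat.card_zpowers, hy, pow_one])
  have hker := card_dvd_kernel (s := r) (t := s) hrs ha (fun _ => 0) (by simpa using hn) hQ a (zpowers y) hzp
    (by rw [zpowers_le]; exact hyn) (by
    intro k j hk _
    obtain ⟨k', hk', hk''⟩ := card_pgroup ha hQ
    have : k = k' := Nat.pow_right_injective hs.two_le (hk.symm.trans hk'')
    omega)
  simp only [Finset.sum_const_zero, pow_zero, mul_one] at hker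
  have h1 : zpowers y ⊓ centralizer (Q : Set H) = zpowers y :=
    Subgroup.eq_of_le_of_card_ge inf_le_left (Nat.le_of_dvd Nat.card_pos hker)
  have h2 : y ∈ zpowers y ⊓ centralizer (Q : Set H) := by rw [h1]; exact mem_zpowers y
  exact h2.2

/-- **3'-groups.** -/
theorem main_central (hr : r.Prime) (hs : s.Prime) (hrs : r ≠ s) (hrH : r ∣ Nat.card H)
    (h3 : ¬ 3 ∣ Nat.card H) {b : ℕ} (hb : ¬ r ^ (b + 1) ∣ Nat.card H) (w : ℕ → ℕ)
    (hw : ∀ k, 1 ≤ k → k ≤ b → ¬ s ^ (w k + 1) ∣ r ^ k - 1) {c : ℕ}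
    (hc : ∀ m, 1 ≤ m → szc m ∣ Nat.card H → r ∣ szc m → ¬ s ^ (c + 1) ∣ szc m) {a : ℕ}
    (ha : s ^ a ∣ Nat.card H) (ha' : ¬ s ^ (a + 1) ∣ Nat.card H) (hn : ∀ i, 1 ≤ i → i ≤ a → ¬ r ∣ s ^ i - 1) :
    ∃ y : H, orderOf y = r ∧ ¬ r ∣ (centralizer ({y} : Set H)).index ∧
      s ^ (a - ((∑ i ∈ Finset.range b, w (i + 1)) + b * c)) ∣ Nat.card ↥(centralizer ({y} : Set H)) := by
  classical
  haveI : Fact r.Prime := ⟨hr⟩
  haveI : Fact s.Prime := ⟨hs⟩
  set D := (∑ i ∈ Finset.range b, w (i + 1)) + b * c with hD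
  set N := pPrimeCore r H with hN
  haveI hNn : N.Normal := Lib.Cores.pPrimeCore_normal r
  have hNc : (Nat.card N).Coprime r := Lib.Cores.pPrimeCore_coprime r
  have hNr : ¬ r ∣ Nat.card N := (Nat.Prime.coprime_iff_not_dvd hr).1 hNc.symm
  have hcN : Nat.card N * N.index = Nat.card H := N.card_mul_index
  have hidx : r ∣ N.index := by
    rw [← hcN] at hrH
    exact hNc.symm.dvd_of_dvd_mul_left hrH
  have hcX : Nat.card (H ⧸ N) = N.index := (Subgroup.index_eq_card N).symm
  have hcardq : Nat.card (H ⧸ N) ∣ Nat.card H := Subgroup.card_quotient_dvd_card N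
  have hq : pPrimeCore r (H ⧸ N) = ⊥ := Lib.Cores.pPrimeCore_quotient_pPrimeCore r
  obtain ⟨P⟩ : Nonempty (Sylow s N) := inferInstance
  obtain ⟨j, hj⟩ := P.isPGroup'.exists_card_eq
  have hja : j ≤ a := by
    by_contra hlt
    apply ha'
    refine (pow_dvd_pow s (by omega : a + 1 ≤ j)).trans ?_
    rw [← hj]
    exact (card_subgroup_dvd_card _).trans (card_subgroup_dvd_card N)
  have h2 : s ^ (a - j) ∣ Nat.card (H ⧸ N) := by
    have h3 : s ^ j * s ^ (a - j) ∣ s ^ j * ((P : Subgroup N).index * N.index) := by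
      rw [← pow_add, Nat.add_sub_cancel' hja, ← mul_assoc, ← hj, P.card_mul_index, hcN]
      exact ha
    have h4 := Nat.dvd_of_mul_dvd_mul_left (pow_pos hs.pos j) h3
    rw [hcX]
    exact (Nat.Coprime.pow_left _ ((Nat.Prime.coprime_iff_not_dvd hs).2 P.not_dvd_index)).dvd_of_dvd_mul_left h4
  obtain ⟨q, hqr, hqi, hqs⟩ := bound_central (H := H ⧸ N) hr hs hrs hq (by rw [hcX]; exact hidx)
    (fun hd => h3 (hd.trans hcardq)) (fun hd => hb (hd.trans hcardq)) w hw
    (fun m hm hd => hc m hm (hd.trans hcardq)) h2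
  -- lift
  set Q : Subgroup H := (P : Subgroup N).map N.subtype with hQ
  have hQp : IsPGroup s Q := P.isPGroup'.map _
  have hQN : Q ≤ N := map_subtype_le _
  have hfr : normalizer (Q : Set H) ⊔ N = ⊤ := Sylow.normalizer_sup_eq_top P
  obtain ⟨g0, rfl⟩ := QuotientGroup.mk'_surjective N q
  obtain ⟨g, hgn, n0, hn0, hg0⟩ := mem_sup_of_normal_right.1 (show g0 ∈ normalizer (Q : Set H) ⊔ N by
    rw [hfr]; exact mem_top g0)
  have hgq : QuotientGroup.mk' N g0 = QuotientGroup.mk' N g := by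
    rw [← hg0, map_mul, show QuotientGroup.mk' N n0 = 1 from (QuotientGroup.eq_one_iff _).2 hn0, mul_one]
  rw [hgq] at hqr hqi hqs
  obtain ⟨k, hk1, hk2⟩ := Nat.chineseRemainder (hNc.symm) 1 0
  have hgN : g ^ r ∈ N := by
    have h1 : QuotientGroup.mk' N (g ^ r) = 1 := by rw [map_pow, ← hqr, pow_orderOf_eq_one]
    exact (QuotientGroup.eq_one_iff _).1 h1
  have hmk : QuotientGroup.mk' N (g ^ k) = QuotientGroup.mk' N g := by
    rw [map_pow]
    conv_rhs => rw [← pow_one (QuotientGroup.mk' N g)]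
    rw [pow_eq_pow_iff_modEq, hqr]
    exact hk1
  have hyr : orderOf (g ^ k) = r := by
    refine orderOf_eq_prime ?_ ?_
    · obtain ⟨i, rfl⟩ := (Nat.modEq_zero_iff_dvd.1 hk2)
      rw [← pow_mul, mul_comm, ← mul_assoc, mul_comm r, mul_assoc, mul_comm (Nat.card N), mul_comm r i] at *
      have h2 : (⟨g ^ r, hgN⟩ : N) ^ Nat.card N = 1 := pow_card_eq_one'
      have h3 : (g ^ r) ^ Nat.card N = 1 := congrArg Subtype.val h2
      have h4 : g ^ (i * r * Nat.card N) = ((g ^ r) ^ Nat.card N) ^ i := by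
        rw [← pow_mul, ← pow_mul]
        congr 1
        ring
      rw [h4, h3, one_pow]
    · intro h2
      rw [h2, map_one] at hmk
      rw [← hmk, orderOf_one] at hqr
      exact hr.one_lt.ne hqr
  rw [← hmk] at hqi hqs
  have hyn : g ^ k ∈ normalizer (Q : Set H) := pow_mem hgn k
  obtain ⟨y, hyk⟩ : ∃ y, y = g ^ k := ⟨_, rfl⟩
  rw [← hyk] at hqi hqs hyr hyn
  have hyQ := comm_of_small hr hs hrs ha' hn hQp hyr hyn
  -- the centralizer
  set C := centralizer ({y} : Set H) with hC
  set CX := centralizer ({QuotientGroup.mk' N y} : Set (H ⧸ N)) with hCX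
  let φ : C →* CX :=
    ((QuotientGroup.mk' N).comp C.subtype).codRestrict _ fun c => by
      rw [hCX, mem_centralizer_singleton_iff]
      show QuotientGroup.mk' N c * QuotientGroup.mk' N y = QuotientGroup.mk' N y * QuotientGroup.mk' N c
      rw [← map_mul, mem_centralizer_singleton_iff.1 c.2, map_mul]
  have hφ : Function.Surjective φ := by
    intro q
    obtain ⟨g, hg⟩ := QuotientGroup.mk'_surjective N (q : H ⧸ N)
    have hq := mem_centralizer_singleton_iff.1 q.2
    rw [← hg] at hq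
    obtain ⟨g', h1, h2⟩ := exists_lift_comm hr hNr hyr hq
    refine ⟨⟨g', mem_centralizer_singleton_iff.2 h2⟩, ?_⟩
    apply Subtype.ext
    show QuotientGroup.mk' N g' = q
    rw [h1, hg]
  have hcard : Nat.card φ.ker * Nat.card CX = Nat.card C := by
    rw [← φ.ker.card_mul_index, index_ker, MonoidHom.range_eq_top.2 hφ, card_top]
  have hkN : Nat.card φ.ker ∣ Nat.card N := by
    refine card_dvd_of_injective (f := (C.subtype.comp φ.ker.subtype).codRestrict N fun c => ?_) ?_
    · have h1 : φ (c : C) = 1 := c.2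
      exact (QuotientGroup.eq_one_iff _).1 (congrArg Subtype.val h1)
    · intro c d hcd
      exact Subtype.ext (Subtype.ext (congrArg (fun x : N => (x : H)) hcd))
  refine ⟨y, hyr, ?_, ?_⟩
  · intro hd
    have h1 : Nat.card φ.ker * C.index = Nat.card N * CX.index := by
      have h2 := C.card_mul_index
      have h3 := CX.card_mul_index
      rw [← hcard, ← hcN, ← hcX, ← h3] at h2
      have h4 : Nat.card CX * (Nat.card φ.ker * C.index) = Nat.card CX * (Nat.card N * CX.index) := by
        rw [show Nat.card CX * (Nat.card φ.ker * C.index) = Nat.card φ.ker * Nat.card CX * C.index by ring, h2]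
        ring
      exact Nat.eq_of_mul_eq_mul_left Nat.card_pos h4
    have h2 : r ∣ Nat.card N * CX.index := by rw [← h1]; exact hd.mul_left _
    rcases hr.dvd_mul.1 h2 with h3 | h3
    · exact hNr h3
    · exact hqi h3
  · have h1 : s ^ j ∣ Nat.card φ.ker := by
      have hQc : Nat.card Q = s ^ j := by rw [hQ, card_map_of_injective N.subtype_injective, hj]
      rw [← hQc]
      refine card_dvd_of_injective (f := (((inclusion (show Q ≤ C from ?_)).codRestrict φ.ker fun x => ?_) :
        Q →* φ.ker)) ?_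
      · intro x hx
        rw [hC, mem_centralizer_singleton_iff]
        exact mem_centralizer_iff.1 hyQ x hx
      · rw [MonoidHom.mem_ker]
        exact Subtype.ext ((QuotientGroup.eq_one_iff _).2 (hQN x.2))
      · intro x x' hxx
        exact Subtype.ext (congrArg (fun z : φ.ker => ((z : C) : H)) hxx)
    rw [← hcard]
    refine (pow_dvd_pow s (by omega : a - D ≤ j + (a - j - D))).trans ?_
    rw [pow_add]
    exact mul_dvd_mul h1 hqs

end Cfsg.Agent.H465.SporB
end

-- part: H465/PiBSFour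
section
/-!
# Four-groups acting on groups of odd order (helper465, for S3876)

* `exists_four` : a nonabelian 2-group with a homomorphism to an abelian group, of order at least 4 on some element,
  contains a four-group;
* `exists_comm_four` : a four-group normalising a group `N` of odd order divisible by `p`: one of its involutions commutes
  with an element of order `p` of `N`.
-/

set_option autoImplicit false
set_option linter.unusedSectionVars false
set_option linter.style.haveILetI false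

namespace Cfsg.Agent.H465.SporB

open Subgroup Cfsg

/-- **two commuting involutions** -/
theorem exists_four {W A : Type*} [Group W] [Finite W] [Group A] (hW : IsPGroup 2 W)
    (hnc : ∃ a b : W, a * b ≠ b * a) (hA : ∀ a b : A, a * b = b * a) (f : W →* A) {c : W} (hc : f c * f c ≠ 1) :
    ∃ u v : W, orderOf u = 2 ∧ orderOf v = 2 ∧ u ≠ v ∧ u * v = v * u := by
  classical
  haveI : Fact (Nat.Prime 2) := ⟨Nat.prime_two⟩
  by_contra hcon
  push Not at hcon
  have hcomm : (∀ a b : W, a * b = b * a) → False := by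
    intro h
    obtain ⟨a, b, hab⟩ := hnc
    exact hab (h a b)
  haveI hnt : Nontrivial W := by
    obtain ⟨a, b, hab⟩ := hnc
    refine ⟨a, b, ?_⟩
    rintro rfl
    exact hab rfl
  -- the central involution
  obtain ⟨z, hzc, hz⟩ := exists_orderOf (H := W) Nat.prime_two (hW.to_subgroup (center W))
    ((Subgroup.nontrivial_iff_ne_bot _).1 (IsPGroup.center_nontrivial hW))
  have huniq : ∀ u : W, orderOf u = 2 → u = z := by
    intro u hu
    by_contra hne
    exact hcon u z hu hz hne (mem_center_iff.1 hzc u)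
  have h16 := Cfsg.Agent.S0016.result 2 hW (by
    have key : ∀ K : Subgroup W, Nat.card K = 2 → K = zpowers z := by
      intro K hK
      obtain ⟨k, hk⟩ := exists_prime_orderOf_dvd_card' (G := K) 2 (by rw [hK])
      have h1 : (k : W) = z := huniq _ (by rw [orderOf_coe, hk])
      refine (eq_of_le_of_card_ge ?_ ?_).symm
      · rw [zpowers_le, ← h1]; exact k.2
      · rw [hK, Nat.card_zpowers, hz]
    intro H K hH hK
    rw [key H hH, key K hK])
  rcases h16 with hcyc | ⟨-, n, ⟨e⟩⟩
  · exact hcomm fun a b => hcyc.commGroup.mul_comm a b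
  · have hn : n ≠ 0 := by
      rintro rfl
      have h1 : Nat.card W = 2 ^ 2 := by
        rw [Nat.card_congr e.toEquiv, Nat.card_eq_fintype_card, QuaternionGroup.card]
        norm_num
      exact hcomm fun a b => (IsPGroup.isMulCommutative_of_card_eq_prime_sq h1).is_comm.comm a b
    let g : QuaternionGroup (2 ^ n) →* A := f.comp e.symm.toMonoidHom
    have hg1 : g (QuaternionGroup.a 1) * g (QuaternionGroup.a 1) = 1 := by
      have h1 : QuaternionGroup.a 1 * QuaternionGroup.xa 0 =
          (QuaternionGroup.xa 0 : QuaternionGroup (2 ^ n)) * (QuaternionGroup.a 1)⁻¹ := by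
        have h2 : (QuaternionGroup.a 1 : QuaternionGroup (2 ^ n))⁻¹ = QuaternionGroup.a (-1) := rfl
        rw [h2, QuaternionGroup.a_mul_xa, QuaternionGroup.xa_mul_a]
        congr 1
        ring
      have h3 := congrArg g h1
      rw [map_mul, map_mul, map_inv, hA] at h3
      have h4 := mul_left_cancel h3
      rw [← mul_inv_eq_one, inv_inv] at h4
      exact h4
    have hga : ∀ i : ZMod (2 * 2 ^ n), g (QuaternionGroup.a i) = g (QuaternionGroup.a 1) ^ i.val := by
      intro i
      rw [← map_pow, QuaternionGroup.a_one_pow, ZMod.natCast_zmod_val]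
    have hpow : ∀ k : ℕ, g (QuaternionGroup.a 1) ^ k * g (QuaternionGroup.a 1) ^ k = 1 := fun k => by
      rw [← (Commute.refl (g (QuaternionGroup.a 1))).mul_pow, hg1, one_pow]
    have hga2 : ∀ i : ZMod (2 * 2 ^ n), g (QuaternionGroup.a i) * g (QuaternionGroup.a i) = 1 := by
      intro i
      rw [hga]
      exact hpow _
    apply hc
    have h5 : f c = g (e c) := by
      show f c = f (e.symm (e c))
      rw [e.symm_apply_apply]
    rw [h5]
    generalize e c = q
    cases q with
    | a i => exact hga2 i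
    | xa i =>
      rw [← map_mul, QuaternionGroup.xa_mul_xa]
      have h6 : (((2 ^ n : ℕ) : ZMod (2 * 2 ^ n)) + i - i) = ((2 ^ n : ℕ) : ZMod (2 * 2 ^ n)) := by ring
      rw [h6, ← QuaternionGroup.a_one_pow, map_pow]
      obtain ⟨m, hm⟩ : ∃ m : ℕ, 2 ^ n = m + m := by
        obtain ⟨k, hk⟩ := Nat.exists_eq_succ_of_ne_zero hn
        exact ⟨2 ^ k, by rw [hk, pow_succ]; ring⟩
      have h7 : g (QuaternionGroup.a 1) ^ (2 ^ n) = g (QuaternionGroup.a 1) ^ (m + m) :=
        congrArg (fun k : ℕ => g (QuaternionGroup.a 1) ^ k) hm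
      rw [h7, pow_add, hpow]

/-- **a four-group acting on a group of odd order** -/
theorem exists_comm_four {G : Type*} [Group G] [Finite G] {p : ℕ} (hp : p.Prime) {N : Subgroup G}
    (hN : Odd (Nat.card N)) (hpN : p ∣ Nat.card N) {u v : G} (huu : u * u = 1) (hvv : v * v = 1) (huv : u * v = v * u)
    (hne : u ≠ v) (hun : u ∈ normalizer (N : Set G)) (hvn : v ∈ normalizer (N : Set G)) (hu1 : u ≠ 1) (hv1 : v ≠ 1) :
    ∃ w y : G, w * w = 1 ∧ w ≠ 1 ∧ y ∈ N ∧ orderOf y = p ∧ w * y = y * w := by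
  classical
  haveI : Fact p.Prime := ⟨hp⟩
  haveI : Fact (Nat.Prime 2) := ⟨Nat.prime_two⟩
  let u' : ↥(normalizer (N : Set G)) := ⟨u, hun⟩
  let v' : ↥(normalizer (N : Set G)) := ⟨v, hvn⟩
  let ψ : ↥(normalizer (N : Set G)) →* MulAut ↥N := N.normalizerMonoidHom
  have hψ : ∀ (g : ↥(normalizer (N : Set G))) (n : ↥N), (ψ g n : G) = (g : G) * n * (g : G)⁻¹ := fun _ _ => rfl
  let E : Subgroup (MulAut ↥N) := closure {ψ u', ψ v'}
  have hα : ψ u' * ψ u' = 1 := by rw [← map_mul, show u' * u' = 1 from Subtype.ext huu, map_one]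
  have hβ : ψ v' * ψ v' = 1 := by rw [← map_mul, show v' * v' = 1 from Subtype.ext hvv, map_one]
  have hαβ : ψ u' * ψ v' = ψ v' * ψ u' := by
    rw [← map_mul, ← map_mul, show u' * v' = v' * u' from Subtype.ext huv]
  have hEc : ∀ x ∈ E, ∀ y ∈ E, x * y = y * x := by
    intro x hx y hy
    have h1 : (⟨x, hx⟩ : ↥E) * ⟨y, hy⟩ = ⟨y, hy⟩ * ⟨x, hx⟩ :=
      (Subgroup.isMulCommutative_closure (k := ({ψ u', ψ v'} : Set (MulAut ↥N))) (by
        rintro a (rfl | rfl) b (rfl | rfl)
        · rfl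
        · exact hαβ
        · exact hαβ.symm
        · rfl)).is_comm.comm ⟨x, hx⟩ ⟨y, hy⟩
    exact congrArg Subtype.val h1
  have hE2 : ∀ x ∈ E, x * x = 1 := by
    intro x hx
    induction hx using closure_induction with
    | mem x hx =>
      rcases hx with rfl | rfl
      · exact hα
      · exact hβ
    | one => exact mul_one 1
    | mul x y hx hy h1 h2 =>
      calc x * y * (x * y) = x * (y * x) * y := by group
        _ = x * (x * y) * y := by rw [hEc y hy x hx]
        _ = (x * x) * (y * y) := by group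
        _ = 1 := by rw [h1, h2, mul_one]
    | inv x hx h1 => rw [← mul_inv_rev, h1, inv_one]
  have hEp : IsPGroup 2 ↥E := by
    intro g
    refine ⟨1, Subtype.ext ?_⟩
    show (g : MulAut ↥N) ^ 2 ^ 1 = 1
    rw [pow_one, pow_two]
    exact hE2 g g.2
  have hn : ¬ 2 ∣ Nat.card (Sylow p ↥N) := by
    intro h
    obtain ⟨P⟩ : Nonempty (Sylow p ↥N) := inferInstance
    rw [P.card_eq_index_normalizer] at h
    exact (Nat.not_even_iff_odd.2 hN) (even_iff_two_dvd.2 (h.trans (index_dvd_card _)))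
  obtain ⟨P, hP⟩ := hEp.nonempty_fixed_point_of_prime_not_dvd_card (Sylow p ↥N) hn
  have key : ∀ g ∈ E, ∀ n ∈ (P : Subgroup ↥N), g n ∈ (P : Subgroup ↥N) := by
    intro g hg n hn
    have h1 : (⟨g, hg⟩ : ↥E) • P = P := hP ⟨g, hg⟩
    have h2 : g • n ∈ (g • P : Sylow p ↥N) := Subgroup.smul_mem_pointwise_smul n g (P : Subgroup ↥N) hn
    have h3 : (g • P : Sylow p ↥N) = P := h1
    rw [h3] at h2
    exact h2
  set Q : Subgroup G := (P : Subgroup ↥N).map N.subtype with hQ
  have hQN : Q ≤ N := map_subtype_le _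
  have hQu : ∀ g ∈ Q, u * g * u⁻¹ ∈ Q := by
    rintro _ ⟨n, hn, rfl⟩
    exact ⟨ψ u' n, key _ (subset_closure (Or.inl rfl)) n hn, rfl⟩
  have hQv : ∀ g ∈ Q, v * g * v⁻¹ ∈ Q := by
    rintro _ ⟨n, hn, rfl⟩
    exact ⟨ψ v' n, key _ (subset_closure (Or.inr rfl)) n hn, rfl⟩
  have hQp : IsPGroup p ↥Q := P.isPGroup'.map _
  have hQ1 : Q ≠ ⊥ := by
    intro h1
    rw [hQ, map_eq_bot_iff_of_injective _ N.subtype_injective] at h1
    have h2 := P.card_mul_index
    rw [h1, card_bot, one_mul] at h2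
    apply P.not_dvd_index
    rw [h1, h2]
    exact hpN
  -- a fixed point
  have hex : ∃ w y : G, w * w = 1 ∧ w ≠ 1 ∧ y ∈ Q ∧ y ≠ 1 ∧ w * y = y * w := by
    by_contra hcon
    push Not at hcon
    have iu := MThirteen.inverts huu hQu (fun g hg h1 => by
      by_contra hg1
      exact hcon u g huu hu1 hg hg1 (mul_inv_eq_iff_eq_mul.1 h1))
    have iv := MThirteen.inverts hvv hQv (fun g hg h1 => by
      by_contra hg1
      exact hcon v g hvv hv1 hg hg1 (mul_inv_eq_iff_eq_mul.1 h1))
    obtain ⟨y, hy, hy1⟩ : ∃ y ∈ Q, y ≠ 1 := by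
      by_contra h
      push Not at h
      exact hQ1 (eq_bot_iff.2 fun y hy => mem_bot.2 (h y hy))
    refine hcon (u * v) y ?_ ?_ hy hy1 ?_
    · calc u * v * (u * v) = u * (v * u) * v := by group
        _ = u * (u * v) * v := by rw [huv]
        _ = (u * u) * (v * v) := by group
        _ = 1 := by rw [huu, hvv, mul_one]
    · intro h1
      apply hne
      calc u = u * (v * v) := by rw [hvv, mul_one]
        _ = (u * v) * v := by group
        _ = v := by rw [h1, one_mul]
    · rw [← mul_inv_eq_iff_eq_mul]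
      calc u * v * y * (u * v)⁻¹ = u * (v * y * v⁻¹) * u⁻¹ := by group
        _ = (u * y * u⁻¹)⁻¹ := by rw [iv y hy]; group
        _ = y := by rw [iu y hy, inv_inv]
  obtain ⟨w, y, hww, hw1, hy, hy1, hwy⟩ := hex
  obtain ⟨y', hy', hyo⟩ := exists_orderOf (H := G) hp (Q := zpowers y)
    (hQp.to_le (by rw [zpowers_le]; exact hy)) (by
      intro h
      rw [zpowers_eq_bot] at h
      exact hy1 h)
  obtain ⟨i, rfl⟩ := mem_zpowers_iff.1 hy'
  exact ⟨w, y ^ i, hww, hw1, hQN (zpow_mem hy i), hyo, ((show Commute w y from hwy).zpow_right i).eq⟩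

end Cfsg.Agent.H465.SporB
end
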