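import Cfsg.Agent.H198.TriAut
import Mathlib
import Cfsg.Agent.H465.LinSolv
import Cfsg.Agent.H479.GoodPSLTwoB
import Cfsg.Agent.Lib.PGroupFixedVector
import Cfsg.Agent.LieClassical.OrthFinite
import Cfsg.Agent.AutOrth.Final
import Cfsg.Agent.AutOrth.Main
import Cfsg.Agent.H208.Parity
import Cfsg.Agent.FastGrp
import Cfsg.Agent.Prune
set_option linter.all false

section
prune_inst 0x7ffdeafbbbf8bbffdfff7fffa79dcffdfdb93fffe6dff9cbffe06fff5bdf4b14cfe7fbaf8fe890fe1ef6621414f87b43f9ffeeffe36bd87ffffd1ff41ffbfe0ffdf7b50851df9cb41fbc0fff03f0778e7f3fffffffffffffffffffffffffffaeffbfffffffff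

-- part: H465/OEBase
section
set_option linter.all false

/-!
# `PΩ⁺₈(q)`, `q² + q + 1` prime (`q = 2, 3, 5`): frames

`Frame c₁ c₂ W₁ W₂` : a hyperbolic pair `c₁, c₂` and two totally singular 3-spaces `W₁`, `W₂` orthogonal to it with
`W₁ ∩ W₂ = 0`, so that `V = ⟨c₁, c₂⟩ ⊥ (W₁ ⊕ W₂)`.
`Singer r g c₁ c₂ W₁ W₂` : `g` of order `r` fixes `c₁`, `c₂` and is transitive on the points of `W₁` and of `W₂`.
-/

set_option autoImplicit false

namespace Cfsg.Agent.H465.OEight

open Module QuadraticMap Cfsg.Agent.LieClassical.OrthCore Cfsg.Agent.LieClassical.OrthTrans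
  Cfsg.Agent.ClassicalGeometry.OrthAut1 Cfsg.Agent.LieClassical.QuadForms Cfsg.Agent.ClassicalGeometry.TrialityOct
  Cfsg.Agent.ClassicalGeometry.Triality

variable {F : Type*} [Field F]

/-- a frame of the space `V8 F` with the form `plusForm 4 F` -/
structure Frame (c₁ c₂ : V8 F) (W₁ W₂ : Submodule F (V8 F)) : Prop where
  q₁ : plusForm 4 F c₁ = 0
  q₂ : plusForm 4 F c₂ = 0
  pair : polar (plusForm 4 F) c₁ c₂ = 1
  ts₁ : TS (plusForm 4 F) W₁
  ts₂ : TS (plusForm 4 F) W₂
  d₁ : finrank F W₁ = 3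
  d₂ : finrank F W₂ = 3
  disj : W₁ ⊓ W₂ = ⊥
  perp₁ : ∀ w ∈ W₁, polar (plusForm 4 F) c₁ w = 0 ∧ polar (plusForm 4 F) c₂ w = 0
  perp₂ : ∀ w ∈ W₂, polar (plusForm 4 F) c₁ w = 0 ∧ polar (plusForm 4 F) c₂ w = 0

/-- `g` of order `r` preserves the frame, fixes `c₁`, `c₂`, and is transitive on the points of `W₁` and `W₂` -/
structure Singer (r : ℕ) (g : V8 F ≃ₗ[F] V8 F) (c₁ c₂ : V8 F) (W₁ W₂ : Submodule F (V8 F)) : Prop where
  mem : g ∈ E (plusForm 4 F)
  ord : orderOf g = r
  fix₁ : g c₁ = c₁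
  fix₂ : g c₂ = c₂
  inv₁ : ∀ w ∈ W₁, g w ∈ W₁
  inv₂ : ∀ w ∈ W₂, g w ∈ W₂
  trans₁ : ∀ w ∈ W₁, ∀ w' ∈ W₁, w ≠ 0 → w' ≠ 0 → ∃ (k : ℕ) (a : F), (g ^ k) w = a • w'
  trans₂ : ∀ w ∈ W₂, ∀ w' ∈ W₂, w ≠ 0 → w' ≠ 0 → ∃ (k : ℕ) (a : F), (g ^ k) w = a • w'

/-- a similitude of the form -/
def Sim (b : V8 F ≃ₗ[F] V8 F) : Prop := ∃ c : F, c ≠ 0 ∧ ∀ v, plusForm 4 F (b v) = c * plusForm 4 F v

/-- the image of a subspace -/
abbrev im (b : V8 F ≃ₗ[F] V8 F) (S : Submodule F (V8 F)) : Submodule F (V8 F) := S.map b.toLinearMap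

end Cfsg.Agent.H465.OEight
end

-- part: H465/OEGrp_mg
section
prune_inst 0x400000000000000000000000000000000000100000000000000000000000000000000000000000000000000000100000000000000000000000000000000000000000000000000000000000000000000
set_option linter.all false
open scoped Cfsg.Agent.FastGrp

-- part: H465/OELin
section
/-!
# Solvable linear groups containing an element of prime order `r` (helper465)

* `zpowers_normal_of_cores` : `L` solvable, `y` of prime order `r`, `r² ∤ |L|`, `y` commutes with all `O_t(L)`, `t ≠ r`: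
  then `⟨y⟩ ⊲ L`;
* `irr_normal` : the case of an irreducible linear group;
* `section_normal` : the same for an irreducible section `S / S'`.
-/

set_option autoImplicit false

namespace Cfsg.Agent.H465.OEight

open Subgroup Module

universe u v

section groups

variable {L : Type*} [Group L] [Finite L]

theorem zpowers_normal_of_cores (hL : Group.IsSolvable L) {r : ℕ} [Fact r.Prime] {y : L} (hy : orderOf y = r)
    (h2 : ¬ r ^ 2 ∣ Nat.card L) (hc : ∀ t : ℕ, t.Prime → t ≠ r → ∀ u ∈ Cfsg.pCore t L, y * u = u * y) :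
    (zpowers y).Normal := by
  have hr : r.Prime := Fact.out
  have hzy : IsPGroup r (zpowers y) := IsPGroup.of_card (n := 1) (by rw [Nat.card_zpowers, hy, pow_one])
  obtain ⟨P, hP⟩ := hzy.exists_le_sylow
  obtain ⟨k, hk⟩ := IsPGroup.iff_card.1 P.2
  have hk1 : k ≤ 1 := by
    by_contra h
    apply h2
    have h3 : r ^ 2 ∣ Nat.card (P : Subgroup L) := by
      rw [hk]
      exact pow_dvd_pow r (by omega)
    exact h3.trans (card_subgroup_dvd_card _)
  have hPe : zpowers y = (P : Subgroup L) := by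
    refine eq_of_le_of_card_ge hP ?_
    rw [hk, Nat.card_zpowers, hy]
    calc r ^ k ≤ r ^ 1 := Nat.pow_le_pow_right hr.pos hk1
      _ = r := pow_one r
  have hcore : Cfsg.pCore r L ≤ zpowers y := by
    rw [hPe]
    exact Lib.Cores.pCore_le_sylow P
  have hfit : zpowers y ≤ Cfsg.fittingSubgroup L := by
    have h3 : zpowers y ≤ centralizer (Cfsg.fittingSubgroup L : Set L) := by
      rw [Lib.Cores.fittingSubgroup_eq_iSup_pCore]
      rw [zpowers_le]
      rw [mem_centralizer_iff]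
      intro u hu
      have h4 : (⨆ p : Nat.Primes, Cfsg.pCore (p : ℕ) L) ≤ centralizer ({y} : Set L) := by
        refine iSup_le fun p => ?_
        intro w hw
        rw [mem_centralizer_singleton_iff]
        by_cases hpr : (p : ℕ) = r
        · rw [hpr] at hw
          obtain ⟨i, hi⟩ := mem_zpowers_iff.1 (hcore hw)
          rw [← hi]
          exact ((Commute.refl y).zpow_right i).eq.symm
        · exact (hc p p.2 hpr w hw).symm
      have h5 := h4 hu
      rw [mem_centralizer_singleton_iff] at h5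
      exact h5
    exact h3.trans Cfsg.Agent.S0044.result
  have h6 := Lib.BenderMaximal.le_pCore_of_le_fittingSubgroup hzy hfit
  have h7 : zpowers y = Cfsg.pCore r L := le_antisymm h6 hcore
  rw [h7]
  exact Lib.Cores.pCore_normal r

end groups

section linear

variable {F : Type u} [Field F]

/-- The hypothesis on the image of an element of order `r` in a linear group: it centralises the `t`-subgroups which it
normalises. -/
def Cen (F : Type u) [Field F] (p r : ℕ) (M : Type v) [Group M] : Prop :=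
  ∀ (W : Type u) [AddCommGroup W] [Module F W] [FiniteDimensional F W], finrank F W ≤ 8 →
    ∀ (σ : M →* (W ≃ₗ[F] W)) (t : ℕ), t.Prime → t ≠ r → t ≠ p → ∀ (T : Subgroup σ.range), IsPGroup t T →
      ∀ y : M, orderOf y = r → (∀ u ∈ T, σ.rangeRestrict y * u * (σ.rangeRestrict y)⁻¹ ∈ T) →
        ∀ u ∈ T, σ.rangeRestrict y * u = u * σ.rangeRestrict y

theorem orderOf_image {M L : Type*} [Group M] [Group L] (f : M →* L) {r : ℕ} (hr : r.Prime) {y : M}
    (hy : orderOf y = r) : f y = 1 ∨ orderOf (f y) = r := by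
  have h1 : orderOf (f y) ∣ r := hy ▸ orderOf_map_dvd f y
  rcases (Nat.dvd_prime hr).1 h1 with h | h
  · exact Or.inl (orderOf_eq_one_iff.1 h)
  · exact Or.inr h

/-- dimension at most `8`, `r > 9` -/
theorem cen_of_lin {p r : ℕ} [Fact p.Prime] [CharP F p] (hr : r.Prime) (h9 : 9 < r) (M : Type v) [Group M]
    [Finite M] : Cen F p r M := by
  intro W _ _ _ hW σ t ht htr htp T hT y hy hyT u hu
  rcases orderOf_image σ.rangeRestrict hr hy with h | h
  · rw [h, one_mul, mul_one]
  · have : Finite σ.range := Finite.of_surjective σ.rangeRestrict σ.rangeRestrict_surjective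
    have h1 := LinSolv.centralize (F := F) (V := W) σ.range.subtype σ.range.subtype_injective hr (by omega)
      (a := 1) le_rfl ht htr (by
        intro h0
        have h2 := (CharP.cast_eq_zero_iff F p t).1 h0
        exact htp ((Nat.prime_dvd_prime_iff_eq Fact.out ht).1 h2).symm)
      (y := σ.rangeRestrict y) (by rw [pow_one]; exact h) hT hyT (Or.inl (by
        simp only [Nat.sub_self, pow_zero, pow_one]
        omega))
    simp only [Nat.sub_self, pow_zero, pow_one] at h1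
    exact h1 u hu

/-- arithmetic of the order -/
theorem cen_of_arith {p r : ℕ} (hr : r.Prime) (M : Type v) [Group M] [Finite M]
    (h : ∀ t k : ℕ, t.Prime → t ≠ r → t ≠ p → t ^ k ∣ Nat.card M → r ∣ t ^ k - 1 → k = 0) : Cen F p r M := by
  intro W _ _ _ hW σ t ht htr htp T hT y hy hyT u hu
  rcases orderOf_image σ.rangeRestrict hr hy with h0 | h0
  · rw [h0, one_mul, mul_one]
  · have : Fact t.Prime := ⟨ht⟩
    have : Finite σ.range := Finite.of_surjective σ.rangeRestrict σ.rangeRestrict_surjective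
    obtain ⟨k, hk⟩ := IsPGroup.iff_card.1 hT
    obtain ⟨j, hj, hc, hd⟩ := SU.card_fixed hr ht htr h0 hk hyT
    have hj0 : j = 0 := by
      refine h t j ht htr htp ?_ hd
      have h1 : t ^ k ∣ Nat.card σ.range := by
        rw [← hk]
        exact card_subgroup_dvd_card _
      exact ((pow_dvd_pow t hj).trans h1).trans (Subgroup.card_range_dvd σ)
    rw [hj0, Nat.sub_zero, ← hk] at hc
    have h2 : T ⊓ centralizer ({σ.rangeRestrict y} : Set σ.range) = T :=
      eq_of_le_of_card_ge inf_le_left hc.ge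
    have h3 : u ∈ centralizer ({σ.rangeRestrict y} : Set σ.range) := by
      have h4 : u ∈ T ⊓ centralizer ({σ.rangeRestrict y} : Set σ.range) := by rw [h2]; exact hu
      exact h4.2
    rw [mem_centralizer_singleton_iff] at h3
    exact h3.symm

/-- **Lemma I.** In an irreducible solvable linear group an element of order `r` generates a normal subgroup. -/
theorem irr_normal {p r : ℕ} [Fact p.Prime] [CharP F p] [Fact r.Prime] {V : Type u} [AddCommGroup V] [Module F V]
    [FiniteDimensional F V] (h8 : finrank F V ≤ 8) {M : Type v} [Group M] [Finite M] (hM : Group.IsSolvable M)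
    (ρ : M →* (V ≃ₗ[F] V)) {y : M} (hy : orderOf y = r) (h2 : ¬ r ^ 2 ∣ Nat.card M) (hC : Cen F p r M)
    (hirr : ∀ S : Submodule F V, (∀ m, ∀ v ∈ S, ρ m v ∈ S) → S = ⊥ ∨ S = ⊤) (b : M) :
    ρ (b * y * b⁻¹) ∈ zpowers (ρ y) := by
  have hr : r.Prime := Fact.out
  have hp : p.Prime := Fact.out
  set L := ρ.range with hL
  set f := ρ.rangeRestrict with hf
  have hfc : ∀ m, ((f m : L) : V ≃ₗ[F] V) = ρ m := fun m => rfl
  rcases orderOf_image f hr hy with h0 | h0
  · have h3 : ρ y = 1 := by rw [← hfc, h0]; rfl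
    rw [map_mul, map_mul, h3, mul_one, map_inv, mul_inv_cancel]
    exact one_mem _
  have : Finite L := Finite.of_surjective f ρ.rangeRestrict_surjective
  have hsol : Group.IsSolvable L := Group.isSolvable_of_surjective (f := f) ρ.rangeRestrict_surjective
  have h2' : ¬ r ^ 2 ∣ Nat.card L := fun h => h2 (h.trans (Subgroup.card_range_dvd ρ))
  have hcp : Cfsg.pCore p L = ⊥ := by
    by_cases hV : Subsingleton V
    · rw [eq_bot_iff]
      intro u _
      rw [mem_bot]
      apply Subtype.ext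
      ext v
      exact Subsingleton.elim _ _
    have hVn : Nontrivial V := not_subsingleton_iff_nontrivial.1 hV
    let S : Submodule F V :=
      { carrier := {v | ∀ u ∈ Cfsg.pCore p L, (u : V ≃ₗ[F] V) v = v}
        add_mem' := fun {a b} ha hb u hu => by rw [map_add, ha u hu, hb u hu]
        zero_mem' := fun u _ => map_zero _
        smul_mem' := fun c v hv u hu => by rw [map_smul, hv u hu] }
    have hS : ∀ v, v ∈ S ↔ ∀ u ∈ Cfsg.pCore p L, (u : V ≃ₗ[F] V) v = v := fun v => Iff.rfl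
    have hn : (Cfsg.pCore p L).Normal := Lib.Cores.pCore_normal p
    have hSinv : ∀ m, ∀ v ∈ S, ρ m v ∈ S := by
      intro m v hv u hu
      have h4 := hn.conj_mem u hu (f m)⁻¹
      have h5 := hv _ h4
      have h6 : (((f m)⁻¹ * u * (f m)⁻¹⁻¹ : L) : V ≃ₗ[F] V) v = (ρ m)⁻¹ ((u : V ≃ₗ[F] V) (ρ m v)) := by
        rw [inv_inv]
        rfl
      rw [h6] at h5
      have h7 : ρ m ((ρ m)⁻¹ ((u : V ≃ₗ[F] V) (ρ m v))) = (u : V ≃ₗ[F] V) (ρ m v) :=
        (ρ m).apply_symm_apply _
      rw [← h7, h5]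
    have hne : S ≠ ⊥ := by
      let σ : Representation F (Cfsg.pCore p L) V :=
        { toFun := fun u => (((u : L) : V ≃ₗ[F] V)).toLinearMap
          map_one' := by
            ext v
            simp only [_root_.OneMemClass.coe_one, _root_.LinearEquiv.coe_toLinearMap_one, _root_.LinearMap.id_coe, _root_.id_eq, _root_.Module.End.one_apply]
          map_mul' := fun a b => by
            ext v
            simp only [_root_.Subgroup.coe_mul, _root_.LinearEquiv.coe_toLinearMap_mul, _root_.Module.End.mul_apply, _root_.LinearEquiv.coe_coe] }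
      obtain ⟨v, hv0, hv⟩ := Lib.PGroupFixedVector.exists_ne_zero_fixed_rep (p := p)
        (Lib.Cores.pCore_isPGroup p) σ
      intro h
      have h5 : v ∈ S := fun u hu => hv ⟨u, hu⟩
      rw [h, Submodule.mem_bot] at h5
      exact hv0 h5
    have htop := (hirr S hSinv).resolve_left hne
    rw [eq_bot_iff]
    intro u hu
    rw [mem_bot]
    apply Subtype.ext
    ext v
    have h5 : v ∈ S := by rw [htop]; trivial
    exact h5 u hu
  have hN : (zpowers (f y)).Normal := by
    refine zpowers_normal_of_cores hsol h0 h2' fun t ht htr u hu => ?_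
    by_cases htp : t = p
    · rw [htp, hcp, mem_bot] at hu
      rw [hu, mul_one, one_mul]
    · have : Fact t.Prime := ⟨ht⟩
      refine hC V h8 ρ t ht htr htp (Cfsg.pCore t L) (Lib.Cores.pCore_isPGroup t) y hy (fun w hw => ?_) u hu
      exact (Lib.Cores.pCore_normal t).conj_mem w hw _
  have h3 := hN.conj_mem (f y) (mem_zpowers _) (f b)
  obtain ⟨k, hk⟩ := mem_zpowers_iff.1 h3
  refine mem_zpowers_iff.2 ⟨k, ?_⟩
  have h4 := congrArg (Subtype.val : L → V ≃ₗ[F] V) hk
  rw [← map_inv, ← map_mul, ← map_mul] at h4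
  rw [← hfc (b * y * b⁻¹), ← h4]
  rfl

end linear

section sections

variable {F : Type u} [Field F] {V : Type u} [AddCommGroup V] [Module F V]

/-- `S` is `M`-invariant -/
def Inv (M : Subgroup (V ≃ₗ[F] V)) (S : Submodule F V) : Prop := ∀ m ∈ M, ∀ v ∈ S, m v ∈ S

variable {M : Subgroup (V ≃ₗ[F] V)} {S' S : Submodule F V}

/-- the action on an invariant subspace -/
def resEnd (hS : Inv M S) : M →* End F S where
  toFun m := (m : V ≃ₗ[F] V).toLinearMap.restrict (hS m m.2)
  map_one' := by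
    ext v
    rfl
  map_mul' a b := by
    ext v
    rfl

theorem resEnd_apply (hS : Inv M S) (m : M) (v : S) : ((resEnd hS m v : S) : V) = (m : V ≃ₗ[F] V) v := rfl

/-- the action on an invariant section -/
def secEnd (hS : Inv M S) (hS' : Inv M S') : M →* End F (S ⧸ S'.submoduleOf S) where
  toFun m := (S'.submoduleOf S).mapQ (S'.submoduleOf S) (resEnd hS m) (by
    intro v hv
    show ((resEnd hS m v : S) : V) ∈ S'
    rw [resEnd_apply]
    exact hS' m m.2 _ hv)
  map_one' := by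
    ext v
    simp only [_root_.map_one, _root_.LinearMap.coe_comp, _root_.Function.comp_apply, _root_.Submodule.mkQ_apply, _root_.Submodule.mapQ_apply, _root_.Module.End.one_apply]
  map_mul' a b := by
    ext v
    simp only [_root_.map_mul, _root_.LinearMap.coe_comp, _root_.Function.comp_apply, _root_.Submodule.mkQ_apply, _root_.Submodule.mapQ_apply, _root_.Module.End.mul_apply]

/-- the action on an invariant section by automorphisms -/
def secAut (hS : Inv M S) (hS' : Inv M S') : M →* ((S ⧸ S'.submoduleOf S) ≃ₗ[F] (S ⧸ S'.submoduleOf S)) :=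
  (LinearMap.GeneralLinearGroup.generalLinearEquiv F _).toMonoidHom.comp (secEnd hS hS').toHomUnits

theorem secAut_mk (hS : Inv M S) (hS' : Inv M S') (m : M) (v : S) :
    secAut hS hS' m (Submodule.Quotient.mk v) = Submodule.Quotient.mk (resEnd hS m v) := rfl

/-- **Lemma I for sections.** -/
theorem section_normal [Finite F] [FiniteDimensional F V] {p r : ℕ} [Fact p.Prime] [CharP F p] [Fact r.Prime]
    (h8 : finrank F V ≤ 8) (hM : Group.IsSolvable M) [Finite M] {g : V ≃ₗ[F] V} (hg : g ∈ M) (ho : orderOf g = r)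
    (h2 : ¬ r ^ 2 ∣ Nat.card M) (hC : Cen F p r M) (hS' : Inv M S') (hS : Inv M S) (hle : S' ≤ S)
    (hirr : ∀ T, Inv M T → S' ≤ T → T ≤ S → T = S' ∨ T = S) {m : V ≃ₗ[F] V} (hm : m ∈ M) :
    ∃ k : ℕ, ∀ v ∈ S, (m * g * m⁻¹) v - (g ^ k) v ∈ S' := by
  have hr : r.Prime := Fact.out
  have hd : finrank F (S ⧸ S'.submoduleOf S) ≤ 8 :=
    ((Submodule.finrank_quotient_le _).trans (Submodule.finrank_le S)).trans h8
  have key := irr_normal (F := F) (p := p) (r := r) hd hM (secAut hS hS') (y := (⟨g, hg⟩ : M))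
    (by rw [← ho, Subgroup.orderOf_mk]) h2 hC ?_ ⟨m, hm⟩
  · have hfin : IsOfFinOrder (secAut hS hS' (⟨g, hg⟩ : M)) :=
      (secAut hS hS').isOfFinOrder (isOfFinOrder_of_finite (⟨g, hg⟩ : M))
    obtain ⟨k, hk⟩ := hfin.mem_powers_iff_mem_zpowers.2 key
    refine ⟨k, fun v hv => ?_⟩
    have hk' : secAut hS hS' ((⟨g, hg⟩ : M) ^ k) = secAut hS hS' (⟨m, hm⟩ * ⟨g, hg⟩ * (⟨m, hm⟩ : M)⁻¹) := by
      rw [map_pow]
      exact hk
    have h3 := LinearEquiv.congr_fun hk' (Submodule.Quotient.mk (⟨v, hv⟩ : S))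
    rw [secAut_mk, secAut_mk, eq_comm, Submodule.Quotient.eq] at h3
    exact h3
  · -- irreducibility
    intro T hT
    set T1 : Submodule F V := (T.comap (S'.submoduleOf S).mkQ).map S.subtype with hT1
    have hmem : ∀ v : V, v ∈ T1 ↔ ∃ h : v ∈ S, Submodule.Quotient.mk (⟨v, h⟩ : S) ∈ T := by
      intro v
      rw [hT1, Submodule.mem_map]
      constructor
      · rintro ⟨w, hw, rfl⟩
        exact ⟨w.2, hw⟩
      · rintro ⟨h, h'⟩
        exact ⟨⟨v, h⟩, h', rfl⟩
    have h3 := hirr T1 (by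
      intro m hm v hv
      obtain ⟨h, h'⟩ := (hmem v).1 hv
      refine (hmem _).2 ⟨hS m hm v h, ?_⟩
      exact hT ⟨m, hm⟩ _ h') (by
      intro v hv
      refine (hmem v).2 ⟨hle hv, ?_⟩
      have : (Submodule.Quotient.mk (⟨v, hle hv⟩ : S) : S ⧸ S'.submoduleOf S) = 0 := by
        rw [Submodule.Quotient.mk_eq_zero]
        exact hv
      rw [this]
      exact T.zero_mem) (by
      intro v hv
      exact ((hmem v).1 hv).1)
    rcases h3 with h3 | h3
    · left
      rw [eq_bot_iff]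
      intro q hq
      obtain ⟨v, rfl⟩ := Submodule.Quotient.mk_surjective _ q
      rw [Submodule.mem_bot, Submodule.Quotient.mk_eq_zero]
      show (v : V) ∈ S'
      rw [← h3]
      exact (hmem _).2 ⟨v.2, hq⟩
    · right
      rw [eq_top_iff]
      intro q _
      obtain ⟨v, rfl⟩ := Submodule.Quotient.mk_surjective _ q
      have h4 : (v : V) ∈ T1 := by rw [h3]; exact v.2
      exact ((hmem _).1 h4).2

end sections

end Cfsg.Agent.H465.OEight
end

-- part: H465/OEFrame
section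
/-!
# Frames: the subspaces invariant under a Singer element (helper465)
-/

set_option autoImplicit false

namespace Cfsg.Agent.H465.OEight

open Module QuadraticMap Cfsg.Agent.LieClassical.OrthCore Cfsg.Agent.LieClassical.OrthTrans
  Cfsg.Agent.ClassicalGeometry.OrthAut1 Cfsg.Agent.LieClassical.QuadForms Cfsg.Agent.ClassicalGeometry.TrialityOct
  Cfsg.Agent.ClassicalGeometry.Triality

universe u

variable {F : Type u} [Field F] {c₁ c₂ : V8 F} {W₁ W₂ : Submodule F (V8 F)}

/-- the hyperplane `u^⊥` -/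
def perp (u : V8 F) : Submodule F (V8 F) := LinearMap.ker (polarBilin (plusForm 4 F) u)

theorem mem_perp {u a : V8 F} : a ∈ perp u ↔ polar (plusForm 4 F) u a = 0 := Iff.rfl

theorem finrank_V8 : finrank F (V8 F) = 8 := by
  rw [Module.finrank_fintype_fun_eq_card]
  rfl

theorem polar_self_of {u : V8 F} (hu : plusForm 4 F u = 0) : polar (plusForm 4 F) u u = 0 := by
  rw [QuadraticMap.polar_self, hu, smul_zero]

namespace Frame

variable (h : Frame c₁ c₂ W₁ W₂)
include h

theorem symm : Frame c₁ c₂ W₂ W₁ :=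
  ⟨h.q₁, h.q₂, h.pair, h.ts₂, h.ts₁, h.d₂, h.d₁, by rw [inf_comm, h.disj], h.perp₂, h.perp₁⟩

theorem swap : Frame c₂ c₁ W₁ W₂ :=
  ⟨h.q₂, h.q₁, by rw [polar_comm, h.pair], h.ts₁, h.ts₂, h.d₁, h.d₂, h.disj, fun w hw => (h.perp₁ w hw).symm,
    fun w hw => (h.perp₂ w hw).symm⟩

theorem sup_eq : W₁ ⊔ W₂ = perp c₁ ⊓ perp c₂ := by
  let φ : V8 F →ₗ[F] F × F := (polarBilin (plusForm 4 F) c₁).prod (polarBilin (plusForm 4 F) c₂)
  have hφ : LinearMap.ker φ = perp c₁ ⊓ perp c₂ := by
    ext v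
    rw [LinearMap.mem_ker, Submodule.mem_inf, mem_perp, mem_perp]
    exact Prod.mk_eq_zero
  have hsurj : LinearMap.range φ = ⊤ := by
    rw [LinearMap.range_eq_top]
    rintro ⟨a, b⟩
    refine ⟨b • c₁ + a • c₂, ?_⟩
    show (polar (plusForm 4 F) c₁ (b • c₁ + a • c₂), polar (plusForm 4 F) c₂ (b • c₁ + a • c₂)) = (a, b)
    rw [polar_add_right, polar_add_right, polar_smul_right, polar_smul_right, polar_smul_right, polar_smul_right,
      polar_self_of h.q₁, polar_self_of h.q₂, h.pair, polar_comm _ c₂ c₁, h.pair]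
    simp
  have hd : finrank F (LinearMap.ker φ) = 6 := by
    have h1 := LinearMap.finrank_range_add_finrank_ker φ
    rw [hsurj, finrank_top, finrank_V8, Module.finrank_prod, Module.finrank_self] at h1
    omega
  have hle : W₁ ⊔ W₂ ≤ LinearMap.ker φ := by
    rw [hφ]
    refine sup_le (fun w hw => ?_) (fun w hw => ?_)
    · exact h.perp₁ w hw
    · exact h.perp₂ w hw
  have h6 : finrank F ↥(W₁ ⊔ W₂) = 6 := by
    have h1 := Submodule.finrank_sup_add_finrank_inf_eq W₁ W₂
    rw [h.disj, finrank_bot, h.d₁, h.d₂] at h1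
    omega
  rw [← hφ]
  exact Submodule.eq_of_le_of_finrank_eq hle (by rw [h6, hd])

theorem decomp (v : V8 F) : ∃ w₁ ∈ W₁, ∃ w₂ ∈ W₂,
    v = polar (plusForm 4 F) c₂ v • c₁ + polar (plusForm 4 F) c₁ v • c₂ + (w₁ + w₂) := by
  have h1 : v - (polar (plusForm 4 F) c₂ v • c₁ + polar (plusForm 4 F) c₁ v • c₂) ∈ W₁ ⊔ W₂ := by
    (rewrite [h.sup_eq, Submodule.mem_inf, mem_perp, mem_perp, polar_sub_right]; simp only [polar_sub_right]; (conv => enter [@1, @2, @6]; rw [polar_add_right]); simp only [polar_add_right]; (conv => enter [@1, @2, @6, @5]; rw [polar_smul_right]); (conv => enter [@1, @2, @6, @6]; rw [polar_smul_right]); (conv => enter [@2, @2, @6, @5]; rw [polar_smul_right]); simp only [polar_smul_right]; rewrite [polar_self_of h.q₁, polar_self_of h.q₂, h.pair, polar_comm _ c₂ c₁, h.pair])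
    constructor <;> simp
  obtain ⟨w₁, hw₁, w₂, hw₂, h2⟩ := Submodule.mem_sup.1 h1
  exact ⟨w₁, hw₁, w₂, hw₂, by rw [h2]; abel⟩

theorem eq_zero_of_add {w₁ w₂ : V8 F} (h₁ : w₁ ∈ W₁) (h₂ : w₂ ∈ W₂) (h0 : w₁ + w₂ = 0) : w₁ = 0 ∧ w₂ = 0 := by
  have h3 : w₁ ∈ W₁ ⊓ W₂ := ⟨h₁, by rw [eq_neg_of_add_eq_zero_left h0]; exact W₂.neg_mem h₂⟩
  rw [h.disj, Submodule.mem_bot] at h3
  refine ⟨h3, ?_⟩
  rw [h3, zero_add] at h0
  exact h0

theorem eq_of_add {w₁ w₂ w₁' w₂' : V8 F} (h₁ : w₁ ∈ W₁) (h₂ : w₂ ∈ W₂) (h₁' : w₁' ∈ W₁) (h₂' : w₂' ∈ W₂)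
    (h0 : w₁ + w₂ = w₁' + w₂') : w₁ = w₁' ∧ w₂ = w₂' := by
  have h3 := h.eq_zero_of_add (W₁.sub_mem h₁ h₁') (W₂.sub_mem h₂ h₂') (by
    rw [← sub_eq_zero] at h0
    rw [← h0]
    abel)
  exact ⟨sub_eq_zero.1 h3.1, sub_eq_zero.1 h3.2⟩

/-- `W₁` and `W₂` are dual to each other -/
theorem dual {w₁ : V8 F} (h₁ : w₁ ∈ W₁) (h0 : ∀ w₂ ∈ W₂, polar (plusForm 4 F) w₁ w₂ = 0) : w₁ = 0 := by
  refine nondeg8 w₁ fun y => ?_
  obtain ⟨a₁, ha₁, a₂, ha₂, hy⟩ := h.decomp y
  rw [hy, polar_add_right, polar_add_right, polar_add_right, polar_smul_right, polar_smul_right, h0 a₂ ha₂,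
    h.ts₁.polar h₁ ha₁, polar_comm _ w₁ c₁, (h.perp₁ w₁ h₁).1, polar_comm _ w₁ c₂, (h.perp₁ w₁ h₁).2]
  simp

theorem q_add {w₁ w₂ : V8 F} (h₁ : w₁ ∈ W₁) (h₂ : w₂ ∈ W₂) :
    plusForm 4 F (w₁ + w₂) = polar (plusForm 4 F) w₁ w₂ := by
  rw [Q_add, h.ts₁ _ h₁, h.ts₂ _ h₂]
  simp

end Frame

/-! ### Singer elements -/

namespace Singer

variable {r : ℕ} {g : V8 F ≃ₗ[F] V8 F} (h : Frame c₁ c₂ W₁ W₂) (hs : Singer r g c₁ c₂ W₁ W₂)

include hs in
theorem symm : Singer r g c₁ c₂ W₂ W₁ := ⟨hs.mem, hs.ord, hs.fix₁, hs.fix₂, hs.inv₂, hs.inv₁, hs.trans₂, hs.trans₁⟩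

include hs in
theorem swap : Singer r g c₂ c₁ W₁ W₂ := ⟨hs.mem, hs.ord, hs.fix₂, hs.fix₁, hs.inv₁, hs.inv₂, hs.trans₁, hs.trans₂⟩

/-- powers preserve an invariant subspace -/
theorem pow_mem {S : Submodule F (V8 F)} {g : V8 F ≃ₗ[F] V8 F} (hS : ∀ v ∈ S, g v ∈ S) (k : ℕ) :
    ∀ v ∈ S, (g ^ k) v ∈ S := by
  induction k with
  | zero => intro v hv; exact hv
  | succ k ih =>
    intro v hv
    rw [pow_succ']
    exact hS _ (ih v hv)

include h hs

/-- no fixed vectors in `W₁` -/
theorem fixed_eq_zero {w : V8 F} (hw : w ∈ W₁) (hg : g w = w) : w = 0 := by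
  by_contra h0
  have hk : ∀ k : ℕ, (g ^ k) w = w := by
    intro k
    induction k with
    | zero => rfl
    | succ k ih =>
      rw [pow_succ']
      show g ((g ^ k) w) = w
      rw [ih, hg]
  have hle : W₁ ≤ Submodule.span F {w} := by
    intro w' hw'
    by_cases h1 : w' = 0
    · rw [h1]; exact Submodule.zero_mem _
    obtain ⟨k, a, h2⟩ := hs.trans₁ w hw w' hw' h0 h1
    rw [hk] at h2
    have ha : a ≠ 0 := by
      rintro rfl
      rw [zero_smul] at h2
      exact h0 h2
    rw [Submodule.mem_span_singleton]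
    exact ⟨a⁻¹, by rw [h2, smul_smul, inv_mul_cancel₀ ha, one_smul]⟩
  have h3 := Submodule.finrank_mono hle
  rw [h.d₁, finrank_span_singleton h0] at h3
  omega

theorem fixed_eq_zero' {w : V8 F} (hw : w ∈ W₁ ⊔ W₂) (hg : g w = w) : w = 0 := by
  obtain ⟨w₁, h₁, w₂, h₂, rfl⟩ := Submodule.mem_sup.1 hw
  rw [map_add] at hg
  obtain ⟨h3, h4⟩ := h.eq_of_add (hs.inv₁ _ h₁) (hs.inv₂ _ h₂) h₁ h₂ hg
  rw [fixed_eq_zero h hs h₁ h3, fixed_eq_zero h.symm hs.symm h₂ h4, add_zero]

theorem fix_C (a b : F) : g (a • c₁ + b • c₂) = a • c₁ + b • c₂ := by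
  rw [map_add, map_smul, map_smul, hs.fix₁, hs.fix₂]

/-- fixed vectors lie in `⟨c₁, c₂⟩` -/
theorem mem_C_of_fixed {v : V8 F} (hg : g v = v) :
    v = polar (plusForm 4 F) c₂ v • c₁ + polar (plusForm 4 F) c₁ v • c₂ := by
  obtain ⟨w₁, h₁, w₂, h₂, hv⟩ := h.decomp v
  have h3 : g (w₁ + w₂) = w₁ + w₂ := by
    have h4 : g v = g (polar (plusForm 4 F) c₂ v • c₁ + polar (plusForm 4 F) c₁ v • c₂) + g (w₁ + w₂) := by
      rw [← map_add, ← hv]
    rw [hg, fix_C h hs] at h4
    have h5 := h4.symm.trans hv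
    exact add_left_cancel h5
  have h6 := fixed_eq_zero' h hs (Submodule.add_mem_sup h₁ h₂) h3
  rw [h6, add_zero] at hv
  exact hv

/-- the components of a vector of an invariant subspace -/
theorem comp_mem (hr : (r : F) = 1) {S : Submodule F (V8 F)} (hS : ∀ v ∈ S, g v ∈ S) {v : V8 F} (hv : v ∈ S) :
    polar (plusForm 4 F) c₂ v • c₁ + polar (plusForm 4 F) c₁ v • c₂ ∈ S := by
  set c := polar (plusForm 4 F) c₂ v • c₁ + polar (plusForm 4 F) c₁ v • c₂ with hc
  obtain ⟨w₁, h₁, w₂, h₂, hv'⟩ := h.decomp v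
  rw [← hc] at hv'
  have h3 : ∑ k ∈ Finset.range r, (g ^ k) v ∈ S := S.sum_mem fun k _ => pow_mem hS k v hv
  have hck : ∀ k : ℕ, (g ^ k) c = c := by
    intro k
    induction k with
    | zero => rfl
    | succ k ih =>
      rw [pow_succ']
      show g ((g ^ k) c) = c
      rw [ih, hc, fix_C h hs]
  have h4 : ∑ k ∈ Finset.range r, (g ^ k) v = c + ∑ k ∈ Finset.range r, (g ^ k) (w₁ + w₂) := by
    have h5 : ∀ k ∈ Finset.range r, (g ^ k) v = c + (g ^ k) (w₁ + w₂) := by
      intro k _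
      rw [hv', map_add, hck]
    rw [Finset.sum_congr rfl h5, Finset.sum_add_distrib, Finset.sum_const, Finset.card_range,
      ← Nat.cast_smul_eq_nsmul F, hr, one_smul]
  have h6 : ∑ k ∈ Finset.range r, (g ^ k) (w₁ + w₂) = 0 := by
    apply fixed_eq_zero' h hs
    · refine Submodule.sum_mem _ fun k _ => ?_
      rw [map_add]
      exact Submodule.add_mem_sup (pow_mem hs.inv₁ k _ h₁) (pow_mem hs.inv₂ k _ h₂)
    · rw [map_sum]
      have h7 : ∀ k ∈ Finset.range r, g ((g ^ k) (w₁ + w₂)) = (g ^ (k + 1)) (w₁ + w₂) := by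
        intro k _
        rw [pow_succ']
        rfl
      rw [Finset.sum_congr rfl h7]
      have h8 := Finset.sum_range_succ (fun k => (g ^ k) (w₁ + w₂)) r
      have h9 := Finset.sum_range_succ' (fun k => (g ^ k) (w₁ + w₂)) r
      have h10 : (g ^ r) (w₁ + w₂) = (g ^ 0) (w₁ + w₂) := by
        rw [← hs.ord, pow_orderOf_eq_one, pow_zero]
      rw [h8, h10] at h9
      exact (add_right_cancel h9).symm
  rw [h4, h6, add_zero] at h3
  exact h3

theorem le_of_mem {S : Submodule F (V8 F)} (hS : ∀ v ∈ S, g v ∈ S) {w : V8 F} (hw : w ∈ W₁) (hw0 : w ≠ 0)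
    (hwS : w ∈ S) : W₁ ≤ S := by
  intro w' hw'
  by_cases h1 : w' = 0
  · rw [h1]; exact Submodule.zero_mem _
  obtain ⟨k, a, h2⟩ := hs.trans₁ w hw w' hw' hw0 h1
  have ha : a ≠ 0 := by
    rintro rfl
    rw [zero_smul] at h2
    exact hw0 ((g ^ k).map_eq_zero_iff.1 h2)
  have h3 : w' = a⁻¹ • (g ^ k) w := by rw [h2, smul_smul, inv_mul_cancel₀ ha, one_smul]
  rw [h3]
  exact S.smul_mem _ (pow_mem hS k w hwS)

/-- `W₁` and `W₂` are not isomorphic -/
theorem eq_bot_of_graph [Finite F] {S : Submodule F (V8 F)} (hS : ∀ v ∈ S, g v ∈ S) (hU : S ≤ W₁ ⊔ W₂)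
    (h1 : S ⊓ W₁ = ⊥) (h2 : S ⊓ W₂ = ⊥) : S = ⊥ := by
  by_contra hne
  obtain ⟨v, hv, hv0⟩ := Submodule.exists_mem_ne_zero_of_ne_bot hne
  -- every element of `S` with trivial component vanishes
  have hz1 : ∀ {a₁ a₂ : V8 F}, a₁ ∈ W₁ → a₂ ∈ W₂ → a₁ + a₂ ∈ S → a₁ = 0 → a₂ = 0 := by
    intro a₁ a₂ ha₁ ha₂ ha h0
    rw [h0, zero_add] at ha
    have : a₂ ∈ S ⊓ W₂ := ⟨ha, ha₂⟩
    rwa [h2, Submodule.mem_bot] at this
  have hz2 : ∀ {a₁ a₂ : V8 F}, a₁ ∈ W₁ → a₂ ∈ W₂ → a₁ + a₂ ∈ S → a₂ = 0 → a₁ = 0 := by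
    intro a₁ a₂ ha₁ ha₂ ha h0
    rw [h0, add_zero] at ha
    have : a₁ ∈ S ⊓ W₁ := ⟨ha, ha₁⟩
    rwa [h1, Submodule.mem_bot] at this
  -- the projections
  let P₁ : Submodule F (V8 F) :=
    { carrier := {a | a ∈ W₁ ∧ ∃ b ∈ W₂, a + b ∈ S}
      add_mem' := by
        rintro a a' ⟨ha, b, hb, hab⟩ ⟨ha', b', hb', hab'⟩
        refine ⟨W₁.add_mem ha ha', b + b', W₂.add_mem hb hb', ?_⟩
        have : a + a' + (b + b') = (a + b) + (a' + b') := by abel
        rw [this]
        exact S.add_mem hab hab'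
      zero_mem' := ⟨W₁.zero_mem, 0, W₂.zero_mem, by rw [add_zero]; exact S.zero_mem⟩
      smul_mem' := by
        rintro c a ⟨ha, b, hb, hab⟩
        exact ⟨W₁.smul_mem c ha, c • b, W₂.smul_mem c hb, by rw [← smul_add]; exact S.smul_mem c hab⟩ }
  have hP₁ : W₁ ≤ P₁ := by
    obtain ⟨a₁, ha₁, a₂, ha₂, rfl⟩ := Submodule.mem_sup.1 (hU hv)
    have h3 : a₁ ≠ 0 := fun h0 => hv0 (by rw [h0, hz1 ha₁ ha₂ hv h0, add_zero])
    refine le_of_mem h hs (S := P₁) ?_ ha₁ h3 ⟨ha₁, a₂, ha₂, hv⟩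
    rintro a ⟨ha, b, hb, hab⟩
    exact ⟨hs.inv₁ _ ha, g b, hs.inv₂ _ hb, by rw [← map_add]; exact hS _ hab⟩
  -- a singular vector
  have hdim : 3 ≤ finrank F S := by
    have h3 : ∀ w : W₁, ∃ b ∈ W₂, (w : V8 F) + b ∈ S := fun w => (hP₁ w.2).2
    choose f hf hf' using h3
    have hadd : ∀ x y : W₁, f (x + y) = f x + f y := by
      intro x y
      have h4 : (0 : V8 F) + (f (x + y) - (f x + f y)) ∈ S := by
        have : (0 : V8 F) + (f (x + y) - (f x + f y)) = ((x + y : W₁) : V8 F) + f (x + y) - (((x : V8 F) + f x) +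
            ((y : V8 F) + f y)) := by
          rw [Submodule.coe_add]; abel
        rw [this]
        exact S.sub_mem (hf' _) (S.add_mem (hf' _) (hf' _))
      exact sub_eq_zero.1 (hz1 W₁.zero_mem (W₂.sub_mem (hf _) (W₂.add_mem (hf _) (hf _))) h4 rfl)
    have hsmul : ∀ (c : F) (x : W₁), f (c • x) = c • f x := by
      intro c x
      have h4 : (0 : V8 F) + (f (c • x) - c • f x) ∈ S := by
        have : (0 : V8 F) + (f (c • x) - c • f x) = ((c • x : W₁) : V8 F) + f (c • x) - c • ((x : V8 F) + f x) := by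
          rw [Submodule.coe_smul, smul_add]; abel
        rw [this]
        exact S.sub_mem (hf' _) (S.smul_mem _ (hf' _))
      exact sub_eq_zero.1 (hz1 W₁.zero_mem (W₂.sub_mem (hf _) (W₂.smul_mem _ (hf _))) h4 rfl)
    let j : W₁ →ₗ[F] S :=
      { toFun := fun x => ⟨(x : V8 F) + f x, hf' x⟩
        map_add' := fun x y => by
          apply Subtype.ext
          show ((x + y : W₁) : V8 F) + f (x + y) = ((x : V8 F) + f x) + ((y : V8 F) + f y)
          rw [hadd, Submodule.coe_add]; abel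
        map_smul' := fun c x => by
          apply Subtype.ext
          show ((c • x : W₁) : V8 F) + f (c • x) = c • ((x : V8 F) + f x)
          rw [hsmul, Submodule.coe_smul, smul_add] }
    have hj : Function.Injective j := by
      intro x y hxy
      have h4 : (x : V8 F) + f x = (y : V8 F) + f y := congrArg Subtype.val hxy
      exact Subtype.ext (h.eq_of_add x.2 (hf x) y.2 (hf y) h4).1
    have h5 := LinearMap.finrank_le_finrank_of_injective hj
    rwa [h.d₁] at h5
  obtain ⟨s, hsS, hs0, hsq⟩ := Cfsg.Agent.LieClassical.OrthFinite.exists_sing_mem (Q := plusForm 4 F) S hdim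
  obtain ⟨a₁, ha₁, a₂, ha₂, rfl⟩ := Submodule.mem_sup.1 (hU hsS)
  have ha₁0 : a₁ ≠ 0 := fun h0 => hs0 (by rw [h0, hz1 ha₁ ha₂ hsS h0, add_zero])
  -- all vectors of `S` are singular
  have hTS : TS (plusForm 4 F) S := by
    intro t ht
    obtain ⟨b₁, hb₁, b₂, hb₂, rfl⟩ := Submodule.mem_sup.1 (hU ht)
    by_cases hb0 : b₁ = 0
    · rw [hb0, hz1 hb₁ hb₂ ht hb0, add_zero, QuadraticMap.map_zero]
    obtain ⟨k, a, h3⟩ := hs.trans₁ a₁ ha₁ b₁ hb₁ ha₁0 hb0
    have ha : a ≠ 0 := by
      rintro rfl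
      rw [zero_smul] at h3
      exact ha₁0 ((g ^ k).map_eq_zero_iff.1 h3)
    have h4 : (0 : V8 F) + ((g ^ k) a₂ - a • b₂) ∈ S := by
      have : (0 : V8 F) + ((g ^ k) a₂ - a • b₂) = (g ^ k) (a₁ + a₂) - a • (b₁ + b₂) := by
        rw [map_add, h3, smul_add]; abel
      rw [this]
      exact S.sub_mem (pow_mem hS k _ hsS) (S.smul_mem _ ht)
    have h5 := sub_eq_zero.1 (hz1 W₁.zero_mem (W₂.sub_mem (pow_mem hs.inv₂ k _ ha₂) (W₂.smul_mem _ hb₂)) h4 rfl)
    have h6 : a • (b₁ + b₂) = (g ^ k) (a₁ + a₂) := by rw [map_add, h3, h5, smul_add]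
    have h7 : plusForm 4 F (a • (b₁ + b₂)) = 0 := by
      rw [h6]
      have h8 : ((g ^ k : V8 F ≃ₗ[F] V8 F)) ∈ O (plusForm 4 F) := E_le_O ((E (plusForm 4 F)).pow_mem hs.mem k)
      rw [← hsq]
      exact h8 _
    rw [QuadraticMap.map_smul, smul_eq_mul, mul_eq_zero] at h7
    exact h7.resolve_left (mul_ne_zero ha ha)
  -- the alternating form
  have hlift : ∀ w ∈ W₁, ∃ b ∈ W₂, w + b ∈ S := fun w hw => (hP₁ hw).2
  let bs := Module.finBasisOfFinrankEq F W₁ h.d₁
  have he : ∀ i : Fin 3, ∃ b ∈ W₂, ((bs i : W₁) : V8 F) + b ∈ S := fun i => hlift _ (bs i).2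
  choose φ hφ hφS using he
  set e : Fin 3 → V8 F := fun i => ((bs i : W₁) : V8 F) with hedef
  have heW : ∀ i, e i ∈ W₁ := fun i => (bs i).2
  have hq : ∀ i, polar (plusForm 4 F) (e i) (φ i) = 0 := by
    intro i
    rw [← h.q_add (heW i) (hφ i)]
    exact hTS _ (hφS i)
  have hpol : ∀ i j, polar (plusForm 4 F) (e i) (φ j) = - polar (plusForm 4 F) (e j) (φ i) := by
    intro i j
    have h3 := hTS.polar (hφS i) (hφS j)
    change polar (plusForm 4 F) (e i + φ i) (e j + φ j) = 0 at h3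
    rw [polar_add_left, polar_add_right, polar_add_right, h.ts₁.polar (heW i) (heW j), h.ts₂.polar (hφ i) (hφ j),
      polar_comm _ (φ i) (e j)] at h3
    linear_combination h3
  -- the `φ i` span `W₂`
  have hspan : ∀ w ∈ W₂, ∃ x : Fin 3 → F, w = ∑ i, x i • φ i := by
    intro w hw
    -- the second projection is onto
    obtain ⟨b, hb, hbw⟩ : ∃ b ∈ W₁, b + w ∈ S := by
      let P₂ : Submodule F (V8 F) :=
        { carrier := {a | a ∈ W₂ ∧ ∃ b ∈ W₁, b + a ∈ S}
          add_mem' := by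
            rintro a a' ⟨ha, b, hb, hab⟩ ⟨ha', b', hb', hab'⟩
            refine ⟨W₂.add_mem ha ha', b + b', W₁.add_mem hb hb', ?_⟩
            have : b + b' + (a + a') = (b + a) + (b' + a') := by abel
            rw [this]
            exact S.add_mem hab hab'
          zero_mem' := ⟨W₂.zero_mem, 0, W₁.zero_mem, by rw [add_zero]; exact S.zero_mem⟩
          smul_mem' := by
            rintro c a ⟨ha, b, hb, hab⟩
            exact ⟨W₂.smul_mem c ha, c • b, W₁.smul_mem c hb, by rw [← smul_add]; exact S.smul_mem c hab⟩ }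
      have hP₂ : W₂ ≤ P₂ := by
        have h3 : a₂ ≠ 0 := fun h0 => ha₁0 (hz2 ha₁ ha₂ hsS h0)
        refine le_of_mem h.symm hs.symm (S := P₂) ?_ ha₂ h3 ⟨ha₂, a₁, ha₁, hsS⟩
        rintro a ⟨ha, b, hb, hab⟩
        exact ⟨hs.inv₂ _ ha, g b, hs.inv₁ _ hb, by rw [← map_add]; exact hS _ hab⟩
      exact (hP₂ hw).2
    refine ⟨fun i => bs.repr ⟨b, hb⟩ i, ?_⟩
    have h3 : b = ∑ i, bs.repr ⟨b, hb⟩ i • e i := by
      have h4 := bs.sum_repr ⟨b, hb⟩
      have h5 := congrArg (Subtype.val : W₁ → V8 F) h4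
      rw [Submodule.coe_sum] at h5
      exact h5.symm
    have h6 : (0 : V8 F) + (w - ∑ i, bs.repr ⟨b, hb⟩ i • φ i) ∈ S := by
      have h7 : (0 : V8 F) + (w - ∑ i, bs.repr ⟨b, hb⟩ i • φ i) = (b + w) - ∑ i, bs.repr ⟨b, hb⟩ i • (e i + φ i) := by
        have h8 : ∑ i, bs.repr ⟨b, hb⟩ i • (e i + φ i) = ∑ i, bs.repr ⟨b, hb⟩ i • e i +
            ∑ i, bs.repr ⟨b, hb⟩ i • φ i := by
          rw [← Finset.sum_add_distrib]
          exact Finset.sum_congr rfl fun i _ => smul_add _ _ _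
        rw [h8, ← h3]
        abel
      rw [h7]
      exact S.sub_mem hbw (S.sum_mem fun i _ => S.smul_mem _ (hφS i))
    exact sub_eq_zero.1 (hz1 W₁.zero_mem (W₂.sub_mem hw (W₂.sum_mem fun i _ => W₂.smul_mem _ (hφ i))) h6 rfl)
  -- the radical vector
  set β : Fin 3 → Fin 3 → F := fun i j => polar (plusForm 4 F) (e i) (φ j) with hβ
  have hx : β 1 2 • e 0 - β 0 2 • e 1 + β 0 1 • e 2 = 0 := by
    refine h.dual (W₁.add_mem (W₁.sub_mem (W₁.smul_mem _ (heW 0)) (W₁.smul_mem _ (heW 1))) (W₁.smul_mem _ (heW 2)))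
      fun w hw => ?_
    obtain ⟨x, rfl⟩ := hspan w hw
    have key : ∀ j, polar (plusForm 4 F) (β 1 2 • e 0 - β 0 2 • e 1 + β 0 1 • e 2) (φ j) = 0 := by
      intro j
      rw [polar_add_left, polar_sub_left, polar_smul_left, polar_smul_left, polar_smul_left]
      have h00 : β 0 0 = 0 := hq 0
      have h11 : β 1 1 = 0 := hq 1
      have h22 : β 2 2 = 0 := hq 2
      have h10 : β 1 0 = - β 0 1 := hpol 1 0
      have h20 : β 2 0 = - β 0 2 := hpol 2 0
      have h21 : β 2 1 = - β 1 2 := hpol 2 1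
      change β 1 2 • β 0 j - β 0 2 • β 1 j + β 0 1 • β 2 j = 0
      fin_cases j
      · change β 1 2 • β 0 0 - β 0 2 • β 1 0 + β 0 1 • β 2 0 = 0
        rw [h00, h10, h20]; simp only [smul_eq_mul]; ring
      · change β 1 2 • β 0 1 - β 0 2 • β 1 1 + β 0 1 • β 2 1 = 0
        rw [h11, h21]; simp only [smul_eq_mul]; ring
      · change β 1 2 • β 0 2 - β 0 2 • β 1 2 + β 0 1 • β 2 2 = 0
        rw [h22]; simp only [smul_eq_mul]; ring
    have hlin : ∀ u : V8 F, polar (plusForm 4 F) u (∑ i, x i • φ i) = ∑ i, x i * polar (plusForm 4 F) u (φ i) := by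
      intro u
      have h3 := map_sum (polarBilin (plusForm 4 F) u) (fun i => x i • φ i) Finset.univ
      simp only [map_smul, polarBilin_apply_apply, smul_eq_mul] at h3
      exact h3
    rw [hlin]
    exact Finset.sum_eq_zero fun i _ => by rw [key, mul_zero]
  have hβ0 : β 1 2 = 0 ∧ β 0 2 = 0 ∧ β 0 1 = 0 := by
    have hli := bs.linearIndependent
    have h3 : β 1 2 • bs 0 + (-β 0 2) • bs 1 + β 0 1 • bs 2 = 0 := by
      apply Subtype.ext
      show β 1 2 • e 0 + (-β 0 2) • e 1 + β 0 1 • e 2 = 0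
      rw [← hx]
      module
    have h4 := Fintype.linearIndependent_iff.1 hli ![β 1 2, -β 0 2, β 0 1] (by
      rw [Fin.sum_univ_three]
      exact h3)
    refine ⟨h4 0, neg_eq_zero.1 (h4 1), h4 2⟩
  -- contradiction
  have h3 : e 0 = 0 := by
    refine h.dual (heW 0) fun w hw => ?_
    obtain ⟨x, rfl⟩ := hspan w hw
    have h3 := map_sum (polarBilin (plusForm 4 F) (e 0)) (fun i => x i • φ i) Finset.univ
    simp only [map_smul, polarBilin_apply_apply, smul_eq_mul] at h3
    rw [h3, Fin.sum_univ_three]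
    have h00 : β 0 0 = 0 := hq 0
    change x 0 * β 0 0 + x 1 * β 0 1 + x 2 * β 0 2 = 0
    rw [h00, hβ0.2.1, hβ0.2.2]
    ring
  exact bs.ne_zero 0 (Subtype.ext h3)

end Singer

end Cfsg.Agent.H465.OEight
end

-- part: H465/OEClaim
section
/-!
# Solvable groups of similitudes containing a Singer element (helper465)

* `claim_six` : if `M` fixes `⟨c₁⟩` then every element of `M` fixes `⟨c₁⟩ ⊕ W₁` or `⟨c₁⟩ ⊕ W₂` or exchanges them;
* `claim_eight` : `M` has a totally singular invariant subspace or permutes `{W₁, W₂}`.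
-/

set_option autoImplicit false
set_option linter.unusedSectionVars false

namespace Cfsg.Agent.H465.OEight

open Module QuadraticMap Cfsg.Agent.LieClassical.OrthCore Cfsg.Agent.LieClassical.OrthTrans
  Cfsg.Agent.ClassicalGeometry.OrthAut1 Cfsg.Agent.LieClassical.QuadForms Cfsg.Agent.ClassicalGeometry.TrialityOct
  Cfsg.Agent.ClassicalGeometry.Triality

universe u

variable {F : Type u} [Field F] {c₁ c₂ : V8 F} {W₁ W₂ : Submodule F (V8 F)}

/-! ### images, similitudes -/

theorem finrank_im (b : V8 F ≃ₗ[F] V8 F) (S : Submodule F (V8 F)) : finrank F (im b S) = finrank F S :=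
  LinearEquiv.finrank_map_eq b S

theorem im_eq_of_le {b : V8 F ≃ₗ[F] V8 F} {S : Submodule F (V8 F)} (h : ∀ v ∈ S, b v ∈ S) : im b S = S := by
  apply Submodule.eq_of_le_of_finrank_eq
  · rintro _ ⟨v, hv, rfl⟩
    exact h v hv
  · exact finrank_im b S

theorem im_injective (b : V8 F ≃ₗ[F] V8 F) : Function.Injective (im b) :=
  Submodule.map_injective_of_injective b.injective

theorem Inv.im_eq {M : Subgroup (V8 F ≃ₗ[F] V8 F)} {S : Submodule F (V8 F)} (h : Inv M S) {m : V8 F ≃ₗ[F] V8 F}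
    (hm : m ∈ M) : im m S = S := im_eq_of_le (h m hm)

theorem inv_of_im {M : Subgroup (V8 F ≃ₗ[F] V8 F)} {S : Submodule F (V8 F)} (h : ∀ m ∈ M, im m S = S) : Inv M S := by
  intro m hm v hv
  have h1 : m v ∈ im m S := ⟨v, hv, rfl⟩
  rwa [h m hm] at h1

theorem Inv.inf {M : Subgroup (V8 F ≃ₗ[F] V8 F)} {S T : Submodule F (V8 F)} (h : Inv M S) (h' : Inv M T) :
    Inv M (S ⊓ T) := fun m hm v hv => ⟨h m hm v hv.1, h' m hm v hv.2⟩

theorem Inv.sup {M : Subgroup (V8 F ≃ₗ[F] V8 F)} {S T : Submodule F (V8 F)} (h : Inv M S) (h' : Inv M T) :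
    Inv M (S ⊔ T) := by
  intro m hm v hv
  obtain ⟨a, ha, b, hb, rfl⟩ := Submodule.mem_sup.1 hv
  rw [map_add]
  exact Submodule.add_mem_sup (h m hm a ha) (h' m hm b hb)

theorem Sim.polar {b : V8 F ≃ₗ[F] V8 F} (h : Sim b) :
    ∃ c : F, c ≠ 0 ∧ ∀ v w, QuadraticMap.polar (plusForm 4 F) (b v) (b w) = c * QuadraticMap.polar (plusForm 4 F) v w := by
  obtain ⟨c, hc, h1⟩ := h
  refine ⟨c, hc, fun v w => ?_⟩
  simp only [QuadraticMap.polar]
  rw [← map_add, h1, h1, h1]
  ring

theorem Sim.polar_eq_zero {b : V8 F ≃ₗ[F] V8 F} (h : Sim b) {v w : V8 F}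
    (h0 : QuadraticMap.polar (plusForm 4 F) v w = 0) : QuadraticMap.polar (plusForm 4 F) (b v) (b w) = 0 := by
  obtain ⟨c, -, h1⟩ := h.polar
  rw [h1, h0, mul_zero]

theorem Sim.q_eq_zero {b : V8 F ≃ₗ[F] V8 F} (h : Sim b) {v : V8 F} (h0 : plusForm 4 F v = 0) :
    plusForm 4 F (b v) = 0 := by
  obtain ⟨c, -, h1⟩ := h
  rw [h1, h0, mul_zero]

/-- the orthogonal complement of a subspace -/
def orth (T : Submodule F (V8 F)) : Submodule F (V8 F) where
  carrier := {v | ∀ t ∈ T, polar (plusForm 4 F) t v = 0}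
  add_mem' := fun {a b} ha hb t ht => by rw [polar_add_right, ha t ht, hb t ht, add_zero]
  zero_mem' := fun t _ => polar_zero_right _ _
  smul_mem' := fun c v hv t ht => by rw [polar_smul_right, hv t ht, smul_zero]

theorem mem_orth {T : Submodule F (V8 F)} {v : V8 F} : v ∈ orth T ↔ ∀ t ∈ T, polar (plusForm 4 F) t v = 0 := Iff.rfl

variable {M : Subgroup (V8 F ≃ₗ[F] V8 F)}

theorem inv_orth (hsim : ∀ m ∈ M, Sim m) {T : Submodule F (V8 F)} (hT : Inv M T) : Inv M (orth T) := by
  intro m hm v hv t ht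
  have h1 := (hsim m hm).polar_eq_zero (hv _ (hT m⁻¹ (M.inv_mem hm) t ht))
  have h2 : m (m⁻¹ t) = t := m.apply_symm_apply t
  rwa [h2] at h1

theorem inv_perp (hsim : ∀ m ∈ M, Sim m) {v : V8 F} (hv : Inv M (Submodule.span F {v})) : Inv M (perp v) := by
  intro m hm a ha
  have h1 : m⁻¹ v ∈ Submodule.span F {v} := hv m⁻¹ (M.inv_mem hm) v (Submodule.mem_span_singleton_self v)
  obtain ⟨c, hc⟩ := Submodule.mem_span_singleton.1 h1
  have h2 : polar (plusForm 4 F) (m⁻¹ v) a = 0 := by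
    rw [← hc, polar_smul_left]
    rw [mem_perp.1 ha, smul_zero]
  have h3 := (hsim m hm).polar_eq_zero h2
  have h4 : m (m⁻¹ v) = v := m.apply_symm_apply v
  rwa [h4] at h3

/-! ### subspaces invariant under a Singer element -/

section

variable {r : ℕ} {g : V8 F ≃ₗ[F] V8 F} (h : Frame c₁ c₂ W₁ W₂) (hs : Singer r g c₁ c₂ W₁ W₂)

/-- the plane `⟨c₁, c₂⟩` -/
def plane (c₁ c₂ : V8 F) : Submodule F (V8 F) := Submodule.span F {c₁, c₂}

theorem mem_plane {v : V8 F} : v ∈ plane c₁ c₂ ↔ ∃ a b : F, a • c₁ + b • c₂ = v := Submodule.mem_span_pair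

include h

theorem Frame.polar_comb (a b : F) : polar (plusForm 4 F) c₁ (a • c₁ + b • c₂) = b ∧
    polar (plusForm 4 F) c₂ (a • c₁ + b • c₂) = a := by
  rw [polar_add_right, polar_add_right, polar_smul_right, polar_smul_right, polar_smul_right, polar_smul_right,
    polar_self_of h.q₁, polar_self_of h.q₂, h.pair, polar_comm _ c₂ c₁, h.pair]
  constructor <;> simp

theorem Frame.q_comb (a b : F) : plusForm 4 F (a • c₁ + b • c₂) = a * b := by
  rw [Q_add, QuadraticMap.map_smul, QuadraticMap.map_smul, h.q₁, h.q₂, polar_smul_left, polar_smul_right, h.pair]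
  simp

theorem Frame.c₁_ne : c₁ ≠ 0 := by
  rintro rfl
  have := h.pair
  rw [polar_zero_left] at this
  exact zero_ne_one this

theorem Frame.polar_U {u : V8 F} (hu : u ∈ W₁ ⊔ W₂) :
    polar (plusForm 4 F) c₁ u = 0 ∧ polar (plusForm 4 F) c₂ u = 0 := by
  rw [h.sup_eq, Submodule.mem_inf] at hu
  exact hu

theorem Frame.plane_perp {c u : V8 F} (hc : c ∈ plane c₁ c₂) (hu : u ∈ W₁ ⊔ W₂) : polar (plusForm 4 F) c u = 0 := by
  obtain ⟨a, b, rfl⟩ := mem_plane.1 hc
  rw [polar_add_left, polar_smul_left, polar_smul_left, (h.polar_U hu).1, (h.polar_U hu).2]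
  simp

theorem Frame.finrank_U : finrank F ↥(W₁ ⊔ W₂) = 6 := by
  have h1 := Submodule.finrank_sup_add_finrank_inf_eq W₁ W₂
  rw [h.disj, finrank_bot, h.d₁, h.d₂] at h1
  omega

theorem Frame.plane_inf : plane c₁ c₂ ⊓ (W₁ ⊔ W₂) = ⊥ := by
  rw [eq_bot_iff]
  rintro v ⟨hv, hu⟩
  obtain ⟨a, b, rfl⟩ := mem_plane.1 hv
  have h1 := h.polar_comb a b
  have h2 := h.polar_U hu
  rw [h1.1, h1.2] at h2
  rw [h2.1, h2.2, zero_smul, zero_smul, add_zero]
  exact Submodule.zero_mem _

theorem Frame.finrank_plane : finrank F (plane c₁ c₂) = 2 := by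
  have hli : LinearIndependent F ![c₁, c₂] := by
    rw [LinearIndependent.pair_iff]
    intro a b hab
    have h1 := h.polar_comb a b
    rw [hab, polar_zero_right, polar_zero_right] at h1
    exact ⟨h1.2.symm, h1.1.symm⟩
  have h2 := finrank_span_eq_card hli
  rw [Matrix.range_cons_cons_empty, Fintype.card_fin] at h2
  exact h2

include hs

theorem Singer.mem_parts (hr : (r : F) = 1) {S : Submodule F (V8 F)} (hS : ∀ v ∈ S, g v ∈ S) {v : V8 F} (hv : v ∈ S) :
    ∃ c ∈ S ⊓ plane c₁ c₂, ∃ u ∈ S ⊓ (W₁ ⊔ W₂), v = c + u := by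
  obtain ⟨w₁, h₁, w₂, h₂, hv'⟩ := h.decomp v
  have h3 := Singer.comp_mem h hs hr hS hv
  refine ⟨_, ⟨h3, mem_plane.2 ⟨_, _, rfl⟩⟩, w₁ + w₂, ⟨?_, Submodule.add_mem_sup h₁ h₂⟩, hv'⟩
  have h4 := S.sub_mem hv h3
  have h5 : v - (polar (plusForm 4 F) c₂ v • c₁ + polar (plusForm 4 F) c₁ v • c₂) = w₁ + w₂ := by
    rw [sub_eq_iff_eq_add]
    rw [add_comm]
    exact hv'
  rwa [h5] at h4

theorem Singer.sup_parts (hr : (r : F) = 1) {S : Submodule F (V8 F)} (hS : ∀ v ∈ S, g v ∈ S) :
    (S ⊓ plane c₁ c₂) ⊔ (S ⊓ (W₁ ⊔ W₂)) = S := by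
  apply le_antisymm (sup_le inf_le_left inf_le_left)
  intro v hv
  obtain ⟨c, hc, u, hu, rfl⟩ := Singer.mem_parts h hs hr hS hv
  exact Submodule.add_mem_sup hc hu

theorem Singer.finrank_parts (hr : (r : F) = 1) {S : Submodule F (V8 F)} (hS : ∀ v ∈ S, g v ∈ S) :
    finrank F S = finrank F ↥(S ⊓ plane c₁ c₂) + finrank F ↥(S ⊓ (W₁ ⊔ W₂)) := by
  have h1 := Submodule.finrank_sup_add_finrank_inf_eq (S ⊓ plane c₁ c₂) (S ⊓ (W₁ ⊔ W₂))
  have h2 : (S ⊓ plane c₁ c₂) ⊓ (S ⊓ (W₁ ⊔ W₂)) = ⊥ := by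
    rw [eq_bot_iff, ← h.plane_inf]
    exact inf_le_inf inf_le_right inf_le_right
  rw [h2, finrank_bot, Singer.sup_parts h hs hr hS] at h1
  omega

/-- invariant subspaces of `U = W₁ ⊕ W₂` -/
theorem Singer.cases_U [Finite F] {S : Submodule F (V8 F)} (hS : ∀ v ∈ S, g v ∈ S) (hU : S ≤ W₁ ⊔ W₂) :
    S = ⊥ ∨ S = W₁ ∨ S = W₂ ∨ S = W₁ ⊔ W₂ := by
  by_cases h1 : S ⊓ W₁ = ⊥
  · by_cases h2 : S ⊓ W₂ = ⊥
    · exact Or.inl (Singer.eq_bot_of_graph h hs hS hU h1 h2)
    · obtain ⟨w, ⟨hwS, hw⟩, hw0⟩ := Submodule.exists_mem_ne_zero_of_ne_bot h2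
      have h3 := Singer.le_of_mem h.symm hs.symm hS hw hw0 hwS
      right; right; left
      apply le_antisymm _ h3
      intro v hv
      obtain ⟨w₁, h₁, w₂, h₂, rfl⟩ := Submodule.mem_sup.1 (hU hv)
      have h4 : w₁ ∈ S ⊓ W₁ := ⟨by have := S.sub_mem hv (h3 h₂); rwa [add_sub_cancel_right] at this, h₁⟩
      rw [h1, Submodule.mem_bot] at h4
      rw [h4, zero_add]
      exact h₂
  · obtain ⟨w, ⟨hwS, hw⟩, hw0⟩ := Submodule.exists_mem_ne_zero_of_ne_bot h1
    have h3 := Singer.le_of_mem h hs hS hw hw0 hwS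
    by_cases h2 : S ⊓ W₂ = ⊥
    · right; left
      apply le_antisymm _ h3
      intro v hv
      obtain ⟨w₁, h₁, w₂, h₂, rfl⟩ := Submodule.mem_sup.1 (hU hv)
      have h4 : w₂ ∈ S ⊓ W₂ := ⟨by have := S.sub_mem hv (h3 h₁); rwa [add_sub_cancel_left] at this, h₂⟩
      rw [h2, Submodule.mem_bot] at h4
      rw [h4, add_zero]
      exact h₁
    · obtain ⟨w', ⟨hwS', hw'⟩, hw0'⟩ := Submodule.exists_mem_ne_zero_of_ne_bot h2
      have h4 := Singer.le_of_mem h.symm hs.symm hS hw' hw0' hwS'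
      right; right; right
      exact le_antisymm hU (sup_le h3 h4)

theorem Singer.inv_U : ∀ v ∈ W₁ ⊔ W₂, g v ∈ W₁ ⊔ W₂ := by
  intro v hv
  obtain ⟨w₁, h₁, w₂, h₂, rfl⟩ := Submodule.mem_sup.1 hv
  rw [map_add]
  exact Submodule.add_mem_sup (hs.inv₁ _ h₁) (hs.inv₂ _ h₂)

theorem Singer.cases_inf [Finite F] {S : Submodule F (V8 F)} (hS : ∀ v ∈ S, g v ∈ S) :
    S ⊓ (W₁ ⊔ W₂) = ⊥ ∨ S ⊓ (W₁ ⊔ W₂) = W₁ ∨ S ⊓ (W₁ ⊔ W₂) = W₂ ∨ S ⊓ (W₁ ⊔ W₂) = W₁ ⊔ W₂ :=
  Singer.cases_U h hs (fun v hv => ⟨hS v hv.1, Singer.inv_U h hs v hv.2⟩) inf_le_right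

/-- dimensions of totally singular invariant subspaces -/
theorem Singer.finrank_TS [Finite F] (hr : (r : F) = 1) {S : Submodule F (V8 F)} (hS : ∀ v ∈ S, g v ∈ S)
    (hTS : TS (plusForm 4 F) S) :
    finrank F ↥(S ⊓ plane c₁ c₂) ≤ 1 ∧ (S ⊓ (W₁ ⊔ W₂) = ⊥ ∨ S ⊓ (W₁ ⊔ W₂) = W₁ ∨ S ⊓ (W₁ ⊔ W₂) = W₂) := by
  constructor
  · by_contra hcon
    push Not at hcon
    have h1 : S ⊓ plane c₁ c₂ = plane c₁ c₂ := by
      apply Submodule.eq_of_le_of_finrank_le inf_le_right
      rw [h.finrank_plane]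
      exact hcon
    have h2 : plane c₁ c₂ ≤ S := inf_eq_right.1 h1
    have h3 : c₁ ∈ S := h2 (mem_plane.2 ⟨1, 0, by simp⟩)
    have h4 : c₂ ∈ S := h2 (mem_plane.2 ⟨0, 1, by simp⟩)
    have h5 := hTS.polar h3 h4
    rw [h.pair] at h5
    exact one_ne_zero h5
  · rcases Singer.cases_inf h hs hS with h1 | h1 | h1 | h1
    · exact Or.inl h1
    · exact Or.inr (Or.inl h1)
    · exact Or.inr (Or.inr h1)
    · exfalso
      have h2 : W₁ ⊔ W₂ ≤ S := inf_eq_right.1 h1
      have h3 : W₁ = ⊥ := by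
        rw [eq_bot_iff]
        intro w hw
        rw [Submodule.mem_bot]
        exact h.dual hw fun w₂ hw₂ => hTS.polar (h2 (Submodule.mem_sup_left hw)) (h2 (Submodule.mem_sup_right hw₂))
      have h4 := h.d₁
      rw [h3, finrank_bot] at h4
      omega

theorem Singer.finrank_cases [Finite F] (hr : (r : F) = 1) {S : Submodule F (V8 F)} (hS : ∀ v ∈ S, g v ∈ S)
    (hTS : TS (plusForm 4 F) S) (hne : S ≠ ⊥) : finrank F S = 1 ∨ finrank F S = 3 ∨ finrank F S = 4 := by
  have h0 : finrank F S ≠ 0 := fun h0 => hne (Submodule.finrank_eq_zero.1 h0)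
  have h1 := Singer.finrank_parts h hs hr hS
  obtain ⟨h2, h3⟩ := Singer.finrank_TS h hs hr hS hTS
  rcases h3 with h3 | h3 | h3
  · rw [h3, finrank_bot] at h1
    omega
  · rw [h3, h.d₁] at h1
    omega
  · rw [h3, h.d₂] at h1
    omega

theorem Singer.eq_of_three [Finite F] (hr : (r : F) = 1) {S : Submodule F (V8 F)} (hS : ∀ v ∈ S, g v ∈ S)
    (hTS : TS (plusForm 4 F) S) (h3 : finrank F S = 3) : S = W₁ ∨ S = W₂ := by
  have h1 := Singer.finrank_parts h hs hr hS
  obtain ⟨h2, h4⟩ := Singer.finrank_TS h hs hr hS hTS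
  rcases h4 with h4 | h4 | h4
  · rw [h4, finrank_bot] at h1
    omega
  · left
    symm
    apply Submodule.eq_of_le_of_finrank_eq
    · rw [← h4]; exact inf_le_left
    · rw [h3, h.d₁]
  · right
    symm
    apply Submodule.eq_of_le_of_finrank_eq
    · rw [← h4]; exact inf_le_left
    · rw [h3, h.d₂]

/-- subspaces between `⟨c₁⟩` and `c₁^⊥` -/
theorem Singer.between [Finite F] (hr : (r : F) = 1) {S : Submodule F (V8 F)} (hS : ∀ v ∈ S, g v ∈ S)
    (h1 : Submodule.span F {c₁} ≤ S) (h2 : S ≤ perp c₁) :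
    S = Submodule.span F {c₁} ∨ S = Submodule.span F {c₁} ⊔ W₁ ∨ S = Submodule.span F {c₁} ⊔ W₂ ∨ S = perp c₁ := by
  have hc : S ⊓ plane c₁ c₂ = Submodule.span F {c₁} := by
    apply le_antisymm
    · rintro v ⟨hv, hp⟩
      obtain ⟨a, b, rfl⟩ := mem_plane.1 hp
      have h3 := mem_perp.1 (h2 hv)
      rw [(h.polar_comb a b).1] at h3
      rw [h3, zero_smul, add_zero]
      exact Submodule.smul_mem _ _ (Submodule.mem_span_singleton_self _)
    · refine le_inf h1 ?_
      rw [Submodule.span_singleton_le_iff_mem]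
      exact mem_plane.2 ⟨1, 0, by simp⟩
  have hsup := Singer.sup_parts h hs hr hS
  rw [hc] at hsup
  rcases Singer.cases_inf h hs hS with h3 | h3 | h3 | h3
  · left
    rw [← hsup, h3, sup_bot_eq]
  · right; left
    rw [h3] at hsup
    exact hsup.symm
  · right; right; left
    rw [h3] at hsup
    exact hsup.symm
  · right; right; right
    apply le_antisymm h2
    intro v hv
    obtain ⟨w₁, h₁, w₂, h₂, hv'⟩ := h.decomp v
    rw [mem_perp.1 hv, zero_smul, add_zero] at hv'
    rw [hv', ← hsup, h3]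
    exact Submodule.add_mem_sup (Submodule.smul_mem _ _ (Submodule.mem_span_singleton_self _))
      (Submodule.add_mem_sup h₁ h₂)

theorem Singer.inv_span : ∀ v ∈ Submodule.span F {c₁}, g v ∈ Submodule.span F {c₁} := by
  intro v hv
  obtain ⟨a, rfl⟩ := Submodule.mem_span_singleton.1 hv
  rw [map_smul, hs.fix₁]
  exact hv

end

/-! ### Claims -/

section claims

variable [Finite F] {p r : ℕ} [Fact p.Prime] [CharP F p] [Fact r.Prime] {g : V8 F ≃ₗ[F] V8 F}
  (h : Frame c₁ c₂ W₁ W₂) (hs : Singer r g c₁ c₂ W₁ W₂) (hM : Group.IsSolvable M) [Finite M] (hg : g ∈ M)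
  (h2 : ¬ r ^ 2 ∣ Nat.card M) (hC : Cen F p r M) (hsim : ∀ m ∈ M, Sim m) (hr : (r : F) = 1)

include hs hM hg h2 hC in
/-- an irreducible section: images of `g`-invariant subspaces are `g`-invariant -/
theorem image_inv {S' S : Submodule F (V8 F)} (hS' : Inv M S') (hS : Inv M S) (hle : S' ≤ S)
    (hirr : ∀ T, Inv M T → S' ≤ T → T ≤ S → T = S' ∨ T = S) {m : V8 F ≃ₗ[F] V8 F} (hm : m ∈ M)
    {T : Submodule F (V8 F)} (hT' : S' ≤ T) (hTS : T ≤ S) (hT : ∀ v ∈ T, g v ∈ T) : ∀ v ∈ im m T, g v ∈ im m T := by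
  rintro _ ⟨x, hx, rfl⟩
  obtain ⟨k, hk⟩ := section_normal (p := p) (r := r) (finrank_V8 (F := F)).le hM hg hs.ord h2 hC hS' hS hle hirr
    (M.inv_mem hm)
  have h3 := hT' (hk x (hTS hx))
  have h4 := T.add_mem h3 (Singer.pow_mem hT k x hx)
  rw [sub_add_cancel] at h4
  refine ⟨_, h4, ?_⟩
  show m ((m⁻¹ * g * m⁻¹⁻¹) x) = g (m x)
  rw [inv_inv]
  show m (m⁻¹ (g (m x))) = g (m x)
  exact m.apply_symm_apply _

include h hs hM hg h2 hC hsim hr in
/-- `M` fixes the singular point `⟨c₁⟩` -/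
theorem claim_six (hu : Inv M (Submodule.span F {c₁})) {m : V8 F ≃ₗ[F] V8 F} (hm : m ∈ M) :
    im m (Submodule.span F {c₁} ⊔ W₁) = Submodule.span F {c₁} ⊔ W₁ ∨
    im m (Submodule.span F {c₁} ⊔ W₂) = Submodule.span F {c₁} ⊔ W₂ ∨
    (im m (Submodule.span F {c₁} ⊔ W₁) = Submodule.span F {c₁} ⊔ W₂ ∧
      im m (Submodule.span F {c₁} ⊔ W₂) = Submodule.span F {c₁} ⊔ W₁) := by
  have hS : Inv M (perp c₁) := inv_perp hsim hu
  have hle : Submodule.span F {c₁} ≤ perp c₁ := by
    rw [Submodule.span_singleton_le_iff_mem]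
    exact polar_self_of h.q₁
  have hX₁ : Submodule.span F {c₁} ⊔ W₁ ≤ perp c₁ := sup_le hle fun w hw => (h.perp₁ w hw).1
  have hX₂ : Submodule.span F {c₁} ⊔ W₂ ≤ perp c₁ := sup_le hle fun w hw => (h.perp₂ w hw).1
  have hc : ∀ W : Submodule F (V8 F), W ≤ W₁ ⊔ W₂ → finrank F W = 3 →
      finrank F ↥(Submodule.span F {c₁} ⊔ W) = 4 := by
    intro W hW h3
    have h4 := Submodule.finrank_sup_add_finrank_inf_eq (Submodule.span F {c₁}) W
    have h5 : Submodule.span F {c₁} ⊓ W = ⊥ := by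
      rw [eq_bot_iff, ← h.plane_inf]
      refine inf_le_inf ?_ hW
      rw [Submodule.span_singleton_le_iff_mem]
      exact mem_plane.2 ⟨1, 0, by simp⟩
    rw [h5, finrank_bot, h3, finrank_span_singleton h.c₁_ne] at h4
    omega
  have hc₁ := hc W₁ le_sup_left h.d₁
  have hc₂ := hc W₂ le_sup_right h.d₂
  have hperp : finrank F (perp c₁) = 7 := by
    have h4 := LinearMap.finrank_range_add_finrank_ker (polarBilin (plusForm 4 F) c₁)
    have h5 : LinearMap.range (polarBilin (plusForm 4 F) c₁) = ⊤ := by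
      rw [LinearMap.range_eq_top]
      intro a
      refine ⟨a • c₂, ?_⟩
      show polar (plusForm 4 F) c₁ (a • c₂) = a
      rw [polar_smul_right, h.pair, smul_eq_mul, mul_one]
    rw [h5, finrank_top, finrank_V8, Module.finrank_self] at h4
    show finrank F (LinearMap.ker (polarBilin (plusForm 4 F) c₁)) = 7
    (clear * - h4; omega)
  -- a `g`-invariant subspace of dimension `4` between
  have h4 : ∀ Y : Submodule F (V8 F), (∀ v ∈ Y, g v ∈ Y) → Submodule.span F {c₁} ≤ Y → Y ≤ perp c₁ →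
      finrank F Y = 4 → Y = Submodule.span F {c₁} ⊔ W₁ ∨ Y = Submodule.span F {c₁} ⊔ W₂ := by
    intro Y hY h5 h6 h7
    rcases Singer.between h hs hr hY h5 h6 with h8 | h8 | h8 | h8
    · rw [h8, finrank_span_singleton h.c₁_ne] at h7
      omega
    · exact Or.inl h8
    · exact Or.inr h8
    · rw [h8, hperp] at h7
      omega
  by_cases hirr : ∀ T, Inv M T → Submodule.span F {c₁} ≤ T → T ≤ perp c₁ → T = Submodule.span F {c₁} ∨ T = perp c₁
  · have key : ∀ W : Submodule F (V8 F), W ≤ W₁ ⊔ W₂ → (∀ v ∈ W, g v ∈ W) → finrank F W = 3 →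
        im m (Submodule.span F {c₁} ⊔ W) = Submodule.span F {c₁} ⊔ W₁ ∨
        im m (Submodule.span F {c₁} ⊔ W) = Submodule.span F {c₁} ⊔ W₂ := by
      intro W hW hgW h3
      have hXle : Submodule.span F {c₁} ⊔ W ≤ perp c₁ := sup_le hle fun w hw => (h.polar_U (hW hw)).1
      apply h4
      · refine image_inv (p := p) hs hM hg h2 hC hu hS hle hirr hm le_sup_left hXle ?_
        intro v hv
        obtain ⟨a, ha, b, hb, rfl⟩ := Submodule.mem_sup.1 hv
        rw [map_add]
        exact Submodule.add_mem_sup (Singer.inv_span h hs a ha) (hgW b hb)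
      · calc Submodule.span F {c₁} = im m (Submodule.span F {c₁}) := (hu.im_eq hm).symm
          _ ≤ _ := Submodule.map_mono le_sup_left
      · calc im m (Submodule.span F {c₁} ⊔ W) ≤ im m (perp c₁) := Submodule.map_mono hXle
          _ = perp c₁ := hS.im_eq hm
      · rw [finrank_im]
        exact hc W hW h3
    rcases key W₁ le_sup_left hs.inv₁ h.d₁ with h5 | h5
    · exact Or.inl h5
    · rcases key W₂ le_sup_right hs.inv₂ h.d₂ with h6 | h6
      · exact Or.inr (Or.inr ⟨h5, h6⟩)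
      · exact Or.inr (Or.inl h6)
  · push Not at hirr
    obtain ⟨T, hT, h5, h6, h7, h8⟩ := hirr
    rcases Singer.between h hs hr (hT g hg) h5 h6 with h9 | h9 | h9 | h9
    · exact absurd h9 h7
    · left
      rw [← h9]
      exact hT.im_eq hm
    · right; left
      rw [← h9]
      exact hT.im_eq hm
    · exact absurd h9 h8

end claims

end Cfsg.Agent.H465.OEight
end

-- part: H465/OEEight
section
/-!
# Solvable groups of similitudes containing a Singer element, part 2 (helper465)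

* `claim_eight` : `M` has a totally singular invariant subspace or permutes `{W₁, W₂}`;
* `normal_of_permutes` : if `M` permutes `{W₁, W₂}` and consists of isometries then `⟨g⟩ ⊲ M`.
-/

set_option autoImplicit false
set_option linter.unusedSectionVars false

namespace Cfsg.Agent.H465.OEight

open Module QuadraticMap Cfsg.Agent.LieClassical.OrthCore Cfsg.Agent.LieClassical.OrthTrans
  Cfsg.Agent.ClassicalGeometry.OrthAut1 Cfsg.Agent.LieClassical.QuadForms Cfsg.Agent.ClassicalGeometry.TrialityOct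
  Cfsg.Agent.ClassicalGeometry.Triality

universe u

variable {F : Type u} [Field F] {c₁ c₂ : V8 F} {W₁ W₂ : Submodule F (V8 F)} {M : Subgroup (V8 F ≃ₗ[F] V8 F)}

/-- every element of `M` fixes or exchanges `W₁`, `W₂` -/
def Perm (M : Subgroup (V8 F ≃ₗ[F] V8 F)) (W₁ W₂ : Submodule F (V8 F)) : Prop :=
  ∀ m ∈ M, (im m W₁ = W₁ ∧ im m W₂ = W₂) ∨ (im m W₁ = W₂ ∧ im m W₂ = W₁)

/-- there is no totally singular invariant subspace -/
def NoTS (M : Subgroup (V8 F ≃ₗ[F] V8 F)) : Prop := ∀ S : Submodule F (V8 F), TS (plusForm 4 F) S → Inv M S → S = ⊥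

theorem perm_of_cases (h : Frame c₁ c₂ W₁ W₂) (h1 : ∀ m ∈ M, (im m W₁ = W₁ ∨ im m W₁ = W₂) ∧ (im m W₂ = W₁ ∨ im m W₂ = W₂)) :
    Perm M W₁ W₂ := by
  have hne : W₁ ≠ W₂ := by
    intro he
    have h2 := h.disj
    rw [← he, inf_idem] at h2
    have h3 := h.d₁
    rw [h2, finrank_bot] at h3
    omega
  intro m hm
  obtain ⟨h2, h3⟩ := h1 m hm
  rcases h2 with h2 | h2
  · rcases h3 with h3 | h3
    · exact absurd (im_injective m (h2.trans h3.symm)) hne
    · exact Or.inl ⟨h2, h3⟩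
  · rcases h3 with h3 | h3
    · exact Or.inr ⟨h2, h3⟩
    · exact absurd (im_injective m (h2.trans h3.symm)) hne

section eight

variable [Finite F] {p r : ℕ} [Fact p.Prime] [CharP F p] [Fact r.Prime] {g : V8 F ≃ₗ[F] V8 F}
  (h : Frame c₁ c₂ W₁ W₂) (hs : Singer r g c₁ c₂ W₁ W₂) (hM : Group.IsSolvable M) [Finite M] (hg : g ∈ M)
  (h2 : ¬ r ^ 2 ∣ Nat.card M) (hC : Cen F p r M) (hsim : ∀ m ∈ M, Sim m) (hr : (r : F) = 1) (hN : NoTS M)

theorem Frame.W₁_ne (h : Frame c₁ c₂ W₁ W₂) : W₁ ≠ ⊥ := by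
  intro h0
  have h3 := h.d₁
  rw [h0, finrank_bot] at h3
  omega

include h hs hM hg h2 hC hsim hr hN

/-- L1 -/
theorem perm_of_inv_U (hU : Inv M (W₁ ⊔ W₂)) : Perm M W₁ W₂ := by
  have hirr : ∀ T, Inv M T → ⊥ ≤ T → T ≤ W₁ ⊔ W₂ → T = ⊥ ∨ T = W₁ ⊔ W₂ := by
    intro T hT _ hTU
    rcases Singer.cases_U h hs (hT g hg) hTU with h3 | h3 | h3 | h3
    · exact Or.inl h3
    · exact absurd (hN W₁ h.ts₁ (h3 ▸ hT)) h.W₁_ne
    · exact absurd (hN W₂ h.ts₂ (h3 ▸ hT)) h.symm.W₁_ne
    · exact Or.inr h3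
  have hbot : Inv M (⊥ : Submodule F (V8 F)) := by
    intro m _ v hv
    rw [Submodule.mem_bot] at hv ⊢
    rw [hv, map_zero]
  have key : ∀ m ∈ M, ∀ W : Submodule F (V8 F), W ≤ W₁ ⊔ W₂ → (∀ v ∈ W, g v ∈ W) → finrank F W = 3 →
      im m W = W₁ ∨ im m W = W₂ := by
    intro m hm W hW hgW h3
    have h4 := image_inv (p := p) hs hM hg h2 hC hbot hU bot_le hirr hm bot_le hW hgW
    have h5 : im m W ≤ W₁ ⊔ W₂ := by
      calc im m W ≤ im m (W₁ ⊔ W₂) := Submodule.map_mono hW
        _ = W₁ ⊔ W₂ := hU.im_eq hm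
    have h6 := finrank_im m W
    rw [h3] at h6
    rcases Singer.cases_U h hs h4 h5 with h7 | h7 | h7 | h7
    · rw [h7, finrank_bot] at h6
      omega
    · exact Or.inl h7
    · exact Or.inr h7
    · rw [h7, h.finrank_U] at h6
      omega
  exact perm_of_cases h fun m hm => ⟨key m hm W₁ le_sup_left hs.inv₁ h.d₁, key m hm W₂ le_sup_right hs.inv₂ h.d₂⟩

omit hs hM hg h2 hC hr hN in
theorem orth_plane : orth (plane c₁ c₂) = W₁ ⊔ W₂ := by
  rw [h.sup_eq]
  ext v
  rw [mem_orth, Submodule.mem_inf, mem_perp, mem_perp]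
  constructor
  · intro h1
    exact ⟨h1 _ (mem_plane.2 ⟨1, 0, by simp⟩), h1 _ (mem_plane.2 ⟨0, 1, by simp⟩)⟩
  · rintro ⟨h1, h2⟩ t ht
    obtain ⟨a, b, rfl⟩ := mem_plane.1 ht
    rw [polar_add_left, polar_smul_left, polar_smul_left, h1, h2]
    simp

/-- L2 -/
theorem perm_of_inv_plane (hP : Inv M (plane c₁ c₂)) : Perm M W₁ W₂ := by
  refine perm_of_inv_U h hs hM hg h2 hC hsim hr hN ?_
  rw [← orth_plane h hsim]
  exact inv_orth hsim hP

/-- the zeros of the form on a totally isotropic invariant subspace -/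
theorem q_ne_zero_of {R : Submodule F (V8 F)} (hR : Inv M R)
    (hTI : ∀ v ∈ R, ∀ w ∈ R, polar (plusForm 4 F) v w = 0) {v : V8 F} (hv : v ∈ R) (hv0 : v ≠ 0) :
    plusForm 4 F v ≠ 0 := by
  intro hq
  let R₀ : Submodule F (V8 F) :=
    { carrier := {a | a ∈ R ∧ plusForm 4 F a = 0}
      add_mem' := by
        rintro a b ⟨ha, ha'⟩ ⟨hb, hb'⟩
        refine ⟨R.add_mem ha hb, ?_⟩
        rw [Q_add, ha', hb', hTI a ha b hb]
        simp
      zero_mem' := ⟨R.zero_mem, QuadraticMap.map_zero _⟩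
      smul_mem' := by
        rintro c a ⟨ha, ha'⟩
        exact ⟨R.smul_mem c ha, by rw [QuadraticMap.map_smul, ha', smul_zero]⟩ }
  have h3 := hN R₀ (fun a ha => ha.2) (fun m hm a ha => ⟨hR m hm a ha.1, (hsim m hm).q_eq_zero ha.2⟩)
  have h4 : v ∈ R₀ := ⟨hv, hq⟩
  rw [h3, Submodule.mem_bot] at h4
  exact hv0 h4

/-- L3: totally isotropic invariant subspaces -/
theorem TI_cases {R : Submodule F (V8 F)} (hR : Inv M R)
    (hTI : ∀ v ∈ R, ∀ w ∈ R, polar (plusForm 4 F) v w = 0) :
    R = ⊥ ∨ ((2 : F) = 0 ∧ ∃ v, v ≠ 0 ∧ plusForm 4 F v ≠ 0 ∧ R = Submodule.span F {v}) := by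
  by_cases hb : R = ⊥
  · exact Or.inl hb
  right
  obtain ⟨v, hv, hv0⟩ := Submodule.exists_mem_ne_zero_of_ne_bot hb
  have hqq : ∀ w ∈ R, w ≠ 0 → plusForm 4 F w ≠ 0 := fun w hw hw0 =>
    q_ne_zero_of h hs hM hg h2 hC hsim hr hN hR hTI hw hw0
  have hq := hqq v hv hv0
  have h20 : (2 : F) = 0 := by
    have h3 := hTI v hv v hv
    rw [QuadraticMap.polar_self, two_nsmul, ← two_mul] at h3
    exact (mul_eq_zero.1 h3).resolve_right hq
  refine ⟨h20, v, hv0, hq, ?_⟩
  apply le_antisymm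
  · intro w hw
    -- squares are surjective
    have hc2 : CharP F 2 := CharTwo.of_one_ne_zero_of_two_eq_zero one_ne_zero h20
    have : Fintype F := Fintype.ofFinite F
    obtain ⟨a, ha⟩ : ∃ a : F, a * a = plusForm 4 F w / plusForm 4 F v := by
      have h3 : ringChar F = 2 := ringChar.eq_iff.2 hc2
      obtain ⟨a, ha⟩ := FiniteField.isSquare_of_char_two h3 (plusForm 4 F w / plusForm 4 F v)
      exact ⟨a, ha.symm⟩
    have h4 : plusForm 4 F (w - a • v) = 0 := by
      rw [sub_eq_add_neg, Q_add, QuadraticMap.map_neg, QuadraticMap.map_smul, polar_neg_right, polar_smul_right,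
        hTI w hw v hv, smul_zero, neg_zero, add_zero, ha, smul_eq_mul, div_mul_cancel₀ _ hq]
      linear_combination (plusForm 4 F w) * h20
    have h5 : w - a • v ∈ R := R.sub_mem hw (R.smul_mem _ hv)
    by_cases h6 : w - a • v = 0
    · rw [sub_eq_zero.1 h6]
      exact Submodule.smul_mem _ _ (Submodule.mem_span_singleton_self v)
    · exact absurd h4 (hqq _ h5 h6)
  · rw [Submodule.span_singleton_le_iff_mem]
    exact hv

/-- L4: an invariant nonsingular line -/
theorem perm_of_line {v : V8 F} (hq : plusForm 4 F v ≠ 0) (hv : Inv M (Submodule.span F {v})) : Perm M W₁ W₂ := by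
  have hv0 : v ≠ 0 := by
    rintro rfl
    exact hq (QuadraticMap.map_zero _)
  -- `v` lies in the plane
  have hvp : v ∈ plane c₁ c₂ := by
    have h3 := Singer.finrank_parts h hs hr (hv g hg)
    rw [finrank_span_singleton hv0] at h3
    rcases Singer.cases_inf h hs (hv g hg) with h4 | h4 | h4 | h4
    · have h5 := Singer.sup_parts h hs hr (hv g hg)
      rw [h4, sup_bot_eq] at h5
      have h6 : v ∈ Submodule.span F {v} ⊓ plane c₁ c₂ := by rw [h5]; exact Submodule.mem_span_singleton_self v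
      exact h6.2
    · rw [h4, h.d₁] at h3; omega
    · rw [h4, h.d₂] at h3; omega
    · rw [h4, h.finrank_U] at h3; omega
  obtain ⟨a, b, rfl⟩ := mem_plane.1 hvp
  rw [h.q_comb] at hq
  have ha : a ≠ 0 := left_ne_zero_of_mul hq
  have hb : b ≠ 0 := right_ne_zero_of_mul hq
  set v := a • c₁ + b • c₂ with hvdef
  have hperp : Inv M (perp v) := inv_perp hsim hv
  have hUperp : W₁ ⊔ W₂ ≤ perp v := fun u hu => h.plane_perp hvp hu
  set v' := a • c₁ + (-b) • c₂ with hv'def
  -- the intersection of the plane with `v^⊥`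
  have hpp : ∀ x ∈ plane c₁ c₂, x ∈ perp v → x ∈ Submodule.span F {v'} := by
    intro x hx hx'
    obtain ⟨s, t, rfl⟩ := mem_plane.1 hx
    have h3 := mem_perp.1 hx'
    rw [hvdef, polar_add_left, polar_smul_left, polar_smul_left, (h.polar_comb s t).1, (h.polar_comb s t).2] at h3
    rw [Submodule.mem_span_singleton]
    refine ⟨s / a, ?_⟩
    have h4 : t = -(s / a) * b := by
      rw [smul_eq_mul, smul_eq_mul] at h3
      field_simp
      linear_combination h3
    rw [h4, hv'def, smul_add, smul_smul, smul_smul, div_mul_cancel₀ _ ha]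
    congr 2
    ring
  have hv'p : v' ∈ plane c₁ c₂ := mem_plane.2 ⟨_, _, rfl⟩
  have hv'perp : v' ∈ perp v := by
    rw [mem_perp, hvdef, polar_add_left, polar_smul_left, polar_smul_left, (h.polar_comb a (-b)).1,
      (h.polar_comb a (-b)).2, smul_eq_mul, smul_eq_mul]
    ring
  have hv'0 : v' ≠ 0 := by
    intro h0
    have h3 := (h.polar_comb a (-b)).2
    rw [← hv'def, h0, polar_zero_right] at h3
    exact ha h3.symm
  have hgv' : g v' = v' := Singer.fix_C h hs _ _
  have hbot : Inv M (⊥ : Submodule F (V8 F)) := by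
    intro m _ v hv
    rw [Submodule.mem_bot] at hv ⊢
    rw [hv, map_zero]
  by_cases h20 : (2 : F) = 0
  · -- characteristic two: `v ∈ v^⊥`
    have hvv : v' = v := by
      rw [hv'def, hvdef]
      have : -b = b := by linear_combination (-b) * h20
      rw [this]
    rw [hvv] at hpp hv'perp
    have hle : Submodule.span F {v} ≤ perp v := by
      rw [Submodule.span_singleton_le_iff_mem]; exact hv'perp
    -- invariant subspaces between
    have hbet : ∀ T : Submodule F (V8 F), (∀ x ∈ T, g x ∈ T) → Submodule.span F {v} ≤ T → T ≤ perp v →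
        T = Submodule.span F {v} ⊔ (T ⊓ (W₁ ⊔ W₂)) := by
      intro T hT h3 h4
      apply le_antisymm
      · intro x hx
        obtain ⟨c, hc, u, hu, rfl⟩ := Singer.mem_parts h hs hr hT hx
        exact Submodule.add_mem_sup (hpp c hc.2 (h4 hc.1)) hu
      · exact sup_le h3 inf_le_left
    -- zeros of the form
    have hzero : ∀ W : Submodule F (V8 F), W ≤ W₁ ⊔ W₂ → TS (plusForm 4 F) W → ∀ x ∈ Submodule.span F {v} ⊔ W,
        plusForm 4 F x = 0 → x ∈ W := by
      intro W hW hWT x hx hqx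
      obtain ⟨y, hy, w, hw, rfl⟩ := Submodule.mem_sup.1 hx
      obtain ⟨s, rfl⟩ := Submodule.mem_span_singleton.1 hy
      rw [Q_add, QuadraticMap.map_smul, hWT w hw, polar_smul_left, h.plane_perp hvp (hW hw), smul_zero, add_zero,
        add_zero, smul_eq_mul] at hqx
      have hq' : plusForm 4 F v ≠ 0 := by rw [hvdef, h.q_comb]; exact hq
      have hs0 : s = 0 := by
        have := (mul_eq_zero.1 hqx).resolve_right hq'
        exact mul_self_eq_zero.1 this
      rw [hs0, zero_smul, zero_add]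
      exact hw
    have hirr : ∀ T, Inv M T → Submodule.span F {v} ≤ T → T ≤ perp v → T = Submodule.span F {v} ∨ T = perp v := by
      intro T hT h3 h4
      have h5 := hbet T (hT g hg) h3 h4
      have hbad : ∀ W : Submodule F (V8 F), W ≤ W₁ ⊔ W₂ → TS (plusForm 4 F) W → W ≠ ⊥ →
          T ⊓ (W₁ ⊔ W₂) = W → False := by
        intro W hW hWT hW0 h6
        apply hW0
        refine hN W hWT fun m hm w hw => ?_
        have h7 : w ∈ T := by
          have : w ∈ T ⊓ (W₁ ⊔ W₂) := by rw [h6]; exact hw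
          exact this.1
        have h8 : m w ∈ Submodule.span F {v} ⊔ W := by
          rw [h6] at h5
          rw [← h5]
          exact hT m hm w h7
        exact hzero W hW hWT _ h8 ((hsim m hm).q_eq_zero (hWT w hw))
      rcases Singer.cases_inf h hs (hT g hg) with h6 | h6 | h6 | h6
      · left
        rw [h6, sup_bot_eq] at h5
        exact h5
      · exact (hbad W₁ le_sup_left h.ts₁ h.W₁_ne h6).elim
      · exact (hbad W₂ le_sup_right h.ts₂ h.symm.W₁_ne h6).elim
      · right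
        apply le_antisymm h4
        intro x hx
        obtain ⟨c, hc, u, hu, hxe⟩ := Singer.mem_parts h hs hr (hperp g hg) hx
        rw [h5, h6, hxe]
        exact Submodule.add_mem_sup (hpp c hc.2 hc.1) hu.2
    have hdim : ∀ W : Submodule F (V8 F), W ≤ W₁ ⊔ W₂ → finrank F ↥(Submodule.span F {v} ⊔ W) = 1 + finrank F W := by
      intro W hW
      have h4 := Submodule.finrank_sup_add_finrank_inf_eq (Submodule.span F {v}) W
      have h5 : Submodule.span F {v} ⊓ W = ⊥ := by
        rw [eq_bot_iff, ← h.plane_inf]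
        refine inf_le_inf ?_ hW
        rw [Submodule.span_singleton_le_iff_mem]
        exact hvp
      rw [h5, finrank_bot, finrank_span_singleton hv0] at h4
      omega
    have key : ∀ m ∈ M, ∀ W : Submodule F (V8 F), W ≤ W₁ ⊔ W₂ → TS (plusForm 4 F) W → (∀ v ∈ W, g v ∈ W) →
        finrank F W = 3 → im m W = W₁ ∨ im m W = W₂ := by
      intro m hm W hW hWT hgW h3
      have hXle : Submodule.span F {v} ⊔ W ≤ perp v := sup_le hle (hW.trans hUperp)
      have h4 : ∀ x ∈ im m (Submodule.span F {v} ⊔ W), g x ∈ im m (Submodule.span F {v} ⊔ W) := by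
        refine image_inv (p := p) hs hM hg h2 hC hv hperp hle hirr hm le_sup_left hXle ?_
        intro x hx
        obtain ⟨y, hy, w, hw, rfl⟩ := Submodule.mem_sup.1 hx
        rw [map_add]
        exact Submodule.add_mem_sup (hv g hg y hy) (hgW w hw)
      have h5 : Submodule.span F {v} ≤ im m (Submodule.span F {v} ⊔ W) := by
        calc Submodule.span F {v} = im m (Submodule.span F {v}) := (hv.im_eq hm).symm
          _ ≤ _ := Submodule.map_mono le_sup_left
      have h6 : im m (Submodule.span F {v} ⊔ W) ≤ perp v := by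
        calc im m (Submodule.span F {v} ⊔ W) ≤ im m (perp v) := Submodule.map_mono hXle
          _ = perp v := hperp.im_eq hm
      have h7 := hbet _ h4 h5 h6
      have h8 := finrank_im m (Submodule.span F {v} ⊔ W)
      rw [hdim W hW, h3, h7, hdim _ inf_le_right] at h8
      have hfin : ∀ W' : Submodule F (V8 F), W' ≤ W₁ ⊔ W₂ → TS (plusForm 4 F) W' → finrank F W' = 3 →
          im m (Submodule.span F {v} ⊔ W) ⊓ (W₁ ⊔ W₂) = W' → im m W = W' := by
        intro W' hW' hWT' h3' h9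
        apply Submodule.eq_of_le_of_finrank_eq
        · rintro _ ⟨w, hw, rfl⟩
          refine hzero W' hW' hWT' _ ?_ ((hsim m hm).q_eq_zero (hWT w hw))
          rw [← h9, ← h7]
          exact ⟨w, Submodule.mem_sup_right hw, rfl⟩
        · rw [finrank_im, h3, h3']
      rcases Singer.cases_inf h hs h4 with h9 | h9 | h9 | h9
      · rw [h9, finrank_bot] at h8
        omega
      · exact Or.inl (hfin W₁ le_sup_left h.ts₁ h.d₁ h9)
      · exact Or.inr (hfin W₂ le_sup_right h.ts₂ h.d₂ h9)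
      · rw [h9, h.finrank_U] at h8
        omega
    exact perm_of_cases h fun m hm => ⟨key m hm W₁ le_sup_left h.ts₁ hs.inv₁ h.d₁,
      key m hm W₂ le_sup_right h.ts₂ hs.inv₂ h.d₂⟩
  · -- odd characteristic
    -- an invariant `⟨v'⟩` suffices
    have hfin : Inv M (Submodule.span F {v'}) → Perm M W₁ W₂ := by
      intro h3
      refine perm_of_inv_plane h hs hM hg h2 hC hsim hr hN ?_
      have h4 : plane c₁ c₂ = Submodule.span F {v} ⊔ Submodule.span F {v'} := by
        apply le_antisymm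
        · have hc₁ : c₁ = (1 / (2 * a)) • v + (1 / (2 * a)) • v' := by
            rw [hvdef, hv'def]
            have h2a : 2 * a ≠ 0 := mul_ne_zero h20 ha
            have e : (1 / (2 * a)) • (a • c₁ + b • c₂) + (1 / (2 * a)) • (a • c₁ + (-b) • c₂) =
                ((1 / (2 * a)) * (2 * a)) • c₁ := by module
            rw [e, one_div_mul_cancel h2a, one_smul]
          have hc₂ : c₂ = (1 / (2 * b)) • v + (-(1 / (2 * b))) • v' := by
            rw [hvdef, hv'def]
            have h2b : 2 * b ≠ 0 := mul_ne_zero h20 hb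
            have e : (1 / (2 * b)) • (a • c₁ + b • c₂) + (-(1 / (2 * b))) • (a • c₁ + (-b) • c₂) =
                ((1 / (2 * b)) * (2 * b)) • c₂ := by module
            rw [e, one_div_mul_cancel h2b, one_smul]
          rintro x hx
          obtain ⟨s, t, rfl⟩ := mem_plane.1 hx
          have h5 : c₁ ∈ Submodule.span F {v} ⊔ Submodule.span F {v'} := by
            nth_rewrite 1 [hc₁]
            exact Submodule.add_mem_sup (Submodule.smul_mem _ _ (Submodule.mem_span_singleton_self v))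
              (Submodule.smul_mem _ _ (Submodule.mem_span_singleton_self v'))
          have h6 : c₂ ∈ Submodule.span F {v} ⊔ Submodule.span F {v'} := by
            nth_rewrite 1 [hc₂]
            exact Submodule.add_mem_sup (Submodule.smul_mem _ _ (Submodule.mem_span_singleton_self v))
              (Submodule.smul_mem _ _ (Submodule.mem_span_singleton_self v'))
          exact Submodule.add_mem _ (Submodule.smul_mem _ _ h5) (Submodule.smul_mem _ _ h6)
        · refine sup_le ?_ ?_ <;> rw [Submodule.span_singleton_le_iff_mem]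
          · exact hvp
          · exact hv'p
      rw [h4]
      exact hv.sup h3
    by_cases hirr : ∀ T, Inv M T → ⊥ ≤ T → T ≤ perp v → T = ⊥ ∨ T = perp v
    · apply hfin
      intro m hm x hx
      have h3 : Submodule.span F {v'} ≤ perp v := by
        rw [Submodule.span_singleton_le_iff_mem]; exact hv'perp
      obtain ⟨k, hk⟩ := section_normal (p := p) (r := r) (finrank_V8 (F := F)).le hM hg hs.ord h2 hC hbot hperp bot_le hirr
        (M.inv_mem hm)
      have h4 := hk v' hv'perp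
      rw [Submodule.mem_bot, sub_eq_zero, inv_inv] at h4
      have h5 : (g ^ k) v' = v' := by
        have : ∀ j : ℕ, (g ^ j) v' = v' := by
          intro j
          induction j with
          | zero => rfl
          | succ j ih =>
            rw [pow_succ']
            show g ((g ^ j) v') = v'
            rw [ih, hgv']
        exact this k
      have h6 : g (m v') = m v' := by
        have h7 : m ((m⁻¹ * g * m) v') = m v' := by rw [h4, h5]
        have h8 : m ((m⁻¹ * g * m) v') = g (m v') := by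
          show m (m⁻¹ (g (m v'))) = g (m v')
          exact m.apply_symm_apply _
        rw [← h8, h7]
      have h7 : m v' ∈ plane c₁ c₂ := by
        rw [Singer.mem_C_of_fixed h hs h6]
        exact mem_plane.2 ⟨_, _, rfl⟩
      have h8 := hpp _ h7 (hperp m hm v' hv'perp)
      obtain ⟨s, rfl⟩ := Submodule.mem_span_singleton.1 hx
      rw [map_smul]
      exact Submodule.smul_mem _ _ h8
    · push Not at hirr
      obtain ⟨T, hT, -, h4, h5, h6⟩ := hirr
      have hR : T ⊓ orth T = ⊥ := by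
        rcases TI_cases h hs hM hg h2 hC hsim hr hN (hT.inf (inv_orth hsim hT))
          (fun x hx y hy => hy.2 x hx.1) with h7 | ⟨h7, -⟩
        · exact h7
        · exact absurd h7 h20
      have hbad : ∀ W : Submodule F (V8 F), W ≤ W₁ ⊔ W₂ → TS (plusForm 4 F) W → W ≠ ⊥ →
          T ⊓ (W₁ ⊔ W₂) = W → False := by
        intro W hW hWT hW0 h7
        apply hW0
        rw [eq_bot_iff, ← hR]
        intro w hw
        have h8 : w ∈ T ⊓ (W₁ ⊔ W₂) := by rw [h7]; exact hw
        refine ⟨h8.1, fun t ht => ?_⟩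
        obtain ⟨c, hc, u, hu, rfl⟩ := Singer.mem_parts h hs hr (hT g hg) ht
        rw [h7] at hu
        rw [polar_add_left, h.plane_perp hc.2 (hW hw), hWT.polar hu hw, add_zero]
      rcases Singer.cases_inf h hs (hT g hg) with h7 | h7 | h7 | h7
      · apply hfin
        have h8 : T = Submodule.span F {v'} := by
          have h9 : T ≤ Submodule.span F {v'} := by
            intro x hx
            obtain ⟨c, hc, u, hu, rfl⟩ := Singer.mem_parts h hs hr (hT g hg) hx
            rw [h7, Submodule.mem_bot] at hu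
            rw [hu, add_zero]
            exact hpp c hc.2 (h4 hc.1)
          apply Submodule.eq_of_le_of_finrank_le h9
          rw [finrank_span_singleton hv'0]
          exact Nat.one_le_iff_ne_zero.2 fun h0 => h5 (Submodule.finrank_eq_zero.1 h0)
        rw [← h8]
        exact hT
      · exact (hbad W₁ le_sup_left h.ts₁ h.W₁_ne h7).elim
      · exact (hbad W₂ le_sup_right h.ts₂ h.symm.W₁_ne h7).elim
      · refine perm_of_inv_U h hs hM hg h2 hC hsim hr hN ?_
        have h8 : W₁ ⊔ W₂ ≤ T := inf_eq_right.1 h7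
        have h9 : T = W₁ ⊔ W₂ := by
          symm
          apply Submodule.eq_of_le_of_finrank_le h8
          rw [h.finrank_U]
          have h10 : T ≠ perp v := h6
          have h11 : finrank F T < finrank F (perp v) := Submodule.finrank_lt_finrank_of_lt (lt_of_le_of_ne h4 h10)
          have h12 : finrank F (perp v) ≤ 7 := by
            have h13 : perp v ≠ ⊤ := by
              intro h14
              have h15 : c₁ ∈ perp v := by rw [h14]; trivial
              rw [mem_perp, polar_comm, (h.polar_comb a b).1] at h15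
              exact hb h15
            have h16 := Submodule.finrank_lt h13
            rw [finrank_V8] at h16
            omega
          omega
        rw [← h9]
        exact hT

/-- an invariant subspace of the plane -/
theorem perm_of_le_plane {T : Submodule F (V8 F)} (hT : Inv M T) (hT0 : T ≠ ⊥) (hTp : T ≤ plane c₁ c₂) :
    Perm M W₁ W₂ := by
  have h3 := Submodule.finrank_mono hTp
  rw [h.finrank_plane] at h3
  have h4 : finrank F T ≠ 0 := fun h0 => hT0 (Submodule.finrank_eq_zero.1 h0)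
  have h5 : finrank F T = 1 ∨ finrank F T = 2 := by omega
  rcases h5 with h5 | h5
  · obtain ⟨v, hv, hv0⟩ := Submodule.exists_mem_ne_zero_of_ne_bot hT0
    have h6 : Submodule.span F {v} = T := by
      apply Submodule.eq_of_le_of_finrank_eq
      · rw [Submodule.span_singleton_le_iff_mem]; exact hv
      · rw [finrank_span_singleton hv0, h5]
    refine perm_of_line h hs hM hg h2 hC hsim hr hN (v := v) (fun hq => ?_) (by rw [h6]; exact hT)
    apply hT0
    refine hN T (fun w hw => ?_) hT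
    rw [← h6] at hw
    obtain ⟨s, rfl⟩ := Submodule.mem_span_singleton.1 hw
    rw [QuadraticMap.map_smul, hq, smul_zero]
  · have h6 : T = plane c₁ c₂ := Submodule.eq_of_le_of_finrank_eq hTp (by rw [h5, h.finrank_plane])
    exact perm_of_inv_plane h hs hM hg h2 hC hsim hr hN (h6 ▸ hT)

/-- **Claim.** -/
theorem claim_eight : Perm M W₁ W₂ := by
  have hbot : Inv M (⊥ : Submodule F (V8 F)) := by
    intro m _ v hv
    rw [Submodule.mem_bot] at hv ⊢
    rw [hv, map_zero]
  have htop : Inv M (⊤ : Submodule F (V8 F)) := fun _ _ _ _ => trivial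
  by_cases hirr : ∀ T, Inv M T → ⊥ ≤ T → T ≤ ⊤ → T = ⊥ ∨ T = ⊤
  · refine perm_of_inv_plane h hs hM hg h2 hC hsim hr hN ?_
    intro m hm x hx
    obtain ⟨k, hk⟩ := section_normal (p := p) (r := r) (finrank_V8 (F := F)).le hM hg hs.ord h2 hC hbot htop bot_le hirr
      (M.inv_mem hm)
    have h4 := hk x trivial
    rw [Submodule.mem_bot, sub_eq_zero, inv_inv] at h4
    have hgx : g x = x := by
      obtain ⟨s, t, rfl⟩ := mem_plane.1 hx
      exact Singer.fix_C h hs _ _
    have h5 : (g ^ k) x = x := by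
      have : ∀ j : ℕ, (g ^ j) x = x := by
        intro j
        induction j with
        | zero => rfl
        | succ j ih =>
          rw [pow_succ']
          show g ((g ^ j) x) = x
          rw [ih, hgx]
      exact this k
    have h6 : g (m x) = m x := by
      have h7 : m ((m⁻¹ * g * m) x) = m x := by rw [h4, h5]
      have h8 : m ((m⁻¹ * g * m) x) = g (m x) := by
        show m (m⁻¹ (g (m x))) = g (m x)
        exact m.apply_symm_apply _
      rw [← h8, h7]
    rw [Singer.mem_C_of_fixed h hs h6]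
    exact mem_plane.2 ⟨_, _, rfl⟩
  · push Not at hirr
    obtain ⟨T, hT, -, -, h5, h6⟩ := hirr
    rcases TI_cases h hs hM hg h2 hC hsim hr hN (hT.inf (inv_orth hsim hT))
        (fun x hx y hy => hy.2 x hx.1) with h7 | ⟨h20, v, hv0, hq, h7⟩
    · have hbad : ∀ W : Submodule F (V8 F), W ≤ W₁ ⊔ W₂ → TS (plusForm 4 F) W → W ≠ ⊥ →
          T ⊓ (W₁ ⊔ W₂) = W → False := by
        intro W hW hWT hW0 h8
        apply hW0
        rw [eq_bot_iff, ← h7]
        intro w hw
        have h9 : w ∈ T ⊓ (W₁ ⊔ W₂) := by rw [h8]; exact hw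
        refine ⟨h9.1, fun t ht => ?_⟩
        obtain ⟨c, hc, u, hu, rfl⟩ := Singer.mem_parts h hs hr (hT g hg) ht
        rw [h8] at hu
        rw [polar_add_left, h.plane_perp hc.2 (hW hw), hWT.polar hu hw, add_zero]
      rcases Singer.cases_inf h hs (hT g hg) with h8 | h8 | h8 | h8
      · refine perm_of_le_plane h hs hM hg h2 hC hsim hr hN hT h5 ?_
        intro x hx
        obtain ⟨c, hc, u, hu, rfl⟩ := Singer.mem_parts h hs hr (hT g hg) hx
        rw [h8, Submodule.mem_bot] at hu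
        rw [hu, add_zero]
        exact hc.2
      · exact (hbad W₁ le_sup_left h.ts₁ h.W₁_ne h8).elim
      · exact (hbad W₂ le_sup_right h.ts₂ h.symm.W₁_ne h8).elim
      · have h9 : W₁ ⊔ W₂ ≤ T := inf_eq_right.1 h8
        refine perm_of_le_plane h hs hM hg h2 hC hsim hr hN (inv_orth hsim hT) ?_ ?_
        · intro h10
          apply h6
          rw [eq_top_iff]
          intro x _
          -- `T ⊓ plane` is everything, otherwise there is an orthogonal vector
          by_contra hxT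
          have h11 : T ⊓ plane c₁ c₂ ≠ plane c₁ c₂ := by
            intro h12
            apply hxT
            obtain ⟨w₁, h₁, w₂, h₂, hx⟩ := h.decomp x
            rw [hx]
            refine T.add_mem (inf_eq_right.1 h12 (mem_plane.2 ⟨_, _, rfl⟩)) (h9 (Submodule.add_mem_sup h₁ h₂))
          -- dimension of `T ⊓ plane` is at most one
          have h12 : finrank F ↥(T ⊓ plane c₁ c₂) < 2 := by
            rw [← h.finrank_plane]
            exact Submodule.finrank_lt_finrank_of_lt (lt_of_le_of_ne inf_le_right h11)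
          have h13 : ∃ c ∈ plane c₁ c₂, c ≠ 0 ∧ ∀ t ∈ T ⊓ plane c₁ c₂, polar (plusForm 4 F) t c = 0 := by
            by_cases h14 : T ⊓ plane c₁ c₂ = ⊥
            · refine ⟨c₁, mem_plane.2 ⟨1, 0, by simp⟩, h.c₁_ne, ?_⟩
              intro t ht
              rw [h14, Submodule.mem_bot] at ht
              rw [ht, polar_zero_left]
            · obtain ⟨t, ht, ht0⟩ := Submodule.exists_mem_ne_zero_of_ne_bot h14
              obtain ⟨s, s', rfl⟩ := mem_plane.1 ht.2
              refine ⟨s • c₁ + (-s') • c₂, mem_plane.2 ⟨_, _, rfl⟩, ?_, ?_⟩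
              · intro h15
                have h16 := h.polar_comb s (-s')
                rw [h15, polar_zero_right, polar_zero_right] at h16
                apply ht0
                rw [← h16.2, neg_eq_zero.1 h16.1.symm, zero_smul, zero_smul, add_zero]
              · intro t' ht'
                have h17 : T ⊓ plane c₁ c₂ = Submodule.span F {s • c₁ + s' • c₂} := by
                  symm
                  apply Submodule.eq_of_le_of_finrank_le
                  · rw [Submodule.span_singleton_le_iff_mem]; exact ht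
                  · rw [finrank_span_singleton ht0]
                    omega
                rw [h17] at ht'
                obtain ⟨z, rfl⟩ := Submodule.mem_span_singleton.1 ht'
                rw [polar_smul_left, polar_add_left, polar_smul_left, polar_smul_left, (h.polar_comb s (-s')).1,
                  (h.polar_comb s (-s')).2]
                simp only [smul_eq_mul]
                ring
          obtain ⟨c, hcp, hc0, hc⟩ := h13
          have h14 : c ∈ orth T := by
            intro t ht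
            obtain ⟨d, hd, u, hu, rfl⟩ := Singer.mem_parts h hs hr (hT g hg) ht
            rw [polar_add_left, hc d hd, polar_comm _ u c, h.plane_perp hcp hu.2, add_zero]
          rw [h10, Submodule.mem_bot] at h14
          exact hc0 h14
        · intro x hx
          obtain ⟨w₁, h₁, w₂, h₂, hx'⟩ := h.decomp x
          have h10 : w₁ + w₂ = 0 := by
            have h11 : ∀ u ∈ W₁ ⊔ W₂, polar (plusForm 4 F) u (w₁ + w₂) = 0 := by
              intro u hu
              have h12 := hx u (h9 hu)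
              rw [hx', polar_add_right, polar_comm _ u (_ + _ : V8 F), h.plane_perp (mem_plane.2 ⟨_, _, rfl⟩) hu,
                zero_add] at h12
              exact h12
            have h12 : w₁ = 0 := h.dual h₁ fun u hu => by
              have h13 := h11 u (Submodule.mem_sup_right hu)
              rw [polar_add_right, h.ts₂.polar hu h₂, add_zero, polar_comm] at h13
              exact h13
            have h13 : w₂ = 0 := h.symm.dual h₂ fun u hu => by
              have h13 := h11 u (Submodule.mem_sup_left hu)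
              rw [polar_add_right, h.ts₁.polar hu h₁, zero_add, polar_comm] at h13
              exact h13
            rw [h12, h13, add_zero]
          rw [hx', h10, add_zero]
          exact mem_plane.2 ⟨_, _, rfl⟩
    · refine perm_of_line h hs hM hg h2 hC hsim hr hN hq ?_
      rw [← h7]
      exact hT.inf (inv_orth hsim hT)

end eight

end Cfsg.Agent.H465.OEight
end

-- part: H465/OENormal
section
/-!
# Solvable groups of similitudes containing a Singer element, part 3 (helper465)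

`normal_of_permutes` : if `M` permutes `{W₁, W₂}` then `⟨g⟩ ⊲ M`.
-/

set_option autoImplicit false
set_option linter.unusedSectionVars false

namespace Cfsg.Agent.H465.OEight

open Module QuadraticMap Cfsg.Agent.LieClassical.OrthCore Cfsg.Agent.LieClassical.OrthTrans
  Cfsg.Agent.ClassicalGeometry.OrthAut1 Cfsg.Agent.LieClassical.QuadForms Cfsg.Agent.ClassicalGeometry.TrialityOct
  Cfsg.Agent.ClassicalGeometry.Triality

universe u

variable {F : Type u} [Field F] {c₁ c₂ : V8 F} {W₁ W₂ : Submodule F (V8 F)} {M : Subgroup (V8 F ≃ₗ[F] V8 F)}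

/-- conjugates of isometries by similitudes are isometries -/
theorem conj_isom {m g : V8 F ≃ₗ[F] V8 F} (hm : Sim m) (hg : ∀ v, plusForm 4 F (g v) = plusForm 4 F v) (v : V8 F) :
    plusForm 4 F ((m * g * m⁻¹) v) = plusForm 4 F v := by
  obtain ⟨c, hc, h⟩ := hm
  show plusForm 4 F (m (g (m⁻¹ v))) = _
  rw [h, hg, ← h]
  congr 1
  exact m.apply_symm_apply v

theorem polar_isom {g : V8 F ≃ₗ[F] V8 F} (hg : ∀ v, plusForm 4 F (g v) = plusForm 4 F v) (v w : V8 F) :
    polar (plusForm 4 F) (g v) (g w) = polar (plusForm 4 F) v w := by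
  unfold QuadraticMap.polar
  rw [← map_add, hg, hg, hg]

/-- **If `M` permutes `{W₁, W₂}` then `⟨g⟩ ⊲ M`.** -/
theorem normal_of_permutes [Finite F] {p r : ℕ} [Fact p.Prime] [CharP F p] [Fact r.Prime] {g : V8 F ≃ₗ[F] V8 F}
    (h : Frame c₁ c₂ W₁ W₂) (hs : Singer r g c₁ c₂ W₁ W₂) (hM : Group.IsSolvable M) [Finite M] (hg : g ∈ M)
    (h2 : ¬ r ^ 2 ∣ Nat.card M) (hC : Cen F p r M) (hsim : ∀ m ∈ M, Sim m)
    (hP : Perm M W₁ W₂) {m : V8 F ≃ₗ[F] V8 F} (hm : m ∈ M) : m * g * m⁻¹ ∈ Subgroup.zpowers g := by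
  have h8 : finrank F (V8 F) ≤ 8 := finrank_V8.le
  have hgQ : ∀ v, plusForm 4 F (g v) = plusForm 4 F v := fun v => E_le_O hs.mem v
  have hbot : Inv M (⊥ : Submodule F (V8 F)) := by
    intro m _ v hv
    rw [Submodule.mem_bot] at hv ⊢
    rw [hv, map_zero]
  have hU : Inv M (W₁ ⊔ W₂) := by
    intro m hm v hv
    obtain ⟨a, ha, b, hb, rfl⟩ := Submodule.mem_sup.1 hv
    rw [map_add]
    rcases hP m hm with ⟨h3, h4⟩ | ⟨h3, h4⟩
    · exact Submodule.add_mem_sup (h3 ▸ Submodule.mem_map_of_mem ha) (h4 ▸ Submodule.mem_map_of_mem hb)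
    · rw [add_comm (m a)]
      exact Submodule.add_mem_sup (h4 ▸ Submodule.mem_map_of_mem hb) (h3 ▸ Submodule.mem_map_of_mem ha)
  have hpl : Inv M (plane c₁ c₂) := by
    have h3 : orth (W₁ ⊔ W₂) = plane c₁ c₂ := by
      apply le_antisymm
      · intro x hx
        obtain ⟨w₁, h₁, w₂, h₂, hx'⟩ := h.decomp x
        have h10 : w₁ + w₂ = 0 := by
          have h11 : ∀ u ∈ W₁ ⊔ W₂, polar (plusForm 4 F) u (w₁ + w₂) = 0 := by
            intro u hu
            have h12 := hx u hu
            rw [hx', polar_add_right, polar_comm _ u (_ + _ : V8 F), h.plane_perp (mem_plane.2 ⟨_, _, rfl⟩) hu,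
              zero_add] at h12
            exact h12
          have h12 : w₁ = 0 := h.dual h₁ fun u hu => by
            have h13 := h11 u (Submodule.mem_sup_right hu)
            rw [polar_add_right, h.ts₂.polar hu h₂, add_zero, polar_comm] at h13
            exact h13
          have h13 : w₂ = 0 := h.symm.dual h₂ fun u hu => by
            have h13 := h11 u (Submodule.mem_sup_left hu)
            rw [polar_add_right, h.ts₁.polar hu h₁, zero_add, polar_comm] at h13
            exact h13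
          rw [h12, h13, add_zero]
        rw [hx', h10, add_zero]
        exact mem_plane.2 ⟨_, _, rfl⟩
      · intro c hc u hu
        rw [polar_comm]
        exact h.plane_perp hc hu
    rw [← h3]
    exact inv_orth hsim hU
  -- it suffices to compare on `W₁ ⊔ W₂`
  have hfixC : ∀ x ∈ plane c₁ c₂, g x = x := by
    intro x hx
    obtain ⟨s, t, rfl⟩ := mem_plane.1 hx
    exact Singer.fix_C h hs _ _
  have hpow : ∀ j : ℕ, ∀ x ∈ plane c₁ c₂, (g ^ j) x = x := by
    intro j x hx
    induction j with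
    | zero => rfl
    | succ j ih =>
      rw [pow_succ']
      show g ((g ^ j) x) = x
      rw [ih, hfixC x hx]
  have key : (∃ k : ℕ, ∀ v ∈ W₁ ⊔ W₂, (m * g * m⁻¹) v = (g ^ k) v) → m * g * m⁻¹ ∈ Subgroup.zpowers g := by
    rintro ⟨k, hk⟩
    have h3 : m * g * m⁻¹ = g ^ k := by
      ext1 v
      obtain ⟨w₁, h₁, w₂, h₂, hv⟩ := h.decomp v
      have hc : polar (plusForm 4 F) c₂ v • c₁ + polar (plusForm 4 F) c₁ v • c₂ ∈ plane c₁ c₂ :=
        mem_plane.2 ⟨_, _, rfl⟩
      rw [hv]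
      generalize polar (plusForm 4 F) c₂ v • c₁ + polar (plusForm 4 F) c₁ v • c₂ = c at hc ⊢
      rw [map_add (m * g * m⁻¹) c, map_add (g ^ k) c, hk _ (Submodule.add_mem_sup h₁ h₂), hpow k _ hc]
      congr 1
      show m (g (m⁻¹ _)) = _
      rw [hfixC _ (hpl _ (M.inv_mem hm) _ hc)]
      exact m.apply_symm_apply _
    rw [h3]
    exact Subgroup.pow_mem _ (Subgroup.mem_zpowers g) k
  apply key
  by_cases hsw : ∃ n ∈ M, im n W₁ = W₂
  · -- `W₁ ⊔ W₂` is irreducible
    obtain ⟨n, hn, hnW⟩ := hsw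
    have hne : W₁ ≠ W₂ := by
      intro he
      have h2 := h.disj
      rw [← he, inf_idem] at h2
      exact h.W₁_ne h2
    obtain ⟨k, hk⟩ := section_normal (p := p) (r := r) (M := M) h8 hM hg hs.ord h2 hC hbot hU bot_le (by
      intro T hT _ hTU
      have hTn := hT.im_eq hn
      rcases Singer.cases_U h hs (hT g hg) hTU with h3 | h3 | h3 | h3
      · exact Or.inl h3
      · rw [h3, hnW] at hTn
        exact absurd hTn.symm hne
      · rw [h3] at hTn
        rcases hP n hn with ⟨h4, h5⟩ | ⟨h4, h5⟩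
        · exact absurd (h4.symm.trans hnW) hne
        · exact absurd (h5.symm.trans hTn) hne
      · exact Or.inr h3) hm
    refine ⟨k, fun v hv => ?_⟩
    have h3 := hk v hv
    rw [Submodule.mem_bot, sub_eq_zero] at h3
    exact h3
  · push Not at hsw
    have hW : ∀ n ∈ M, im n W₁ = W₁ ∧ im n W₂ = W₂ := fun n hn => (hP n hn).resolve_right fun h3 => hsw n hn h3.1
    have hI₁ : Inv M W₁ := fun n hn v hv => by
      have h3 : n v ∈ im n W₁ := Submodule.mem_map_of_mem hv
      rw [(hW n hn).1] at h3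
      exact h3
    have hI₂ : Inv M W₂ := fun n hn v hv => by
      have h3 : n v ∈ im n W₂ := Submodule.mem_map_of_mem hv
      rw [(hW n hn).2] at h3
      exact h3
    have hirr : ∀ T, Inv M T → ⊥ ≤ T → T ≤ W₁ → T = ⊥ ∨ T = W₁ := by
      intro T hT _ hTU
      have hTU' : T ≤ W₁ ⊔ W₂ := le_trans hTU le_sup_left
      rcases Singer.cases_U h hs (hT g hg) hTU' with h3 | h3 | h3 | h3
      · exact Or.inl h3
      · exact Or.inr h3
      · exfalso
        have h4 : W₂ ≤ W₁ ⊓ W₂ := le_inf (h3 ▸ hTU) le_rfl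
        rw [h.disj] at h4
        exact h.symm.W₁_ne (le_bot_iff.1 h4)
      · right
        apply le_antisymm hTU
        rw [h3]
        exact le_sup_left
    obtain ⟨k, hk⟩ := section_normal (p := p) (r := r) (M := M) h8 hM hg hs.ord h2 hC hbot hI₁ bot_le hirr hm
    have hk1 : ∀ v ∈ W₁, (m * g * m⁻¹) v = (g ^ k) v := by
      intro v hv
      have h3 := hk v hv
      rw [Submodule.mem_bot, sub_eq_zero] at h3
      exact h3
    have hmg : m * g * m⁻¹ ∈ M := M.mul_mem (M.mul_mem hm hg) (M.inv_mem hm)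
    have hgk : g ^ k ∈ M := M.pow_mem hg k
    have hQ1 := conj_isom (hsim m hm) hgQ
    have hQ2 : ∀ v, plusForm 4 F ((g ^ k) v) = plusForm 4 F v := by
      intro v
      induction k with
      | zero => rfl
      | succ k ih =>
        clear * - hgQ
        generalize k + 1 = j
        induction j with
        | zero => rfl
        | succ j ih =>
          rw [pow_succ']
          show plusForm 4 F (g ((g ^ j) v)) = _
          rw [hgQ, ih]
    have hk2 : ∀ v ∈ W₂, (m * g * m⁻¹) v = (g ^ k) v := by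
      intro v hv
      rw [← sub_eq_zero]
      refine h.symm.dual (W₂.sub_mem (hI₂ _ hmg v hv) (hI₂ _ hgk v hv)) fun w hw => ?_
      -- write `w = g ^ k w'`
      obtain ⟨w', hw', rfl⟩ : ∃ w' ∈ W₁, (g ^ k) w' = w := by
        have h3 := hI₁.im_eq hgk
        rw [← h3] at hw
        exact hw
      rw [polar_sub_left, polar_isom hQ2]
      conv_lhs => rw [← hk1 w' hw', polar_isom hQ1]
      exact sub_self _
    refine ⟨k, fun v hv => ?_⟩
    obtain ⟨a, ha, b, hb, rfl⟩ := Submodule.mem_sup.1 hv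
    rw [map_add, map_add, hk1 a ha, hk2 b hb]

end Cfsg.Agent.H465.OEight
end

-- part: H465/OEGrp
section
/-!
# Similitudes and automorphisms of `PΩ⁺₈` (helper465)
-/

set_option autoImplicit false
set_option linter.unusedSectionVars false

namespace Cfsg.Agent.H465.OEight

open Module QuadraticMap Cfsg.Agent.LieClassical.OrthCore Cfsg.Agent.LieClassical.OrthTrans
  Cfsg.Agent.ClassicalGeometry.OrthAut1 Cfsg.Agent.LieClassical.QuadForms Cfsg.Agent.ClassicalGeometry.TrialityOct
  Cfsg.Agent.ClassicalGeometry.Triality Cfsg.Agent.ClassicalGeometry.OrthSemi Cfsg.Agent.H198.TriAut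

universe u

variable {F : Type u} [Field F]

theorem sim_one : Sim (1 : V8 F ≃ₗ[F] V8 F) := ⟨1, one_ne_zero, fun v => by rw [one_mul]; rfl⟩

theorem Sim.mul {a b : V8 F ≃ₗ[F] V8 F} (ha : Sim a) (hb : Sim b) : Sim (a * b) := by
  obtain ⟨c, hc, h⟩ := ha
  obtain ⟨d, hd, h'⟩ := hb
  refine ⟨c * d, mul_ne_zero hc hd, fun v => ?_⟩
  show plusForm 4 F (a (b v)) = _
  rw [h, h', mul_assoc]

theorem Sim.inv {a : V8 F ≃ₗ[F] V8 F} (ha : Sim a) : Sim a⁻¹ := by
  obtain ⟨c, hc, h⟩ := ha
  refine ⟨c⁻¹, inv_ne_zero hc, fun v => ?_⟩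
  have h1 := h (a⁻¹ v)
  have h2 : a (a⁻¹ v) = v := a.apply_symm_apply v
  rw [h2] at h1
  rw [h1, inv_mul_cancel_left₀ hc]

/-- the group of similitudes -/
def SG (F : Type u) [Field F] : Subgroup (V8 F ≃ₗ[F] V8 F) where
  carrier := {b | Sim b}
  mul_mem' ha hb := Sim.mul ha hb
  one_mem' := sim_one
  inv_mem' ha := Sim.inv ha

theorem sim_of_O {b : V8 F ≃ₗ[F] V8 F} (hb : b ∈ O (plusForm 4 F)) : Sim b :=
  ⟨1, one_ne_zero, fun v => by rw [one_mul]; exact hb v⟩

theorem sim_of_E {b : V8 F ≃ₗ[F] V8 F} (hb : b ∈ E (plusForm 4 F)) : Sim b := sim_of_O (E_le_O hb)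

theorem E_le_SG : E (plusForm 4 F) ≤ SG F := fun _ hb => sim_of_E hb

/-- a similitude as an element of `Gam` -/
def toGam : SG F →* Gam (plusForm 4 F) where
  toFun b := ⟨(b : V8 F ≃ₗ[F] V8 F).toEquiv, by
    obtain ⟨c, hc, h⟩ := b.2
    exact ⟨RingEquiv.refl F, c, hc, fun u v => map_add (b : V8 F ≃ₗ[F] V8 F) u v,
      fun a v => map_smul (b : V8 F ≃ₗ[F] V8 F) a v, h⟩⟩
  map_one' := rfl
  map_mul' _ _ := rfl

theorem toGam_apply (b : SG F) (v : V8 F) : (toGam b).1 v = (b : V8 F ≃ₗ[F] V8 F) v := rfl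

theorem toGam_injective : Function.Injective (toGam (F := F)) := by
  intro a b h
  apply Subtype.ext
  ext1 v
  rw [← toGam_apply, h, toGam_apply]

/-- the automorphism of `P8 F` induced by a similitude -/
def psi : SG F →* MulAut (P8 F) := (Psi (plusForm 4 F)).comp toGam

theorem conj_mem_E (b : SG F) {h : V8 F ≃ₗ[F] V8 F} (hh : h ∈ E (plusForm 4 F)) :
    (b : V8 F ≃ₗ[F] V8 F) * h * (b : V8 F ≃ₗ[F] V8 F)⁻¹ ∈ E (plusForm 4 F) := conjLin_mem_E (toGam b) hh

theorem psi_mk (b : SG F) (h : ↥(E (plusForm 4 F))) :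
    psi b (h : P8 F) = ((⟨b.1 * h.1 * b.1⁻¹, conj_mem_E b h.2⟩ : ↥(E (plusForm 4 F))) : P8 F) := rfl

theorem psi_of_E (g : ↥(E (plusForm 4 F))) : psi ⟨g.1, E_le_SG g.2⟩ = MulAut.conj (g : P8 F) := by
  ext k
  obtain ⟨k, rfl⟩ := QuotientGroup.mk_surjective k
  (simp +singlePass only [psi_mk])
  rfl

theorem exists_scalar {b : SG F} (hG : Good (plusForm 4 F)) (h : psi b = 1) : ∃ a : F, ∀ v, b.1 v = a • v := by
  have h1 : toGam b ∈ (Psi (plusForm 4 F)).ker := h
  rw [ker_Psi hG] at h1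
  obtain ⟨a, ha⟩ := h1
  refine ⟨a, fun v => ?_⟩
  rw [← toGam_apply, ← ha]
  rfl

/-- over a prime field -/
theorem ringEquiv_apply [Fintype F] (hq : (Fintype.card F).Prime) (σ : F ≃+* F) (a : F) : σ a = a := by
  have : Fact (Fintype.card F).Prime := ⟨hq⟩
  obtain ⟨b, rfl⟩ := (ZMod.ringEquivOfPrime F hq rfl).surjective a
  have h1 : (σ : F →+* F).comp (ZMod.ringEquivOfPrime F hq rfl : ZMod (Fintype.card F) →+* F) =
      (ZMod.ringEquivOfPrime F hq rfl : ZMod (Fintype.card F) →+* F) := Subsingleton.elim _ _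
  exact RingHom.congr_fun h1 b

theorem toGam_surjective [Fintype F] (hq : (Fintype.card F).Prime) : Function.Surjective (toGam (F := F)) := by
  rintro ⟨m, σ, c, hm⟩
  let b : V8 F ≃ₗ[F] V8 F :=
    { toFun := m
      invFun := m.symm
      map_add' := hm.add
      map_smul' := fun a v => by
        rw [hm.smul, ringEquiv_apply hq σ a]
        rfl
      left_inv := m.left_inv
      right_inv := m.right_inv }
  have hb : Sim b := ⟨c, hm.ne, fun v => by
    have h1 := hm.form v
    rw [ringEquiv_apply hq σ] at h1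
    exact h1⟩
  refine ⟨⟨b, hb⟩, ?_⟩
  apply Subtype.ext
  ext1 v
  rfl

theorem range_psi [Fintype F] (hq : (Fintype.card F).Prime) : (psi (F := F)).range = (Psi (plusForm 4 F)).range := by
  apply le_antisymm
  · rintro _ ⟨b, rfl⟩
    exact ⟨toGam b, rfl⟩
  · rintro _ ⟨m, rfl⟩
    obtain ⟨b, rfl⟩ := toGam_surjective hq m
    exact ⟨b, rfl⟩

theorem card_dvd_Gam {M : Subgroup (V8 F ≃ₗ[F] V8 F)} (hM : ∀ m ∈ M, Sim m) :
    Nat.card M ∣ Nat.card (Gam (plusForm 4 F)) :=
  Subgroup.card_dvd_of_injective (toGam.comp (Subgroup.inclusion (K := SG F) hM))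
    (toGam_injective.comp (Subgroup.inclusion_injective _))

theorem finite_equiv [Finite F] : Finite (V8 F ≃ₗ[F] V8 F) :=
  Finite.of_injective (fun g => (g : V8 F → V8 F)) DFunLike.coe_injective

theorem solvable_of {M : Subgroup (V8 F ≃ₗ[F] V8 F)} (hG : Good (plusForm 4 F)) (hM : ∀ m ∈ M, Sim m)
    {H : Subgroup (MulAut (P8 F))} (hH : Group.IsSolvable H) (hMH : ∀ (m : V8 F ≃ₗ[F] V8 F) (hm : m ∈ M),
      psi ⟨m, hM m hm⟩ ∈ H) : Group.IsSolvable M := by
  let f : M →* H := ((psi (F := F)).comp (Subgroup.inclusion (K := SG F) hM)).codRestrict H (fun m => hMH m.1 m.2)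
  have key : ∀ (x y : V8 F ≃ₗ[F] V8 F) (hx : Sim x) (hy : Sim y), psi ⟨x, hx⟩ = 1 → psi ⟨y, hy⟩ = 1 → x * y = y * x := by
    intro x y hx hy ha hb
    obtain ⟨s, hs⟩ := exists_scalar hG ha
    obtain ⟨t, ht⟩ := exists_scalar hG hb
    have hs' : ∀ v, x v = s • v := hs
    have ht' : ∀ v, y v = t • v := ht
    ext1 v
    show x (y v) = y (x v)
    rw [hs', hs', ht', ht', smul_comm]
  have hcomm : ∀ a b : f.ker, a * b = b * a := fun a b =>
    Subtype.ext (Subtype.ext (key a.1.1 b.1.1 (hM _ a.1.2) (hM _ b.1.2)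
      (congrArg (Subtype.val : H → MulAut (P8 F)) a.2) (congrArg (Subtype.val : H → MulAut (P8 F)) b.2)))
  have hker : Group.IsSolvable f.ker := Group.isSolvable_of_comm hcomm
  exact Group.isSolvable_of_ker_le_range (f.ker.subtype) f (by rw [Subgroup.range_subtype])

theorem mapHom_eq_im (b : V8 F ≃ₗ[F] V8 F) (S : Submodule F (V8 F)) : mapHom b S = im b S := rfl

theorem im_mul (a b : V8 F ≃ₗ[F] V8 F) (S : Submodule F (V8 F)) : im (a * b) S = im a (im b S) := by
  rw [← mapHom_eq_im, map_mul]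
  rfl

theorem im_one (S : Submodule F (V8 F)) : im (1 : V8 F ≃ₗ[F] V8 F) S = S := Submodule.map_id S

theorem im_inv_im (a : V8 F ≃ₗ[F] V8 F) (S : Submodule F (V8 F)) : im a⁻¹ (im a S) = S := by
  rw [← im_mul, inv_mul_cancel, im_one]

theorem map_stab (hG : Good (plusForm 4 F)) (b : SG F) (S : Submodule F (V8 F)) :
    (stab hG S).map (psi b).toMonoidHom = stab hG (im b.1 S) := by
  have key : ∀ (b : SG F) (S : Submodule F (V8 F)) (k : P8 F), k ∈ stab hG S → psi b k ∈ stab hG (im b.1 S) := by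
    intro b S k hk
    obtain ⟨k, rfl⟩ := QuotientGroup.mk_surjective k
    rw [mem_stab] at hk
    have hk' : im k.1 S = S := hk
    rw [psi_mk, mem_stab, pact_mk]
    show im (b.1 * k.1 * b.1⁻¹) (im b.1 S) = im b.1 S
    rw [im_mul, im_mul, im_inv_im, hk']
  apply le_antisymm
  · rintro _ ⟨k, hk, rfl⟩
    exact key b S k hk
  · intro k hk
    have h1 := key b⁻¹ (im b.1 S) k hk
    have h2 : im (b⁻¹ : SG F).1 (im b.1 S) = S := im_inv_im b.1 S
    rw [h2] at h1
    refine ⟨psi b⁻¹ k, h1, ?_⟩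
    show psi b (psi b⁻¹ k) = k
    rw [← MulAut.mul_apply, ← map_mul, mul_inv_cancel, map_one]
    rfl

end Cfsg.Agent.H465.OEight
end

-- part: H907/TriFlag
section
/-!
# Subgroups invariant under a triality automorphism fix a flag (helper907, for helper465)

`tri_flag` : `x` a triality automorphism of order 3 of `PΩ⁺₈(q)`, `L` an `x`-invariant subgroup fixing a totally
singular subspace of dimension 1, 3 or 4.
-/

set_option autoImplicit false

namespace Cfsg.Agent.H907.TriFlag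

open Module QuadraticMap Cfsg.Agent.LieClassical.OrthCore Cfsg.Agent.LieClassical.OrthTrans
  Cfsg.Agent.LieClassical.OrthSimple Cfsg.Agent.LieClassical.OrthFinite
  Cfsg.Agent.ClassicalGeometry.OrthAut1 Cfsg.Agent.ClassicalGeometry.OrthAut2
  Cfsg.Agent.ClassicalGeometry.OrthAut2b Cfsg.Agent.ClassicalGeometry.OrthAut3
  Cfsg.Agent.LieClassical.QuadForms Cfsg.Agent.ClassicalGeometry.TrialityOct
  Cfsg.Agent.ClassicalGeometry.Triality Cfsg.Agent.ClassicalGeometry.TrialityIndex
  Cfsg.Agent.ClassicalGeometry.OrthSemi Cfsg.Agent.H198.TriAut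

section Rel

variable {G : Type*} [Group G]

/-- Every `p`-subgroup of `A` normalised by `A` is contained in `B`. -/
def Rel (p : ℕ) (A B : Subgroup G) : Prop :=
  ∀ N : Subgroup G, N ≤ A → (∀ g ∈ A, ∀ t ∈ N, g * t * g⁻¹ ∈ N) → IsPGroup p N → N ≤ B

theorem Rel.map {p : ℕ} {A B : Subgroup G} (h : Rel p A B) (α : MulAut G) :
    Rel p (A.map α.toMonoidHom) (B.map α.toMonoidHom) := by
  intro N hN hn hp
  have h1 : N.map (α⁻¹ : MulAut G).toMonoidHom ≤ B := by
    refine h _ ?_ ?_ (hp.map _)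
    · rintro _ ⟨t, ht, rfl⟩
      obtain ⟨s, hs, rfl⟩ := hN ht
      have : (α⁻¹ : MulAut G).toMonoidHom (α.toMonoidHom s) = s := α.symm_apply_apply s
      rwa [this]
    · rintro g hg _ ⟨t, ht, rfl⟩
      refine ⟨α g * t * (α g)⁻¹, hn _ ⟨g, hg, rfl⟩ t ht, ?_⟩
      show α.symm (α g * t * (α g)⁻¹) = g * α.symm t * g⁻¹
      rw [map_mul, map_mul, map_inv, MulEquiv.symm_apply_apply]
  intro t ht
  exact ⟨α.symm t, h1 ⟨t, ht, rfl⟩, α.apply_symm_apply t⟩

end Rel

section General

variable {F V : Type*} [Field F] [AddCommGroup V] [Module F V] {Q : QuadraticForm F V}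

/-- `UP ⟨u⟩` stabilises the totally singular subspaces containing `u`. -/
theorem UP_span_le_stab [FiniteDimensional F V] (hG : Good Q) {X : Submodule F V} (hX : TS Q X) {u : V}
    (hu : u ∈ X) (hu0 : u ≠ 0) : UP Q (Submodule.span F {u}) ≤ stab hG X := by
  intro t ht
  obtain ⟨w, hw, rfl⟩ := (mem_UP_span_iff hG.nondeg (hX u hu) hu0).1 ht
  apply mem_stab_of_map_le
  intro z hz
  rw [sg_apply, hX.polar hu hz, mul_zero, zero_smul, zero_smul, add_zero, sub_zero]
  exact X.sub_mem hz (X.smul_mem _ hu)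

theorem rel_span_stab [Finite F] [FiniteDimensional F V] (hG : Good Q) (h7 : 7 ≤ finrank F V) (p : ℕ)
    [Fact p.Prime] [CharP F p] {X : Submodule F V} (hX : TS Q X) {u : V} (hu : u ∈ X) (hu0 : u ≠ 0) :
    Rel p (stab hG (Submodule.span F {u})) (stab hG X) := fun N hN hn hp =>
  (le_UP_of_normal hG h7 p (hX u hu) hu0 N hN hn hp).trans (UP_span_le_stab hG hX hu hu0)

theorem rel_stab_span [Finite F] [FiniteDimensional F V] (hG : Good Q) (p : ℕ)
    [Fact p.Prime] [CharP F p] {X : Submodule F V} (hX : TS Q X) {u : V} (hu : u ∈ X) (hu0 : u ≠ 0) :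
    Rel p (stab hG X) (stab hG (Submodule.span F {u})) := by
  intro N hN hn hp
  have hU := UP_span_le_stab hG hX hu hu0
  have hnorm : UP Q (Submodule.span F {u}) ≤ Subgroup.normalizer (N : Set (P Q)) := by
    intro t ht
    rw [Subgroup.mem_normalizer_iff]
    intro r
    constructor
    · intro hr
      exact hn t (hU ht) r hr
    · intro hr
      have := hn _ (inv_mem (hU ht)) _ hr
      have e : t⁻¹ * (t * r * t⁻¹) * t⁻¹⁻¹ = r := by group
      rwa [e] at this
  have hsup : IsPGroup p ↥(UP Q (Submodule.span F {u}) ⊔ N) :=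
    IsPGroup.to_sup_of_normal_right' (isPGroup_UP (Q := Q) p (Submodule.span F {u})) hp hnorm
  obtain ⟨v, hv0, hv, hS⟩ := exists_fixed hG p _ hsup
  obtain ⟨c, hc⟩ := fix_unique hG (hX u hu) hu0 hv hv0 (fun w hw => by
    have h3 := hS (Subgroup.mem_sup_left ((mem_UP_span_iff hG.nondeg (hX u hu) hu0).2 ⟨w, hw, rfl⟩))
    have h4 := apply_mem_of_mem_stab h3 (Submodule.mem_span_singleton_self v)
    obtain ⟨c, hc⟩ := Submodule.mem_span_singleton.1 h4
    exact ⟨c, hc.symm⟩)
  have hc0 : c ≠ 0 := by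
    rintro rfl
    rw [zero_smul] at hc
    exact hv0 hc
  rw [hc, Submodule.span_singleton_smul_eq (IsUnit.mk0 c hc0) u] at hS
  exact le_sup_right.trans hS

/-- a subgroup fixing all points of `W` fixes `W` -/
theorem le_stab_of_points [FiniteDimensional F V] (hG : Good Q) {N : Subgroup (P Q)} {W : Submodule F V}
    (h : ∀ u ∈ W, u ≠ 0 → N ≤ stab hG (Submodule.span F {u})) : N ≤ stab hG W := by
  intro t ht
  obtain ⟨g, rfl⟩ := QuotientGroup.mk_surjective t
  apply mem_stab_of_map_le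
  intro w hw
  by_cases hw0 : w = 0
  · rw [hw0, map_zero]; exact W.zero_mem
  have h1 := apply_mem_of_mem_stab (h w hw hw0 ht) (Submodule.mem_span_singleton_self w)
  obtain ⟨c, hc⟩ := Submodule.mem_span_singleton.1 h1
  rw [← hc]
  exact W.smul_mem _ hw

/-- the part of `X` orthogonal to `v` -/
def perpIn (Q : QuadraticForm F V) (X : Submodule F V) (v : V) : Submodule F V :=
  X ⊓ LinearMap.ker (polarBilin Q v)

theorem mem_perpIn {X : Submodule F V} {v w : V} : w ∈ perpIn Q X v ↔ w ∈ X ∧ polar Q v w = 0 := Iff.rfl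

theorem finrank_perpIn [FiniteDimensional F V] (X : Submodule F V) (v : V) :
    finrank F X ≤ finrank F (perpIn Q X v) + 1 := by
  have h1 := LinearMap.finrank_range_add_finrank_ker ((polarBilin Q v).comp X.subtype)
  have h2 : finrank F (LinearMap.range ((polarBilin Q v).comp X.subtype)) ≤ 1 := by
    have := Submodule.finrank_le (LinearMap.range ((polarBilin Q v).comp X.subtype))
    rwa [finrank_self] at this
  have h3 : finrank F (LinearMap.ker ((polarBilin Q v).comp X.subtype)) = finrank F (perpIn Q X v) := by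
    have e : perpIn Q X v = (LinearMap.ker ((polarBilin Q v).comp X.subtype)).map X.subtype := by
      ext w
      rw [mem_perpIn]
      constructor
      · rintro ⟨hw, h0⟩
        exact ⟨⟨w, hw⟩, h0, rfl⟩
      · rintro ⟨⟨w, hw⟩, h0, rfl⟩
        exact ⟨hw, h0⟩
    rw [e]
    exact (Submodule.finrank_map_subtype_eq X _).symm
  omega

theorem perpIn_le_stab [FiniteDimensional F V] (hG : Good Q) {X : Submodule F V} {v : V} :
    stab hG X ⊓ stab hG (Submodule.span F {v}) ≤ stab hG (perpIn Q X v) := by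
  rintro t ⟨ht1, ht2⟩
  obtain ⟨g, rfl⟩ := QuotientGroup.mk_surjective t
  apply mem_stab_of_map_le
  rintro w ⟨hw, hw0⟩
  refine ⟨apply_mem_of_mem_stab ht1 hw, ?_⟩
  have h1 := apply_mem_of_mem_stab ht2 (Submodule.mem_span_singleton_self v)
  obtain ⟨c, hc⟩ := Submodule.mem_span_singleton.1 h1
  have h2 : polar Q ((g : V ≃ₗ[F] V) v) ((g : V ≃ₗ[F] V) w) = 0 := by
    rw [polar_apply]; exact hw0
  rw [← hc, polar_smul_left, smul_eq_mul] at h2
  have hc0 : v = 0 ∨ c ≠ 0 := by
    by_cases hv : v = 0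
    · exact Or.inl hv
    · right
      rintro rfl
      rw [zero_smul] at hc
      exact hv ((g : V ≃ₗ[F] V).map_eq_zero_iff.1 hc.symm)
  show polar Q v ((g : V ≃ₗ[F] V) w) = 0
  rcases hc0 with rfl | hc0
  · exact polar_zero_left _ _
  · exact (mul_eq_zero.1 h2).resolve_left hc0

/-- `X = X^⊥` for a totally singular subspace of half the dimension -/
theorem mem_of_perp [FiniteDimensional F V] (hG : Good Q) {X : Submodule F V} (hX : TS Q X)
    (hd : finrank F V = 2 * finrank F X) {u : V} (hu : ∀ a ∈ X, polar Q u a = 0) : u ∈ X := by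
  have hnd : (polarBilin Q).Nondegenerate := by
    refine ⟨fun a ha => hG.nondeg a ha, fun a ha => hG.nondeg a fun b => ?_⟩
    rw [polar_comm]
    exact ha b
  have hrefl : (polarBilin Q).IsRefl := by
    intro a b h
    rw [polarBilin_apply_apply] at h ⊢
    rw [polar_comm]
    exact h
  have h1 := LinearMap.BilinForm.finrank_orthogonal hnd X
  have h2 : X ≤ LinearMap.BilinForm.orthogonal (polarBilin Q) X := by
    intro w hw
    rw [LinearMap.BilinForm.mem_orthogonal_iff]
    intro v hv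
    exact hX.polar hv hw
  have h3 : X = LinearMap.BilinForm.orthogonal (polarBilin Q) X :=
    Submodule.eq_of_le_of_finrank_eq h2 (by omega)
  rw [h3, LinearMap.BilinForm.mem_orthogonal_iff]
  intro v hv
  show polar Q v u = 0
  rw [polar_comm]
  exact hu v hv

/-- if `UP X` fixes `Y`, then `X ∩ v^⊥ ≤ Y` for `v ∈ Y`, `v ∉ X` -/
theorem perpIn_le_of_UP [FiniteDimensional F V] (hG : Good Q) {X Y : Submodule F V} (hX : TS Q X)
    (hd : finrank F V = 2 * finrank F X) (h : UP Q X ≤ stab hG Y) {v : V} (hv : v ∈ Y) (hvX : v ∉ X) :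
    perpIn Q X v ≤ Y := by
  obtain ⟨a, ha, hva⟩ : ∃ a ∈ X, polar Q v a ≠ 0 := by
    by_contra hcon
    push Not at hcon
    exact hvX (mem_of_perp hG hX hd hcon)
  rintro w ⟨hw, hvw⟩
  have hvw' : polar Q v w = 0 := hvw
  have haw := hX.polar ha hw
  have h1 : ((sg a w (hX a ha) haw : ↥(E Q)) : P Q) ∈ stab hG Y :=
    h ⟨_, sg_mem_U hX ha (fun z hz => hX.polar hw hz) _ _, rfl⟩
  have h2 := apply_mem_of_mem_stab h1 hv
  rw [sg_apply, polar_comm Q w v, hvw', hX w hw, polar_comm Q a v] at h2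
  have h3 : polar Q v a • w ∈ Y := by
    have e : polar Q v a • w = (v + polar Q v a • w - (0 : F) • a - (0 * polar Q v a) • a) - v := by module
    rw [e]
    exact Y.sub_mem h2 hv
  have h4 := Y.smul_mem (polar Q v a)⁻¹ h3
  rwa [smul_smul, inv_mul_cancel₀ hva, one_smul] at h4

theorem finrank_inf_of_UP [FiniteDimensional F V] (hG : Good Q) {X Y : Submodule F V} (hX : TS Q X)
    (hd : finrank F V = 2 * finrank F X) (h : UP Q X ≤ stab hG Y) (hYX : ¬ Y ≤ X) :
    finrank F X ≤ finrank F ↥(X ⊓ Y) + 1 := by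
  obtain ⟨v, hv, hvX⟩ := SetLike.not_le_iff_exists.1 hYX
  have h1 := perpIn_le_of_UP hG hX hd h hv hvX
  have h2 : perpIn Q X v ≤ X ⊓ Y := le_inf inf_le_left h1
  have h3 := Submodule.finrank_mono h2
  have h4 := finrank_perpIn (Q := Q) X v
  omega

theorem UP_le_of_rel [FiniteDimensional F V] (hG : Good Q) {p : ℕ} [Fact p.Prime] [CharP F p]
    {X Y : Submodule F V} (h : Rel p (stab hG X) (stab hG Y)) : UP Q X ≤ stab hG Y :=
  h _ (UP_le_stab hG X) (fun _ hg _ ht => conj_mem_UP_of_stab hg ht) (isPGroup_UP p X)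

/-- `R(stab⟨u⟩, stab X) → u ∈ X` -/
theorem mem_of_rel_span [FiniteDimensional F V] (hG : Good Q) {p : ℕ} [Fact p.Prime] [CharP F p]
    {X : Submodule F V} (hX : TS Q X) (hd : finrank F V = 2 * finrank F X) {u : V} (hu : Q u = 0)
    (h : Rel p (stab hG (Submodule.span F {u})) (stab hG X)) : u ∈ X := by
  have h1 := UP_le_of_rel hG h
  have hX0 : ∃ w ∈ X, w ≠ 0 := by
    have : Nontrivial X := Module.nontrivial_of_finrank_pos (R := F) (by have := hG.dim; omega)
    obtain ⟨x, hx⟩ := exists_ne (0 : X)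
    exact ⟨x, x.2, fun h => hx (Subtype.ext h)⟩
  obtain ⟨w, hw, hw0⟩ := hX0
  have hne := stab_ne_top hG hX hw hw0
  apply mem_of_perp hG hX hd
  intro a ha
  by_cases ha0 : a = 0
  · rw [ha0, polar_zero_right]
  exact polar_eq_zero_of_mem_spanW hG hne (Submodule.subset_span ⟨hu, h1⟩)
    (Submodule.subset_span ⟨hX a ha, UP_span_le_stab hG hX ha ha0⟩)

/-- `R(stab X, stab⟨u⟩) → u ∈ X` -/
theorem mem_of_rel_stab [FiniteDimensional F V] (hG : Good Q) {p : ℕ} [Fact p.Prime] [CharP F p]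
    {X : Submodule F V} (hX : TS Q X) (hd : finrank F V = 2 * finrank F X) {u : V}
    (h : Rel p (stab hG X) (stab hG (Submodule.span F {u}))) (h3 : 3 ≤ finrank F X) : u ∈ X := by
  by_contra hcon
  have h1 := UP_le_of_rel hG h
  have h2 := finrank_inf_of_UP hG hX hd h1 (by
    rw [Submodule.span_singleton_le_iff_mem]; exact hcon)
  have hu0 : u ≠ 0 := fun h0 => hcon (h0 ▸ X.zero_mem)
  have h4 : finrank F ↥(X ⊓ Submodule.span F {u}) ≤ 1 :=
    (Submodule.finrank_mono inf_le_right).trans (finrank_span_singleton hu0).le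
  omega

/-- an automorphism mapping one point stabiliser to a point stabiliser permutes the point stabilisers -/
theorem pt_of_one (hG : Good Q) {α : MulAut (P Q)} {u y : V} (hu : Q u = 0) (hu0 : u ≠ 0) (hy : Q y = 0)
    (hy0 : y ≠ 0) (h : (stab hG (Submodule.span F {u})).map α.toMonoidHom = stab hG (Submodule.span F {y})) :
    AutOrth.Main.Pt hG α := by
  intro v hv hv0
  obtain ⟨g, hg⟩ := exists_pact_eq hG hu hv hu0 hv0
  obtain ⟨g', hg'⟩ := QuotientGroup.mk_surjective (α g)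
  refine ⟨(g' : V ≃ₗ[F] V) y, by rw [Q_apply]; exact hy, fun h0 => hy0 ((g' : V ≃ₗ[F] V).map_eq_zero_iff.1 h0),
    ?_⟩
  rw [← hg, ← map_conj_stab, ← map_mulAut_mul, mul_conj, map_mulAut_mul, h, map_conj_stab, ← hg', pact_mk,
    mapHom_span]

/-- the incidence argument -/
theorem core [Finite F] [FiniteDimensional F V] (hG : Good Q) (p : ℕ) [Fact p.Prime] [CharP F p]
    (h8 : finrank F V = 8) (x : MulAut (P Q)) {u : V} (hu : Q u = 0) (hu0 : u ≠ 0)
    {X Y : Submodule F V} (hX : TS Q X) (hY : TS Q Y) (hX4 : finrank F X = 4) (hY4 : finrank F Y = 4)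
    (c1 : (stab hG (Submodule.span F {u})).map x.toMonoidHom = stab hG X)
    (c2 : (stab hG X).map x.toMonoidHom = stab hG Y)
    (c3 : (stab hG Y).map x.toMonoidHom = stab hG (Submodule.span F {u}))
    (hXY : X ≠ Y) (hT : finrank F ↥(X ⊓ Y) = 3 → stab hG (X ⊓ Y) ≤ stab hG X)
    {L : Subgroup (P Q)} (hLu : L ≤ stab hG (Submodule.span F {u})) (hLX : L ≤ stab hG X) (hLY : L ≤ stab hG Y) :
    (∃ C W : Submodule F V, TS Q W ∧ C ≤ W ∧ finrank F C = 1 ∧ finrank F W = 3 ∧ L ≤ stab hG C ∧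
      L ≤ stab hG W) ∨
    (∃ C W₁ W₂ : Submodule F V, TS Q C ∧ TS Q W₁ ∧ TS Q W₂ ∧
      finrank F C = 1 ∧ finrank F W₁ = 3 ∧ finrank F W₂ = 3 ∧ W₁ ≠ W₂ ∧ ¬ C ≤ W₁ ∧ ¬ C ≤ W₂ ∧
      (∀ c ∈ C, ∀ w ∈ W₁, polar Q c w = 0) ∧ (∀ c ∈ C, ∀ w ∈ W₂, polar Q c w = 0) ∧
      L ≤ stab hG C ∧ L ≤ stab hG W₁ ∧ L ≤ stab hG W₂) := by
  set C := Submodule.span F {u} with hC
  have hC1 : finrank F C = 1 := finrank_span_singleton hu0
  have hCTS : TS Q C := TS_span hu
  have hdX : finrank F V = 2 * finrank F X := by omega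
  have hdY : finrank F V = 2 * finrank F Y := by omega
  have hYX : ¬ Y ≤ X := fun h => hXY (Submodule.eq_of_le_of_finrank_eq h (by omega)).symm
  have hXY' : ¬ X ≤ Y := fun h => hXY (Submodule.eq_of_le_of_finrank_eq h (by omega))
  have hlt : finrank F ↥(X ⊓ Y) < 4 := by
    refine lt_of_lt_of_eq ?_ hX4
    exact Submodule.finrank_lt_finrank_of_lt (inf_le_left.lt_of_ne fun h => hXY' (inf_eq_left.1 h))
  -- `x` cycles the three incidence relations
  have m1 : Rel p (stab hG X) (stab hG C) → Rel p (stab hG Y) (stab hG X) := fun h => by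
    have := h.map x
    rwa [c1, c2] at this
  have m2 : Rel p (stab hG Y) (stab hG X) → Rel p (stab hG C) (stab hG Y) := fun h => by
    have := h.map x
    rwa [c2, c3] at this
  have m3 : Rel p (stab hG C) (stab hG Y) → Rel p (stab hG X) (stab hG C) := fun h => by
    have := h.map x
    rwa [c1, c3] at this
  have memC : u ∈ C := Submodule.mem_span_singleton_self u
  -- incident with `Y` gives incident with everything
  have hall : C ≤ Y → C ≤ X ∧ finrank F ↥(X ⊓ Y) = 3 := by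
    intro h
    have h1 : Rel p (stab hG C) (stab hG Y) := rel_span_stab hG (by omega) p hY (h memC) hu0
    have h2 := m3 h1
    have h3 : u ∈ X := mem_of_rel_stab hG hX hdX h2 (by omega)
    have h4 := UP_le_of_rel hG (m1 h2)
    have h5 := finrank_inf_of_UP hG hY hdY h4 hXY'
    have h6 : finrank F ↥(Y ⊓ X) = finrank F ↥(X ⊓ Y) := by rw [inf_comm]
    exact ⟨by rw [hC, Submodule.span_singleton_le_iff_mem]; exact h3, by omega⟩
  have hXC : C ≤ X → C ≤ Y := by
    intro h
    have h1 : Rel p (stab hG X) (stab hG C) := rel_stab_span hG p hX (h memC) hu0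
    rw [hC, Submodule.span_singleton_le_iff_mem]
    exact mem_of_rel_span hG hY hdY hu (m2 (m1 h1))
  by_cases hCY : C ≤ Y
  · left
    obtain ⟨h1, h2⟩ := hall hCY
    refine ⟨C, X ⊓ Y, fun w hw => hX w hw.1, le_inf h1 hCY, hC1, h2, hLu, ?_⟩
    intro t ht
    obtain ⟨g, rfl⟩ := QuotientGroup.mk_surjective t
    apply mem_stab_of_map_le
    rintro w ⟨hw1, hw2⟩
    exact ⟨apply_mem_of_mem_stab (hLX ht) hw1, apply_mem_of_mem_stab (hLY ht) hw2⟩
  · right
    have hCX : ¬ C ≤ X := fun h => hCY (hXC h)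
    have huX : u ∉ X := fun h => hCX (by rwa [hC, Submodule.span_singleton_le_iff_mem])
    have huY : u ∉ Y := fun h => hCY (by rwa [hC, Submodule.span_singleton_le_iff_mem])
    have h3 : finrank F ↥(X ⊓ Y) ≠ 3 := by
      intro h3
      apply huY
      apply mem_of_rel_span hG hY hdY hu (m2 _)
      intro N hN hn hpN
      refine (le_stab_of_points hG (W := X ⊓ Y) fun v hv hv0 => ?_).trans
        (hT h3)
      exact rel_stab_span hG p hY hv.2 hv0 N hN hn hpN
    have dim : ∀ {Z : Submodule F V}, TS Q Z → finrank F Z = 4 → u ∉ Z →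
        finrank F (perpIn Q Z u) = 3 := by
      intro Z hZ hZ4 huZ
      have h1 := finrank_perpIn (Q := Q) Z u
      have h2 : finrank F (perpIn Q Z u) < 4 := by
        refine lt_of_lt_of_eq ?_ hZ4
        refine Submodule.finrank_lt_finrank_of_lt (inf_le_left.lt_of_ne fun h => huZ ?_)
        apply mem_of_perp hG hZ (by omega)
        intro a ha
        have h3 : a ∈ perpIn Q Z u := by
          rw [perpIn, h]; exact ha
        exact h3.2
      omega
    refine ⟨C, perpIn Q X u, perpIn Q Y u, hCTS, fun w hw => hX w hw.1,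
      fun w hw => hY w hw.1, hC1, dim hX hX4 huX, dim hY hY4 huY, ?_, ?_, ?_, ?_, ?_, hLu, ?_, ?_⟩
    · intro h
      apply h3
      have h4 : perpIn Q X u ≤ X ⊓ Y := le_inf inf_le_left (by rw [h]; exact inf_le_left)
      have h5 := Submodule.finrank_mono h4
      rw [dim hX hX4 huX] at h5
      omega
    · exact fun h => huX (h memC).1
    · exact fun h => huY (h memC).1
    · intro c hc w hw
      obtain ⟨a, rfl⟩ := Submodule.mem_span_singleton.1 hc
      rw [polar_smul_left, (mem_perpIn.1 hw).2, smul_zero]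
    · intro c hc w hw
      obtain ⟨a, rfl⟩ := Submodule.mem_span_singleton.1 hc
      rw [polar_smul_left, (mem_perpIn.1 hw).2, smul_zero]
    · exact (le_inf hLX hLu).trans (perpIn_le_stab hG)
    · exact (le_inf hLY hLu).trans (perpIn_le_stab hG)

end General

variable {F : Type*} [Field F]

theorem map_pow_eq {G : Type*} [Group G] {x : MulAut G} {L : Subgroup G} (hL : L.map x.toMonoidHom = L) (i : ℕ) :
    L.map (x ^ i).toMonoidHom = L := by
  induction i with
  | zero => exact map_mulAut_one L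
  | succ n ih => rw [pow_succ, map_mulAut_mul, hL, ih]

private theorem gen_pow_mem70 {G : Type*} [Group G] (Γ : Subgroup G) (hcard : Nat.card (G ⧸ Γ) = 3) {x : G} (hx : x ^ 3 = 1)
    (hx1 : ∀ α : G, α⁻¹ * x * α ∉ Γ) (α : G) : ∃ i : ℕ, x ^ i * α ∈ Γ := by
  let f : Fin 3 → G ⧸ Γ := fun i => ((x ^ (i : ℕ) * α : G) : _ ⧸ Γ)
  have hx2 : ∀ β : G, β⁻¹ * x ^ 2 * β ∉ Γ := by
    intro β h
    apply hx1 β
    have h1 : x ^ 2 = x⁻¹ := by rw [eq_inv_iff_mul_eq_one, ← pow_succ, hx]
    have h2 := inv_mem h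
    simp only [h1] at h2
    have e : (β⁻¹ * x⁻¹ * β)⁻¹ = β⁻¹ * x * β := by group
    (simp only [e] at h2; assumption)
  have hinj : Function.Injective f := by
    have e01 : f 0 ≠ f 1 := by
      intro h
      have h1 := QuotientGroup.eq.1 h
      simp only [Fin.val_zero, Fin.val_one, pow_zero, one_mul, pow_one] at h1
      exact hx1 α (by rwa [← mul_assoc] at h1)
    have e02 : f 0 ≠ f 2 := by
      intro h
      have h1 := QuotientGroup.eq.1 h
      simp only [Fin.val_zero, Fin.val_two, pow_zero, one_mul] at h1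
      exact hx2 α (by rwa [← mul_assoc] at h1)
    have e12 : f 1 ≠ f 2 := by
      intro h
      have h1 := QuotientGroup.eq.1 h
      simp only [Fin.val_one, Fin.val_two, pow_one] at h1
      have e : (x * α)⁻¹ * (x ^ 2 * α) = α⁻¹ * x * α := by group
      rw [e] at h1
      exact hx1 α h1
    intro i j hij
    fin_cases i <;> fin_cases j <;> first | rfl | skip
    · exact absurd hij e01
    · exact absurd hij e02
    · exact absurd hij.symm e01
    · exact absurd hij e12
    · exact absurd hij.symm e02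
    · exact absurd hij.symm e12
  have hsurj : Function.Surjective f := by
    have : Finite (G ⧸ Γ) := Nat.finite_of_card_ne_zero (by rw [hcard]; norm_num)
    have : Fintype (G ⧸ Γ) := Fintype.ofFinite _
    have h1 : Fintype.card (Fin 3) = Fintype.card (G ⧸ Γ) := by
      rw [Fintype.card_fin, ← Nat.card_eq_fintype_card, hcard]
    exact ((Fintype.bijective_iff_injective_and_card f).2 ⟨hinj, h1⟩).2
  obtain ⟨i, hi⟩ := hsurj ((1 : G) : _ ⧸ Γ)
  have h1 := QuotientGroup.eq.1 hi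
  rw [mul_one] at h1
  exact ⟨i, inv_mem_iff.1 h1⟩

/-- some `x^i α` induces a semisimilarity -/
theorem exists_pow_mem [Finite F] {x : MulAut (P8 F)} (hx : x ^ 3 = 1)
    (hx1 : ∀ α : MulAut (P8 F), α⁻¹ * x * α ∉ (Psi (plusForm 4 F)).range) (α : MulAut (P8 F)) :
    ∃ i : ℕ, x ^ i * α ∈ (Psi (plusForm 4 F)).range :=
  gen_pow_mem70 _ _root_.Cfsg.Agent.H198.TriAut.index_three hx hx1 α

theorem exists_four_of [Finite F] (hG : Good (plusForm 4 F)) {x : MulAut (P8 F)}
    (hx : x ∉ (Psi (plusForm 4 F)).range) {u : V8 F} (hu : plusForm 4 F u = 0) (hu0 : u ≠ 0) :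
    ∃ X : Submodule F (V8 F), TS (plusForm 4 F) X ∧ finrank F X = 4 ∧
      (stab hG (Submodule.span F {u})).map x.toMonoidHom = stab hG X := by
  rcases dichotomy hG (by simp) x hu hu0 with ⟨y, hy, hy0, h⟩ | ⟨-, X, hX, h4, h⟩
  · exact absurd (AutOrth.Final.mem_range_of_pt hG (by simp) (pt_of_one hG hu hu0 hy hy0 h)) hx
  · exact ⟨X, hX, h4, h⟩

theorem tri_flag_of [Finite F] (hG : Good (plusForm 4 F))
    (exists_aut_stab : ∀ {X : Submodule F (V8 F)}, TS (plusForm 4 F) X → finrank F X = 4 →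
      ∃ (α : MulAut (P8 F)) (u : V8 F), plusForm 4 F u = 0 ∧ u ≠ 0 ∧
      (stab hG (Submodule.span F {u})).map α.toMonoidHom = stab hG X)
    (stab_le_stab : ∀ {W X : Submodule F (V8 F)}, TS (plusForm 4 F) X →
      finrank F X = 4 → finrank F W = 3 → W ≤ X → stab hG W ≤ stab hG X)
    (exists_four : ∀ {W : Submodule F (V8 F)}, TS (plusForm 4 F) W →
      finrank F W = 3 → ∃ X, TS (plusForm 4 F) X ∧ finrank F X = 4 ∧ W ≤ X)
    (x : MulAut (P8 F)) (hx : x ^ 3 = 1)
    (hx1 : ∀ α : MulAut (P8 F), α⁻¹ * x * α ∉ (Psi (plusForm 4 F)).range) {L : Subgroup (P8 F)}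
    (hL : L.map x.toMonoidHom = L) {S : Submodule F (V8 F)} (hS : TS (plusForm 4 F) S)
    (hd : finrank F S = 1 ∨ finrank F S = 3 ∨ finrank F S = 4) (hLS : L ≤ stab hG S) :
    (∃ C W : Submodule F (V8 F), TS (plusForm 4 F) W ∧ C ≤ W ∧ finrank F C = 1 ∧ finrank F W = 3 ∧ L ≤ stab hG C ∧
      L ≤ stab hG W) ∨
    (∃ C W₁ W₂ : Submodule F (V8 F), TS (plusForm 4 F) C ∧ TS (plusForm 4 F) W₁ ∧ TS (plusForm 4 F) W₂ ∧
      finrank F C = 1 ∧ finrank F W₁ = 3 ∧ finrank F W₂ = 3 ∧ W₁ ≠ W₂ ∧ ¬ C ≤ W₁ ∧ ¬ C ≤ W₂ ∧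
      (∀ c ∈ C, ∀ w ∈ W₁, polar (plusForm 4 F) c w = 0) ∧ (∀ c ∈ C, ∀ w ∈ W₂, polar (plusForm 4 F) c w = 0) ∧
      L ≤ stab hG C ∧ L ≤ stab hG W₁ ∧ L ≤ stab hG W₂) := by
  obtain ⟨p, hpF⟩ := CharP.exists F
  have hp : Fact p.Prime := ⟨CharP.char_is_prime F p⟩
  have h8 : finrank F (V8 F) = 8 := by simp
  -- a fixed 4-space gives a fixed point
  have four : ∀ {X : Submodule F (V8 F)}, TS (plusForm 4 F) X → finrank F X = 4 → L ≤ stab hG X →
      ∃ u : V8 F, plusForm 4 F u = 0 ∧ u ≠ 0 ∧ L ≤ stab hG (Submodule.span F {u}) := by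
    intro X hX h4 hLX
    obtain ⟨α, u, hu, hu0, hα⟩ := exists_aut_stab hX h4
    obtain ⟨i, hi⟩ := exists_pow_mem hx hx1 α
    obtain ⟨y, hy, hy0, h1⟩ := AutOrth.Final.pt_of_mem_range hG hi u hu hu0
    refine ⟨y, hy, hy0, ?_⟩
    rw [← h1, map_mulAut_mul, hα, ← map_pow_eq hL i]
    exact Subgroup.map_mono hLX
  obtain ⟨u, hu, hu0, hLu⟩ : ∃ u : V8 F, plusForm 4 F u = 0 ∧ u ≠ 0 ∧ L ≤ stab hG (Submodule.span F {u}) := by
    rcases hd with h1 | h3 | h4
    · obtain ⟨u, hu0, huS⟩ := finrank_eq_one_iff'.1 h1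
      refine ⟨u, hS u u.2, fun h => hu0 (Subtype.ext h), ?_⟩
      have : Submodule.span F {(u : V8 F)} = S := by
        apply le_antisymm
        · rw [Submodule.span_singleton_le_iff_mem]; exact u.2
        · intro w hw
          obtain ⟨c, hc⟩ := huS ⟨w, hw⟩
          exact Submodule.mem_span_singleton.2 ⟨c, congrArg Subtype.val hc⟩
      rwa [this]
    · obtain ⟨X, hX, h4, hSX⟩ := exists_four hS h3
      exact four hX h4 (hLS.trans (stab_le_stab hX h4 h3 hSX))
    · exact four hS h4 hLS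
  have hxn : x ∉ (Psi (plusForm 4 F)).range := by
    have := hx1 1
    (simp only [inv_one, one_mul, mul_one] at this; assumption)
  have hxn' : x⁻¹ ∉ (Psi (plusForm 4 F)).range := fun h => hxn (inv_mem_iff.1 h)
  set C := Submodule.span F {u} with hC
  obtain ⟨X, hX, hX4, hXs⟩ := exists_four_of hG hxn hu hu0
  obtain ⟨Y, hY, hY4, hYs⟩ := exists_four_of hG hxn' hu hu0
  rw [← hC] at hXs hYs
  -- the cycle
  have c1 : (stab hG C).map x.toMonoidHom = stab hG X := hXs
  have c2 : (stab hG X).map x.toMonoidHom = stab hG Y := by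
    rw [← hXs, ← hYs, ← map_mulAut_mul]
    congr 2
    rw [eq_inv_iff_mul_eq_one, mul_assoc]
    have : x * (x * x) = x ^ 3 := by simp only [pow_succ x 2, pow_two x, mul_assoc x x x]
    rw [this, hx]
  have c3 : (stab hG Y).map x.toMonoidHom = stab hG C := by
    rw [← hYs, map_mulAut_inv']
  have hLX : L ≤ stab hG X := by
    rw [← c1]; nth_rewrite 1 [← hL]; exact Subgroup.map_mono hLu
  have hLY : L ≤ stab hG Y := by
    rw [← c2]; nth_rewrite 1 [← hL]; exact Subgroup.map_mono hLX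
  have hbot : ∀ {Z : Submodule F (V8 F)}, finrank F Z = 4 → Z ≠ ⊥ := by
    rintro Z hZ rfl
    rw [finrank_bot] at hZ
    omega
  have hC1 : finrank F C = 1 := finrank_span_singleton hu0
  have hCTS : TS (plusForm 4 F) C := TS_span hu
  have hXY : X ≠ Y := by
    intro h
    rw [← h] at c2
    have h1 : stab hG C = stab hG X := Subgroup.map_injective x.injective (c1.trans c2.symm)
    have h2 := stab_injective hG hCTS hX (by
      rw [hC, Ne, Submodule.span_singleton_eq_bot]; exact hu0) (hbot hX4) h1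
    rw [h2] at hC1
    omega
  exact core hG p h8 x hu hu0 hX hY hX4 hY4 c1 c2 c3 hXY
    (fun h3 => stab_le_stab hX hX4 h3 inf_le_left) hLu hLX hLY

end Cfsg.Agent.H907.TriFlag
end

private theorem dce_203b83b64eb0 : _root_.True := by
  try have : _root_.True := by simp only [_root_.Cfsg.Agent.H465.OEight.resEnd.congr_simp]
  try have : _root_.True := by simp only [_root_.Cfsg.Agent.H907.TriFlag.perpIn.eq_1]
  exact _root_.True.intro
end

-- part: H462/OEight/Stab
section
prune_inst 0x215044006440020000000586210000246400009000030000c90002420a48a20100010601327014001996848060090060000000004040000004008400401d0020848342020220a00426000f808804000000000000000000000000000000010000000000000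
set_option linter.all false
open scoped Cfsg.Agent.FastGrp

/-!
# `PΩ⁺₈(q)`: stabilisers of totally singular 3- and 4-spaces (helper462, for S3853, S3943, S4384, S3817; task T1, T2)

* `exists_aut_stab` : the stabiliser of a totally singular 4-space is the image of the stabiliser of a singular point
  under an automorphism;
* `stab_le_stab` : the stabiliser of a totally singular 3-space fixes the 4-spaces containing it;
* `exists_four` : every totally singular 3-space lies in a totally singular 4-space;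
* `exists_max` : the same for all totally singular subspaces; `ev_of_E` : elements of `E Q` preserve the two families.
-/

set_option autoImplicit false
set_option linter.unusedSectionVars false

namespace Cfsg.Agent.H462.OEight

open Module QuadraticMap Cfsg.Agent.LieClassical.OrthCore Cfsg.Agent.LieClassical.OrthTrans
  Cfsg.Agent.ClassicalGeometry.OrthAut1 Cfsg.Agent.LieClassical.QuadForms Cfsg.Agent.ClassicalGeometry.TrialityOct
  Cfsg.Agent.ClassicalGeometry.Triality Cfsg.Agent.ClassicalGeometry.OrthSemi Cfsg.Agent.H198.TriAut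
  Cfsg.Agent.ClassicalGeometry.TrialitySpaces Cfsg.Agent.H198.TriBase Cfsg.Agent.H208.Parity

variable {F : Type*} [Field F]

theorem finrank_V8 : finrank F (V8 F) = 2 * 4 := by
  rw [Module.finrank_fintype_fun_eq_card]; simp

theorem nd8 : Nondeg (plusForm 4 F) := fun x hx => polar_plusForm_nondeg 4 x hx

theorem exists_tsm : ∃ U : Submodule F (V8 F), TSm (plusForm 4 F) 4 U := by
  refine ⟨leftSp (Pi.single (.inl 0) 1), finrank_leftSp ?_ ?_, leftSp_sing ?_⟩
  · rw [norm8]; simp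
  · intro h
    have := congrFun h (.inl 0)
    simp at this
  · rw [norm8]; simp

/-- every totally singular subspace lies in a totally singular 4-space -/
theorem exists_max {W : Submodule F (V8 F)} (hW : TS (plusForm 4 F) W) :
    ∃ X, TS (plusForm 4 F) X ∧ finrank F X = 4 ∧ W ≤ X := by
  obtain ⟨n, hn⟩ : ∃ n, n = 4 - finrank F W := ⟨_, rfl⟩
  induction n using Nat.strong_induction_on generalizing W with
  | _ n ih =>
    have hle : finrank F W ≤ 4 := finrank_le_of_ts nd8 finrank_V8 hW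
    by_cases h4 : finrank F W = 4
    · exact ⟨W, hW, h4, le_rfl⟩
    · have h1 : ¬ ∀ X : Submodule F (V8 F), (∀ w ∈ X, plusForm 4 F w = 0) → W ≤ X → X = W := fun h =>
        h4 (finrank_eq_of_max nd8 finrank_V8 exists_tsm hW h)
      push Not at h1
      obtain ⟨X, hX, hWX, hne⟩ := h1
      have h2 : finrank F W < finrank F X := Submodule.finrank_lt_finrank_of_lt (lt_of_le_of_ne hWX hne.symm)
      have h3 : finrank F X ≤ 4 := finrank_le_of_ts nd8 finrank_V8 hX
      obtain ⟨Y, hY, h5, h6⟩ := ih (4 - finrank F X) (by omega) hX rfl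
      exact ⟨Y, hY, h5, hWX.trans h6⟩

/-- T2' -/
theorem exists_four [Finite F] (hG : Good (plusForm 4 F)) {W : Submodule F (V8 F)} (hW : TS (plusForm 4 F) W)
    (h3 : finrank F W = 3) : ∃ X, TS (plusForm 4 F) X ∧ finrank F X = 4 ∧ W ≤ X := exists_max hW

theorem mem_img_ofO {g : V8 F ≃ₗ[F] V8 F} (hg : g ∈ O (plusForm 4 F)) (U : Submodule F (V8 F)) :
    img (ofO g hg) U = mapHom g U := by
  ext v
  rw [mem_img, mem_mapHom]
  constructor
  · intro h
    refine ⟨_, h, ?_⟩
    exact (ofO g hg).1.apply_symm_apply v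
  · rintro ⟨w, hw, rfl⟩
    have h1 : (ofO g hg).1⁻¹ (g w) = w := (ofO g hg).1.symm_apply_apply w
    rw [h1]
    exact hw

/-- the elements of `E Q` preserve the families of the totally singular 4-spaces -/
theorem ev_of_E {g : V8 F ≃ₗ[F] V8 F} (hg : g ∈ E (plusForm 4 F)) : Ev 4 (ofO g (E_le_O hg)) := by
  have key : ∀ g ∈ E (plusForm 4 F), ∃ hO : g ∈ O (plusForm 4 F), Ev 4 (ofO g hO) := by
    intro g hg
    unfold E at hg
    induction hg using Subgroup.closure_induction with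
    | mem x hx =>
      obtain ⟨u, w, hu, hw, rfl⟩ := hx
      refine ⟨E_le_O (siegel_mem_E hu hw), ?_⟩
      obtain ⟨X, hX, h4, huX⟩ := exists_max (W := Submodule.span F {u}) (by
        intro z hz
        obtain ⟨c, rfl⟩ := Submodule.mem_span_singleton.1 hz
        rw [QuadraticMap.map_smul, hu, smul_zero])
      have huX' : u ∈ X := huX (Submodule.mem_span_singleton_self u)
      refine ev_of_one nd8 finrank_V8 (U := X) ⟨h4, hX⟩ ?_
      have h1 : img (ofO _ (E_le_O (siegel_mem_E hu hw))) X = X := by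
        rw [mem_img_ofO]
        apply Submodule.eq_of_le_of_finrank_eq
        · rintro _ ⟨z, hz, rfl⟩
          change siegel (plusForm 4 F) u w hu hw z ∈ X
          rw [siegel_apply]
          have hz0' : polar (plusForm 4 F) u z = 0 := hX.polar huX' hz
          simp only [hz0', zero_smul, mul_zero, add_zero, sub_zero]
          exact X.sub_mem hz (X.smul_mem _ huX')
        · exact LinearEquiv.finrank_map_eq _ _
      rw [h1, inf_idem, h4]
      decide
    | one =>
      refine ⟨(O _).one_mem, ?_⟩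
      refine ev_of_img_eq fun U _ => ?_
      rw [mem_img_ofO, map_one]
      rfl
    | mul x y _ _ ihx ihy =>
      obtain ⟨hx, h1⟩ := ihx
      obtain ⟨hy, h2⟩ := ihy
      refine ⟨(O _).mul_mem hx hy, ?_⟩
      have h3 : ofO (x * y) ((O _).mul_mem hx hy) = ofO x hx * ofO y hy := by
        apply Subtype.ext
        ext v
        rfl
      rw [h3, ev_mul nd8 finrank_V8 exists_tsm]
      exact ⟨fun _ => h2, fun _ => h1⟩
    | inv x _ ih =>
      obtain ⟨hx, h1⟩ := ih
      refine ⟨(O _).inv_mem hx, ?_⟩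
      have h3 : ofO x⁻¹ ((O _).inv_mem hx) = (ofO x hx)⁻¹ := by
        apply eq_inv_of_mul_eq_one_left
        apply Subtype.ext
        ext v
        exact congrFun (x.symm_apply_apply v) _
      rw [h3, ev_inv nd8 finrank_V8 exists_tsm]
      exact h1
  obtain ⟨_, h⟩ := key g hg
  exact h

/-- T2 -/
theorem stab_le_stab [Finite F] (hG : Good (plusForm 4 F)) {W X : Submodule F (V8 F)} (hX : TS (plusForm 4 F) X)
    (h4 : finrank F X = 4) (h3 : finrank F W = 3) (hWX : W ≤ X) : stab hG W ≤ stab hG X := by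
  intro p hp
  obtain ⟨g, rfl⟩ := QuotientGroup.mk_surjective p
  rw [mem_stab, pact_mk] at hp ⊢
  have h1 := ev_of_E g.2 X ⟨h4, hX⟩
  rw [mem_img_ofO] at h1
  have h2 : W ≤ X ⊓ mapHom (g : V8 F ≃ₗ[F] V8 F) X := by
    refine le_inf hWX ?_
    rw [← hp]
    exact Submodule.map_mono hWX
  have h5 := Submodule.finrank_mono h2
  have h6 := Submodule.finrank_mono (inf_le_left : X ⊓ mapHom (g : V8 F ≃ₗ[F] V8 F) X ≤ X)
  rw [h3] at h5
  rw [h4] at h6
  have h7 : finrank F ↥(X ⊓ mapHom (g : V8 F ≃ₗ[F] V8 F) X) = 4 := by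
    rw [Nat.even_iff] at h1
    omega
  have h8 : X ⊓ mapHom (g : V8 F ≃ₗ[F] V8 F) X = X :=
    Submodule.eq_of_le_of_finrank_eq inf_le_left (by rw [h7, h4])
  have h9 : X ≤ mapHom (g : V8 F ≃ₗ[F] V8 F) X := inf_eq_left.1 h8
  refine (Submodule.eq_of_le_of_finrank_eq h9 ?_).symm
  exact (LinearEquiv.finrank_map_eq _ _).symm

/-- the conjugation -/
theorem kap_stab (hG : Good (plusForm 4 F)) (S : Submodule F (V8 F)) :
    (stab hG S).map (Psi _ (kapG F)).toMonoidHom = stab hG (mapHom (kap F) S) := by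
  have key : ∀ (S : Submodule F (V8 F)) (p : P8 F), p ∈ stab hG S →
      Psi _ (kapG F) p ∈ stab hG (mapHom (kap F) S) := by
    intro S p hp
    obtain ⟨g, rfl⟩ := QuotientGroup.mk_surjective p
    rw [mem_stab, pact_mk] at hp
    rw [Psi_mk, mem_stab, pact_mk]
    have h1 : ((conjE _ (kapG F) g : ↥(E (plusForm 4 F))) : V8 F ≃ₗ[F] V8 F) = kap F * g * kap F := conjLin_kapG _
    rw [h1, map_mul, map_mul, Equiv.Perm.mul_apply, Equiv.Perm.mul_apply]
    have h2 : mapHom (kap F) (mapHom (kap F) S) = S := by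
      rw [← Equiv.Perm.mul_apply, ← map_mul, kap_mul_kap, map_one]
      rfl
    rw [h2, hp]
  have hkk : Psi (plusForm 4 F) (kapG F) * Psi (plusForm 4 F) (kapG F) = 1 := by
    rw [← map_mul, kapG_mul_kapG, map_one]
  ext p
  constructor
  · rintro ⟨q, hq, rfl⟩
    exact key S q hq
  · intro hp
    refine ⟨Psi _ (kapG F) p, ?_, ?_⟩
    · have h1 := key _ p hp
      have h2 : mapHom (kap F) (mapHom (kap F) S) = S := by
        rw [← Equiv.Perm.mul_apply, ← map_mul, kap_mul_kap, map_one]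
        rfl
      rwa [h2] at h1
    · exact DFunLike.congr_fun hkk p

theorem kap_leftSp (y : V8 F) : mapHom (kap F) (leftSp (oconj y)) = rightSp y := by
  ext v
  rw [mem_mapHom, mem_rightSp]
  constructor
  · rintro ⟨_, ⟨t, rfl⟩, rfl⟩
    refine ⟨oconj t, ?_⟩
    change _ = oconj (omul (oconj y) t)
    rw [oconj_omul, oconj_oconj]
  · rintro ⟨t, rfl⟩
    refine ⟨omul (oconj y) (oconj t), ⟨oconj t, rfl⟩, ?_⟩
    change oconj (omul (oconj y) (oconj t)) = _
    rw [oconj_omul, oconj_oconj, oconj_oconj]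

/-- T1 -/
theorem exists_aut_stab [Finite F] (hG : Good (plusForm 4 F)) {X : Submodule F (V8 F)} (hX : TS (plusForm 4 F) X)
    (h4 : finrank F X = 4) : ∃ (α : MulAut (P8 F)) (u : V8 F), plusForm 4 F u = 0 ∧ u ≠ 0 ∧
      (stab hG (Submodule.span F {u})).map α.toMonoidHom = stab hG X := by
  have htau : ∀ u : V8 F, plusForm 4 F u = 0 → u ≠ 0 →
      (stab hG (Submodule.span F {u})).map (tau hG).toMonoidHom = stab hG (leftSp u) := by
    intro u hu hu0
    have h1 := tau_stab_xO hG hu hu0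
    rw [← h1, Subgroup.map_map]
    have h3 : ((tau hG).toMonoidHom.comp (tau hG).toMonoidHom) = MonoidHom.id _ := by
      ext p
      exact tau_tau hG p
    rw [h3, Subgroup.map_id]
    rfl
  obtain ⟨y, hy, hy0, rfl | rfl⟩ := isOct_of_singular hX h4
  · exact ⟨tau hG, y, hy, hy0, htau y hy hy0⟩
  · have h1 : plusForm 4 F (oconj y) = 0 := by rw [norm_oconj, hy]
    have h2 := htau (oconj y) h1 (oconj_ne_zero hy0)
    refine ⟨Psi _ (kapG F) * tau hG, oconj y, h1, oconj_ne_zero hy0, ?_⟩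
    rw [← kap_leftSp, ← kap_stab, ← h2, Subgroup.map_map]
    rfl

end Cfsg.Agent.H462.OEight
end
end
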