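import Mathlib
import Cfsg.Agent.H465.SULin_m3
import Cfsg.Prelude.Def_Classical
import Cfsg.Agent.S0262
import Cfsg.Agent.ClassicalGeometry.PSL2Basic
import Cfsg.Agent.ClassicalGeometry.PSL2ElemOrder
import Cfsg.Agent.H96.TISylow
import Cfsg.Agent.H965.SURow_m3
import Cfsg.Agent.H518.DghpPSp_m3
import Cfsg.Agent.H798.RowTwD
import Cfsg.Agent.H568.OwnCharChev
import Cfsg.Agent.FastGrp
import Cfsg.Agent.Prune
set_option linter.all false

section
prune_inst 0x7f00000000000000000000000000000000000000000000000000000000000000000000000000000000000000000000000000000000000000000000000000000000000000000000000000000000000000003fffffffffffffffffffffffffffbeffbdffffffff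

-- part: H465/LTwo
section
set_option linter.all false
open scoped Cfsg.Agent.FastGrp

-- part: H465/TICrit
section
/-!
# The criterion with TI Sylow subgroups (helper465)

* `P2.of_TI` : Sylow `r`-subgroups (`r` odd) intersect trivially and every solvable subgroup containing an element of
  order `r` has a nontrivial normal `r`-subgroup.
* `exists_normal_of_linear` : the second condition for (projective) linear groups of small dimension in
  characteristic `r`.
-/

set_option autoImplicit false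

namespace Cfsg.Agent.H465.SU

open Subgroup

theorem P2.of_TI {K : Type*} [Group K] [Finite K] [IsSimpleGroup K] (hK : ¬ IsMulCommutative K) {r : ℕ}
    [Fact r.Prime] (hr2 : r ≠ 2) (hd : r ∣ Nat.card K)
    (hTI : ∀ (P Q : Sylow r K) (x : K), x ≠ 1 → x ∈ (P : Subgroup K) → x ∈ (Q : Subgroup K) → P = Q)
    (hsol : ∀ y : K, orderOf y = r → ∀ X : Subgroup K, Group.IsSolvable X → y ∈ X →
      ∃ R : Subgroup K, R ≠ ⊥ ∧ R ≤ X ∧ IsPGroup r R ∧ ∀ g ∈ X, ∀ u ∈ R, g * u * g⁻¹ ∈ R) : P2 K := by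
  have hr : r.Prime := Fact.out
  intro x hx
  by_contra hcon
  push Not at hcon
  apply hx
  obtain ⟨P0⟩ : Nonempty (Sylow r K) := inferInstance
  have hmap : ∀ (e : MulAut K) (P : Sylow r K), ∃ Q : Sylow r K, (Q : Subgroup K) = (P : Subgroup K).map e.toMonoidHom := by
    intro e P
    refine ⟨e • P, ?_⟩
    rw [Sylow.pointwise_smul_def]
    rfl
  have hbot : ∀ P : Sylow r K, (P : Subgroup K) ≠ ⊥ := by
    intro P h
    have h1 := P.dvd_card_of_dvd_card hd
    rw [h, card_bot] at h1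
    exact hr.one_lt.ne' (Nat.dvd_one.1 h1)
  -- every Sylow subgroup is `x`-invariant
  have key : ∀ P : Sylow r K, (P : Subgroup K).map x.toMonoidHom = P := by
    intro P
    obtain ⟨y, hy⟩ := exists_prime_orderOf_dvd_card' (G := (P : Subgroup K)) r (P.dvd_card_of_dvd_card hd)
    have hy' : orderOf (y : K) = r := by rw [orderOf_coe, hy]
    have hy1 : (y : K) ≠ 1 := fun h => by
      rw [h, orderOf_one] at hy'
      exact hr.one_lt.ne hy'
    set X := _root_.Subgroup.closure ({(y : K), x y} : Set K) with hX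
    have hyX : (y : K) ∈ X := _root_.Subgroup.subset_closure (by simp)
    have hxyX : x y ∈ X := _root_.Subgroup.subset_closure (by simp)
    obtain ⟨R, hR1, hRX, hRr, hRn⟩ := hsol y hy' X (hcon y ⟨r, 1, hr, hr2, by rw [hy', pow_one]⟩) hyX
    obtain ⟨Q, hRQ⟩ := hRr.exists_le_sylow
    obtain ⟨u0, hu0⟩ := Subgroup.ne_bot_iff_exists_ne_one.1 hR1
    obtain ⟨u, huR, hu1⟩ : ∃ u : K, u ∈ R ∧ u ≠ 1 := ⟨u0, u0.2, fun h => hu0 (Subtype.ext h)⟩
    -- `X` normalises `Q`
    have hXQ : X ≤ normalizer (Q : Set K) := by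
      intro g hg
      obtain ⟨Q', hQ'⟩ := hmap (MulAut.conj g) Q
      have h1 : Q' = Q := by
        refine hTI Q' Q (g * u * g⁻¹) ?_ ?_ (hRQ (hRn g hg u huR))
        · intro h
          apply hu1
          have : u = g⁻¹ * (g * u * g⁻¹) * g := by group
          rw [this, h]; group
        · rw [hQ']
          exact ⟨u, hRQ huR, rfl⟩
      show g ∈ normalizer (((Q : Subgroup K)) : Set K)
      rw [mem_normalizer_iff_map_conj_eq]
      rw [h1] at hQ'
      exact hQ'.symm
    have hQmem : ∀ z : K, z ∈ X → (∃ k, orderOf z = r ^ k) → z ∈ (Q : Subgroup K) := by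
      rintro z hz ⟨k, hk⟩
      have h1 : IsPGroup r (zpowers z) := IsPGroup.of_card (n := k) (by rw [Nat.card_zpowers, hk])
      have h2 := h1.inf_normalizer_sylow Q
      have h3 : z ∈ zpowers z ⊓ normalizer (Q : Set K) := ⟨mem_zpowers z, hXQ hz⟩
      rw [h2] at h3
      exact h3.2
    have hyQ := hQmem y hyX ⟨1, by rw [hy', pow_one]⟩
    have hxyQ := hQmem (x y) hxyX ⟨1, by rw [MulEquiv.orderOf_eq, hy', pow_one]⟩
    have hQP : Q = P := hTI Q P y hy1 hyQ y.2
    obtain ⟨P', hP'⟩ := hmap x P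
    have hP'P : P' = P := by
      refine hTI P' P (x y) (fun h => hy1 (x.injective (by rw [h, map_one]))) ?_ (hQP ▸ hxyQ)
      rw [hP']
      exact ⟨y, y.2, rfl⟩
    rw [← hP', hP'P]
  refine eq_one_of_normalises (A := (P0 : Subgroup K)) (fun hn => ?_) fun g => ?_
  · rcases hn.eq_bot_or_eq_top with h | h
    · exact hbot P0 h
    · -- `K` is an `r`-group
      apply hK
      have h1 : IsPGroup r K := by
        have h2 : IsPGroup r (⊤ : Subgroup K) := h ▸ P0.2
        exact h2.of_equiv topEquiv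
      have h3 : Nontrivial K := inferInstance
      have h4 := h1.center_nontrivial
      rcases (inferInstance : (center K).Normal).eq_bot_or_eq_top with h5 | h5
      · exact absurd h5 ((nontrivial_iff_ne_bot _).1 h4)
      · refine ⟨⟨fun a b => ?_⟩⟩
        have ha : b ∈ center K := by rw [h5]; trivial
        exact mem_center_iff.1 ha a
  · obtain ⟨Q, hQ⟩ := hmap (MulAut.conj g) P0
    rw [← hQ]
    exact key Q

/-- solvable subgroups containing an element of order the characteristic -/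
theorem exists_normal_of_linear {G K : Type*} [Group G] [Finite G] [Group K] {F V : Type*} [Field F] [AddCommGroup V]
    [Module F V] [FiniteDimensional F V] (ρ : G →* (V ≃ₗ[F] V)) (hinj : Function.Injective ρ) {r : ℕ} [CharP F r]
    (hr : r.Prime) (hdim : Module.finrank F V + 1 < r) (hr2 : r ≠ 2) (π : G →* K) (hπ : Function.Surjective π)
    (hker : π.ker ≤ center G) (hcop : ¬ r ∣ Nat.card π.ker) {y : K} (hy : orderOf y = r) {X : Subgroup K}
    (hX : Group.IsSolvable X) (hyX : y ∈ X) :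
    ∃ R : Subgroup K, R ≠ ⊥ ∧ R ≤ X ∧ IsPGroup r R ∧ ∀ g ∈ X, ∀ u ∈ R, g * u * g⁻¹ ∈ R := by
  have : Fact r.Prime := ⟨hr⟩
  -- `π` is injective on `r`-elements
  have hkinj : ∀ g : G, (∃ j, orderOf g = r ^ j) → π g = 1 → g = 1 := by
    rintro g ⟨j, hj⟩ hg
    rw [← orderOf_eq_one_iff, hj]
    rcases Nat.eq_zero_or_pos j with h0 | h0
    · rw [h0, pow_zero]
    · exfalso
      apply hcop
      have hg' : g ∈ π.ker := hg
      have h1 : orderOf (⟨g, hg'⟩ : π.ker) ∣ Nat.card π.ker := _root_.orderOf_dvd_natCard _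
      rw [orderOf_mk, hj] at h1
      exact (dvd_pow_self r (by omega)).trans h1
  -- lift `y`
  obtain ⟨y', hy'1, hy'2⟩ : ∃ y' : G, π y' = y ∧ orderOf y' = r := by
    have h1 : r ∣ Nat.card ((zpowers y).comap π) := by
      have h2 := card_map_dvd ((zpowers y).comap π) π
      rw [map_comap_eq_self_of_surjective hπ, Nat.card_zpowers, hy] at h2
      exact h2
    obtain ⟨d, hd⟩ := exists_prime_orderOf_dvd_card' r h1
    have hd' : orderOf (d : G) = r := by rw [orderOf_coe, hd]
    obtain ⟨i, hi⟩ := mem_zpowers_iff.1 (show π (d : G) ∈ zpowers y from d.2)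
    have h4 : π (d : G) ≠ 1 := fun h5 => by
      have := hkinj d ⟨1, by rw [hd', pow_one]⟩ h5
      rw [this, orderOf_one] at hd'
      exact hr.one_lt.ne hd'
    -- `y` is a power of `π d`
    have h5 : zpowers (π (d : G)) = zpowers y := by
      have hfin : Finite (zpowers y) := Nat.finite_of_card_ne_zero (by rw [Nat.card_zpowers, hy]; exact hr.ne_zero)
      refine eq_of_le_of_card_ge (zpowers_le.2 d.2) ?_
      rw [Nat.card_zpowers, Nat.card_zpowers, hy]
      have h6 : orderOf (π (d : G)) ∣ r := hd' ▸ orderOf_map_dvd π _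
      rcases (Nat.dvd_prime hr).1 h6 with h7 | h7
      · exact absurd (orderOf_eq_one_iff.1 h7) h4
      · exact h7.ge
    have h6 : y ∈ zpowers (π (d : G)) := by rw [h5]; exact mem_zpowers y
    obtain ⟨j, hj⟩ := mem_zpowers_iff.1 h6
    refine ⟨(d : G) ^ j, by rw [map_zpow, hj], ?_⟩
    have h7 : orderOf ((d : G) ^ j) ∣ r := by
      rw [← hd']
      exact orderOf_dvd_of_mem_zpowers (zpow_mem (mem_zpowers _) j)
    rcases (Nat.dvd_prime hr).1 h7 with h8 | h8
    · exfalso
      rw [orderOf_eq_one_iff] at h8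
      have h9 : y = 1 := by rw [← hj, ← map_zpow, h8, map_one]
      rw [h9, orderOf_one] at hy
      exact hr.one_lt.ne hy
    · exact h8
  -- the preimage of `X`
  set X' := X.comap π with hX'
  have hX's : Group.IsSolvable X' := by
    let f : X' →* X := (π.comp X'.subtype).codRestrict X fun g => g.2
    let g : π.ker →* X' := π.ker.subtype.codRestrict X' fun g => by
      show π g ∈ X
      rw [show π g = 1 from g.2]
      exact X.one_mem
    have hkers : Group.IsSolvable π.ker :=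
      Group.isSolvable_of_comm fun a b => Subtype.ext (mem_center_iff.1 (hker b.2) a)
    refine Group.isSolvable_of_ker_le_range g f ?_
    intro a ha
    have h1 : π a = 1 := congrArg Subtype.val ha
    exact ⟨⟨a, h1⟩, rfl⟩
  have hy'X : y' ∈ X' := by
    show π y' ∈ X
    rw [hy'1]; exact hyX
  have hzy : IsPGroup r (zpowers y') := IsPGroup.of_card (n := 1) (by rw [Nat.card_zpowers, hy'2, pow_one])
  have hcoren : ∀ (t : ℕ) (g : G), g ∈ X' → ∀ u ∈ (Cfsg.pCore t X').map X'.subtype, g * u * g⁻¹ ∈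
      (Cfsg.pCore t X').map X'.subtype := by
    rintro t g hg _ ⟨u, hu, rfl⟩
    have hn : (Cfsg.pCore t X').Normal := Lib.Cores.pCore_normal t
    exact ⟨(⟨g, hg⟩ * u * ⟨g, hg⟩⁻¹ :), hn.conj_mem u hu _, rfl⟩
  have hcoreP : ∀ t : ℕ, t.Prime → IsPGroup t ((Cfsg.pCore t X').map X'.subtype) := by
    intro t ht
    have : Fact t.Prime := ⟨ht⟩
    exact (Lib.Cores.pCore_isPGroup t).map _
  set R' := (Cfsg.pCore r X').map X'.subtype with hR'
  have hR'1 : R' ≠ ⊥ := by
    intro hbot
    have h1 : zpowers y' ≤ R' := by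
      refine Lib.BenderMaximal.le_map_pCore_of_le_fitting hzy ?_
      refine (le_inf (zpowers_le.2 hy'X) (Lib.BenderMaximal.le_centralizer_fitting fun t ht => ?_)).trans
        (Lib.BenderMaximal.inf_centralizer_fitting_le hX's)
      rw [zpowers_le, mem_centralizer_iff]
      intro u hu
      by_cases htr : t = r
      · subst htr
        rw [← hR', hbot] at hu
        rw [mem_bot.1 hu, one_mul, mul_one]
      · have h0 : ((t : ℕ) : F) ≠ 0 := by
          intro h0
          have h2 := (CharP.cast_eq_zero_iff F r t).1 h0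
          exact htr ((Nat.prime_dvd_prime_iff_eq hr ht).1 h2).symm
        have h3 := LinSolv.centralize ρ hinj hr hr2 (a := 1) (le_refl 1) ht htr h0 (y := y') (by rw [hy'2, pow_one])
          (hcoreP t ht) (hcoren t y' hy'X) (Or.inl (by simpa using hdim)) u hu
        rw [Nat.sub_self, pow_zero, pow_one] at h3
        exact h3.symm
    rw [hbot, le_bot_iff, zpowers_eq_bot] at h1
    rw [h1, orderOf_one] at hy'2
    exact hr.one_lt.ne hy'2
  refine ⟨R'.map π, ?_, ?_, (hcoreP r hr).map π, ?_⟩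
  · obtain ⟨u, hu⟩ := Subgroup.ne_bot_iff_exists_ne_one.1 hR'1
    intro hbot
    apply hu
    apply Subtype.ext
    refine hkinj u ?_ ?_
    · obtain ⟨k, hk⟩ := IsPGroup.iff_orderOf.1 (hcoreP r hr) u
      exact ⟨k, by rw [orderOf_coe, hk]⟩
    · have : π u ∈ R'.map π := ⟨u, u.2, rfl⟩
      rw [hbot] at this
      exact this
  · rw [map_le_iff_le_comap]
    exact map_subtype_le _
  · rintro g hg _ ⟨u, hu, rfl⟩
    obtain ⟨g', rfl⟩ := hπ g
    exact ⟨g' * u * g'⁻¹, hcoren r g' hg u hu, by simp only [_root_.map_mul, _root_.map_inv]⟩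

end Cfsg.Agent.H465.SU
end

-- part: H465/LTwo
section
/-!
# `P2` for `PSL_2(q)` (helper465)

* characteristic `r ≥ 5`: elements of order `r`, TI Sylow subgroups;
* characteristic 2, 3: a `p`-element generating a Sylow `p`-subgroup, `p^a ∥ q + 1`, `p^a ≥ 5` odd.
-/

set_option autoImplicit false

namespace Cfsg.Agent.H465.LTwo

open Subgroup Matrix Cfsg.Agent.H465.SU

variable {F : Type*} [Field F] [Fintype F]

/-- elements whose order does not divide `(q - 1) r^k` are irreducible on `F²` -/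
theorem irreducible {r : ℕ} [Fact r.Prime] [CharP F r] {p a : ℕ} (hp : p.Prime) (ha : 1 ≤ a) (hpr : p ≠ r)
    (hp1 : ¬ p ∣ Fintype.card F - 1) {y : _root_.Matrix.SpecialLinearGroup (Fin 2) F} (hy : orderOf y = p ^ a)
    (W : Submodule F (Fin 2 → F)) (hW : ∀ w ∈ W, SpecialLinearGroup.toLin' y w ∈ W) : W = ⊥ ∨ W = ⊤ := by
  by_contra hcon
  push Not at hcon
  obtain ⟨hb, ht⟩ := hcon
  have h2 : Module.finrank F (Fin 2 → F) = 2 := by rw [Module.finrank_fintype_fun_eq_card, Fintype.card_fin]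
  have h3 : Module.finrank F W < 2 := lt_of_lt_of_eq (Submodule.finrank_lt ht) h2
  have h4 : Module.finrank F W ≠ 0 := fun h => hb (Submodule.finrank_eq_zero.1 h)
  have h5 : Module.finrank F W = 1 := by omega
  obtain ⟨w, hw, hw0⟩ := (Submodule.ne_bot_iff W).1 hb
  obtain ⟨c, hc⟩ := exists_smul_eq_of_finrank_eq_one h5 (x := (⟨w, hw⟩ : W))
      (fun h => hw0 (congrArg Subtype.val h)) ⟨_, hW w hw⟩
  have hc' : SpecialLinearGroup.toLin' y w = c • w := (congrArg Subtype.val hc).symm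
  have hc0 : c ≠ 0 := by
    rintro rfl
    rw [zero_smul] at hc'
    exact hw0 ((SpecialLinearGroup.toLin' y).map_eq_zero_iff.1 hc')
  have hpow : ∀ k : ℕ, SpecialLinearGroup.toLin' (y ^ k) w = c ^ k • w := by
    intro k
    induction k with
    | zero => simp
    | succ k ih =>
      rw [pow_succ, map_mul, LinearEquiv.mul_apply, hc', map_smul, ih, smul_smul, pow_succ, mul_comm]
  have h6 := hpow (Fintype.card F - 1)
  rw [FiniteField.pow_card_sub_one_eq_one c hc0, one_smul] at h6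
  have h7 : (y ^ (Fintype.card F - 1)).1 *ᵥ w = w := by
    rw [SpecialLinearGroup.toLin'_apply, Matrix.toLin'_apply] at h6
    exact h6
  obtain ⟨k, hk⟩ := H96.TISylow.pow_eq_one_of_nilp (p := r) (H96.TISylow.sl_two_nilp hw0 h7)
  have h8 : orderOf (y ^ (Fintype.card F - 1)) ∣ 1 := by
    have d1 : orderOf (y ^ (Fintype.card F - 1)) ∣ r ^ k := orderOf_dvd_of_pow_eq_one hk
    have d2 : orderOf (y ^ (Fintype.card F - 1)) ∣ p ^ a := hy ▸ orderOf_pow_dvd _
    have hco : Nat.Coprime (r ^ k) (p ^ a) :=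
      Nat.Coprime.pow _ _ ((Nat.coprime_primes Fact.out hp).2 (Ne.symm hpr))
    have h10 := Nat.dvd_gcd d1 d2
    rwa [Nat.Coprime.gcd_eq_one hco] at h10
  have h9 : y ^ (Fintype.card F - 1) = 1 := orderOf_eq_one_iff.1 (Nat.dvd_one.1 h8)
  exact hp1 ((dvd_pow_self p (by omega)).trans (hy ▸ orderOf_dvd_of_pow_eq_one h9))

theorem not_dvd_center {p : ℕ} (hp : p.Prime) (hp2 : p ≠ 2) :
    ¬ p ∣ Nat.card (center (_root_.Matrix.SpecialLinearGroup (Fin 2) F)) := by
  intro h
  have : Fact p.Prime := ⟨hp⟩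
  obtain ⟨z, hz⟩ := exists_prime_orderOf_dvd_card' p h
  obtain ⟨c, hc, hcz⟩ := Matrix.SpecialLinearGroup.mem_center_iff.1 z.2
  have h1 : z ^ 2 = 1 := by
    apply Subtype.ext
    refine Subtype.ext ?_
    have h3 : ((z : Matrix.SpecialLinearGroup (Fin 2) F)).1 * ((z : Matrix.SpecialLinearGroup (Fin 2) F)).1 = 1 := by
      rw [← hcz, ← map_mul, ← pow_two]
      rw [Fintype.card_fin] at hc
      rw [hc, map_one]
    rw [pow_two]
    exact h3
  have h2 : orderOf z ∣ 2 := orderOf_dvd_of_pow_eq_one h1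
  rw [hz] at h2
  exact hp2 ((Nat.prime_dvd_prime_iff_eq hp Nat.prime_two).1 h2)

/-- a Sylow `p`-subgroup, `p^a ∥ q + 1` -/
theorem hasSU_of {r : ℕ} [Fact r.Prime] [CharP F r] {p a : ℕ} (hp : p.Prime) (hp2 : p ≠ 2) (ha : 1 ≤ a)
    (h5 : 5 ≤ p ^ a) (hpq : p ^ a ∣ Fintype.card F + 1) (hpq' : ¬ p ^ (a + 1) ∣ Fintype.card F + 1) :
    ∃ y : ProjectiveSpecialLinearGroup (Fin 2) F, SUel p y := by
  have hpf : Fact p.Prime := ⟨hp⟩
  have hr : r.Prime := Fact.out
  have hp1 : p ∣ Fintype.card F + 1 := (dvd_pow_self p (by omega)).trans hpq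
  obtain ⟨n, -, hn⟩ := FiniteField.card F r
  have hpr : p ≠ r := by
    rintro rfl
    have h1 : p ∣ Fintype.card F := by rw [hn]; exact dvd_pow_self p n.ne_zero
    have h2 : p ∣ 1 := (Nat.dvd_add_right h1).1 hp1
    exact hp.one_lt.ne' (Nat.dvd_one.1 h2)
  have hq1 : 1 < Fintype.card F := Fintype.one_lt_card
  have hp3 : ¬ p ∣ Fintype.card F - 1 := by
    intro h
    have h2 : p ∣ (Fintype.card F + 1) - (Fintype.card F - 1) := Nat.dvd_sub hp1 h
    have h3 : (Fintype.card F + 1) - (Fintype.card F - 1) = 2 := by omega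
    rw [h3] at h2
    exact hp2 ((Nat.prime_dvd_prime_iff_eq hp Nat.prime_two).1 h2)
  have hpn : ¬ p ∣ Fintype.card F := by
    rw [hn]
    intro h
    exact hpr ((Nat.prime_dvd_prime_iff_eq hp hr).1 (hp.dvd_of_dvd_pow h))
  have hcyc : ∀ P : Sylow p (_root_.Matrix.SpecialLinearGroup (Fin 2) F), IsCyclic P := fun P => S0262.result r p hp2 hpr P
  -- the order of a Sylow subgroup
  have hcard : Nat.card (_root_.Matrix.SpecialLinearGroup (Fin 2) F) = p ^ a * ((Fintype.card F + 1) / p ^ a *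
      (Fintype.card F * (Fintype.card F - 1))) := by
    rw [ClassicalGeometry.PSL2Basic.card_SL2]
    have h1 : Fintype.card F ^ 2 - 1 = (Fintype.card F + 1) * (Fintype.card F - 1) := by
      have := Nat.sq_sub_sq (Fintype.card F) 1
      rwa [one_pow] at this
    rw [h1, ← mul_assoc (p ^ a), Nat.mul_div_cancel' hpq]
    ring
  have hnd : ¬ p ∣ (Fintype.card F + 1) / p ^ a * (Fintype.card F * (Fintype.card F - 1)) := by
    rw [hp.dvd_mul, hp.dvd_mul]
    rintro (h | h | h)
    · apply hpq'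
      rw [pow_succ]
      exact Nat.mul_dvd_of_dvd_div hpq h
    · exact hpn h
    · exact hp3 h
  obtain ⟨P⟩ : Nonempty (Sylow p (_root_.Matrix.SpecialLinearGroup (Fin 2) F)) := inferInstance
  have hPc : Nat.card P = p ^ a := by
    rw [P.card_eq_multiplicity, hcard, Nat.factorization_mul (pow_ne_zero _ hp.ne_zero) (by
      intro h0
      rw [h0] at hnd
      exact hnd (dvd_zero p)), Finsupp.add_apply, Nat.factorization_eq_zero_of_not_dvd hnd, hp.factorization_pow,
      Finsupp.single_eq_same, add_zero]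
  obtain ⟨g, hg⟩ := (hcyc P).exists_generator
  have hgo : orderOf (g : _root_.Matrix.SpecialLinearGroup (Fin 2) F) = p ^ a := by
    rw [orderOf_coe, orderOf_eq_card_of_forall_mem_zpowers hg, hPc]
  have hfin : Module.finrank F (Fin 2 → F) = 2 := by rw [Module.finrank_fintype_fun_eq_card, Fintype.card_fin]
  have hSU : SUel p (g : _root_.Matrix.SpecialLinearGroup (Fin 2) F) := by
    refine SUel.of_irreducible (SpecialLinearGroup.toLin' (n := Fin 2) (R := F)) SpecialLinearGroup.toLin'_injective hp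
      hp2 ha hgo hcyc (Or.inl ?_) (irreducible hp ha hpr hp3 hgo)
    rw [hfin]
    obtain ⟨b, rfl⟩ : ∃ b, a = b + 1 := ⟨a - 1, by omega⟩
    rw [Nat.add_sub_cancel, pow_succ]
    have hp3' : 3 ≤ p := by
      have := hp.two_le
      omega
    rcases Nat.eq_zero_or_pos b with h0 | h0
    · rw [h0, pow_zero, one_mul]
      rw [h0, zero_add, pow_one] at h5
      omega
    · have h6 : p ^ 1 ≤ p ^ b := Nat.pow_le_pow_right hp.pos h0
      rw [pow_one] at h6
      nlinarith only [hp3', h6]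
  refine ⟨QuotientGroup.mk' _ (g : _root_.Matrix.SpecialLinearGroup (Fin 2) F), ?_⟩
  refine SUel.map (QuotientGroup.mk' (center (_root_.Matrix.SpecialLinearGroup (Fin 2) F))) (QuotientGroup.mk'_surjective _) ?_ hp ?_
    hSU
  · rw [QuotientGroup.ker_mk']
    exact Group.isSolvable_of_comm fun a b => Subtype.ext (mem_center_iff.1 b.2 a)
  · rw [QuotientGroup.ker_mk']
    exact not_dvd_center hp hp2

/-- arithmetic: an odd prime power `p^a ∥ N`, `p^a ≥ 5` -/
theorem exists_pp {N : ℕ} (h : ∀ k, N ≠ 2 ^ k) (h3 : ∀ k, N ≠ 3 * 2 ^ k) (hN : N ≠ 0) :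
    ∃ p a : ℕ, p.Prime ∧ p ≠ 2 ∧ 1 ≤ a ∧ 5 ≤ p ^ a ∧ p ^ a ∣ N ∧ ¬ p ^ (a + 1) ∣ N := by
  obtain ⟨k, m, hm, hNm⟩ := Nat.exists_eq_two_pow_mul_odd hN
  have hm1 : m ≠ 1 := by
    rintro rfl
    exact h k (by rw [hNm, mul_one])
  have hm3 : m ≠ 3 := by
    rintro rfl
    exact h3 k (by rw [hNm, mul_comm])
  have hm0 : m ≠ 0 := by
    rintro rfl
    exact (by decide : ¬ Odd 0) hm
  -- a prime power of `m`
  have key : ∃ p a : ℕ, p.Prime ∧ 1 ≤ a ∧ 5 ≤ p ^ a ∧ p ^ a ∣ m ∧ ¬ p ^ (a + 1) ∣ m := by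
    by_cases h5 : ∃ p, p.Prime ∧ p ∣ m ∧ p ≠ 3
    · obtain ⟨p, hp, hpm, hp3⟩ := h5
      obtain ⟨a, n, hn, hmn⟩ := Nat.exists_eq_pow_mul_and_not_dvd hm0 p hp.ne_one
      have ha : 1 ≤ a := by
        by_contra h0
        have : a = 0 := by omega
        rw [this, pow_zero, one_mul] at hmn
        exact hn (hmn ▸ hpm)
      have hp5 : 5 ≤ p := by
        have h2 := hp.two_le
        have hp2 : p ≠ 2 := by
          rintro rfl
          obtain ⟨j, hj⟩ := hm
          omega
        have hp4 : p ≠ 4 := by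
          rintro rfl
          norm_num at hp
        omega
      refine ⟨p, a, hp, ha, ?_, ⟨n, hmn⟩, ?_⟩
      · calc 5 ≤ p := hp5
          _ = p ^ 1 := (pow_one p).symm
          _ ≤ p ^ a := Nat.pow_le_pow_right hp.pos ha
      · rintro ⟨c, hc⟩
        apply hn
        have h6 : p ^ a * n = p ^ a * (p * c) := by
          rw [← hmn, hc]; ring
        exact ⟨c, Nat.eq_of_mul_eq_mul_left (pow_pos hp.pos a) h6⟩
    · push Not at h5
      have hp : Nat.Prime 3 := by norm_num
      obtain ⟨a, n, hn, hmn⟩ := Nat.exists_eq_pow_mul_and_not_dvd hm0 3 hp.ne_one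
      have hn1 : n = 1 := by
        by_contra hne
        obtain ⟨l, hl, hln⟩ := Nat.exists_prime_and_dvd hne
        have := h5 l hl (hmn ▸ hln.mul_left _)
        rw [this] at hln
        exact hn hln
      rw [hn1, mul_one] at hmn
      have ha : 2 ≤ a := by
        by_contra h0
        rcases (by omega : a = 0 ∨ a = 1) with h1 | h1
        · rw [h1, pow_zero] at hmn; exact hm1 hmn
        · rw [h1, pow_one] at hmn; exact hm3 hmn
      refine ⟨3, a, hp, by omega, ?_, by rw [hmn], ?_⟩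
      · calc 5 ≤ 3 ^ 2 := by norm_num
          _ ≤ 3 ^ a := Nat.pow_le_pow_right (by norm_num) ha
      · rw [hmn, Nat.pow_dvd_pow_iff_le_right (by norm_num)]
        omega
  obtain ⟨p, a, hp, ha, h5, hd, hnd⟩ := key
  have hp2 : p ≠ 2 := by
    rintro rfl
    have h6 : 2 ∣ m := (dvd_pow_self 2 (by omega)).trans hd
    obtain ⟨j, hj⟩ := hm
    omega
  refine ⟨p, a, hp, hp2, ha, h5, hNm ▸ hd.mul_left _, fun h6 => hnd ?_⟩
  rw [hNm] at h6
  refine Nat.Coprime.dvd_of_dvd_mul_left ?_ h6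
  exact Nat.Coprime.pow _ _ ((Nat.coprime_primes hp Nat.prime_two).2 hp2)

/-- `PSL_2(q)` -/
theorem p2_psl_two {G : Type*} [Group G] [Finite G] [IsSimpleGroup G] (hG : ¬ IsMulCommutative G)
    (e : G ≃* ProjectiveSpecialLinearGroup (Fin 2) F) (hq : 4 ≤ Fintype.card F) : P2 G := by
  obtain ⟨r, hchar⟩ := CharP.exists F
  have hr : r.Prime := (CharP.char_is_prime_or_zero F r).resolve_right (CharP.char_ne_zero_of_finite F r)
  have : Fact r.Prime := ⟨hr⟩
  by_cases hr5 : 5 ≤ r
  · -- TI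
    have hs : IsSimpleGroup (ProjectiveSpecialLinearGroup (Fin 2) F) := e.symm.isSimpleGroup
    have hcK : ¬ IsMulCommutative (ProjectiveSpecialLinearGroup (Fin 2) F) := by
      intro h
      apply hG
      refine ⟨⟨fun a b => ?_⟩⟩
      apply e.injective
      rw [map_mul, map_mul]
      exact h.is_comm.comm _ _
    refine P2.congr e.symm ?_
    refine P2.of_TI hcK (r := r) (by omega) ?_ ?_ ?_
    · -- `r` divides the order
      obtain ⟨n, -, hn⟩ := FiniteField.card F r
      have h1 : r ∣ Nat.card (_root_.Matrix.SpecialLinearGroup (Fin 2) F) := by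
        rw [ClassicalGeometry.PSL2Basic.card_SL2, hn]
        exact (dvd_pow_self r n.ne_zero).mul_right _
      have h2 := card_eq_card_quotient_mul_card_subgroup (center (_root_.Matrix.SpecialLinearGroup (Fin 2) F))
      rw [h2] at h1
      rcases (hr.dvd_mul).1 h1 with h3 | h3
      · exact h3
      · exact absurd h3 (not_dvd_center hr (by omega))
    · intro P Q x hx hP hQ
      exact ClassicalGeometry.PSL2ElemOrder.sylow_eq_of_mem r P Q x hx hP hQ
    · intro y hy X hX hyX
      refine exists_normal_of_linear (F := F) (r := r) (SpecialLinearGroup.toLin' (n := Fin 2) (R := F))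
        SpecialLinearGroup.toLin'_injective hr ?_ (by omega)
        (QuotientGroup.mk' (center (_root_.Matrix.SpecialLinearGroup (Fin 2) F))) (QuotientGroup.mk'_surjective _) ?_ ?_ hy hX hyX
      · rw [Module.finrank_fintype_fun_eq_card, Fintype.card_fin]
        omega
      · rw [QuotientGroup.ker_mk']
      · rw [QuotientGroup.ker_mk']
        exact not_dvd_center hr (by omega)
  · -- characteristic 2 or 3
    obtain ⟨n, -, hn⟩ := FiniteField.card F r
    have hr23 : r = 2 ∨ r = 3 := by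
      have h2 := hr.two_le
      have h4 : r ≠ 4 := by
        rintro rfl
        norm_num at hr
      omega
    obtain ⟨p, a, hp, hp2, ha, h5, hd, hnd⟩ := exists_pp (N := Fintype.card F + 1) (by
      intro k hk
      rcases hr23 with rfl | rfl
      · have h6 : 2 ∣ Fintype.card F := by rw [hn]; exact dvd_pow_self 2 n.ne_zero
        have hk0 : k ≠ 0 := by rintro rfl; omega
        have h7 : 2 ∣ Fintype.card F + 1 := by rw [hk]; exact dvd_pow_self 2 hk0
        omega
      · -- `3^n + 1 = 2^k`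
        have h8 : ∀ m : ℕ, 3 ^ m % 8 = 1 ∨ 3 ^ m % 8 = 3 := by
          intro m
          induction m with
          | zero => left; rfl
          | succ m ih => rw [pow_succ]; omega
        have h9 := h8 n
        rw [← hn] at h9
        have hk3 : 3 ≤ k := by
          by_contra hk3
          have h10 : 2 ^ k ≤ 2 ^ 2 := Nat.pow_le_pow_right two_pos (by omega)
          omega
        have h11 : 8 ∣ 2 ^ k := pow_dvd_pow 2 hk3
        omega) (by
      intro k hk
      rcases hr23 with rfl | rfl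
      · have h6 : 2 ∣ Fintype.card F := by rw [hn]; exact dvd_pow_self 2 n.ne_zero
        have hk0 : k = 0 := by
          by_contra hk0
          have h7 : 2 ∣ 3 * 2 ^ k := (dvd_pow_self 2 hk0).mul_left 3
          omega
        rw [hk0] at hk
        omega
      · have h6 : 3 ∣ Fintype.card F := by rw [hn]; exact dvd_pow_self 3 n.ne_zero
        omega) (by omega)
    obtain ⟨y, hy⟩ := hasSU_of (F := F) (r := r) hp hp2 ha h5 hd hnd
    exact P2.of_SU hG (HasSU.congr e.symm ⟨p, hp, hp2, y, hy⟩)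

end Cfsg.Agent.H465.LTwo
end
end

-- part: H965/SUTwF4
section
set_option linter.all false
open scoped Cfsg.Agent.FastGrp

/-!
# Solvably unique elements of `²F₄(q)`, `q ≥ 8` (helper965)
-/

set_option autoImplicit false

namespace Cfsg.Agent.H965.SU

open Subgroup Cfsg Cfsg.Lie Cfsg.Agent.H465.SU Cfsg.Agent.H568 Cfsg.Agent.H798.RowTw
open Cfsg.Agent.H967.CopMat Cfsg.Agent.H967.CopSz

universe u

/-- In `F₄(q)`, `q` even: elements of prime order `l` of the torus of order `q⁴ - q² + 1` normalise no 2-subgroup. -/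
theorem noNorm_f4_of_torus {F : Type*} [Field F] [Fintype F] [CharP F 2] {q : ℕ} (hF : Fintype.card F = q)
    {l : ℕ} (hl : l.Prime) {T : Subgroup ↥(chevF4.group F)} (hT : IsCyclic ↥T)
    (hTc : Nat.card ↥T + q ^ 2 = q ^ 4 + 1)
    (hTi : ∀ r : ℕ, r.Prime → ∀ y ∈ T, orderOf y = r → Subgroup.centralizer {y} ≤ T)
    (hlT : l ∣ Nat.card ↥T) (hord : ∀ k, l ∣ Nat.card F ^ k - 1 → 12 ∣ k)
    {x : ↥(chevF4.group F)} (hx : orderOf x = l) : NoNorm 2 x := by
  have h2f : Fact (Nat.Prime 2) := ⟨Nat.prime_two⟩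
  have : Fact l.Prime := ⟨hl⟩
  have hq2 : 2 ∣ q := by
    obtain ⟨n, -, h4⟩ := FiniteField.card F 2
    rw [← hF, h4]
    exact dvd_pow_self _ n.pos.ne'
  refine noNorm_F4 2 hl hx ?_ (Or.inr rfl) hord
  intro y hy hxy
  have h1 := (isolated hT hTi hlT).2 x y hx hxy
  rw [hy] at h1
  have h2 : 2 ∣ q ^ 4 + 1 := by
    rw [← hTc]
    exact dvd_add h1 (dvd_pow hq2 (by norm_num))
  have h3 : 2 ∣ q ^ 4 := dvd_pow hq2 (by norm_num)
  have h4 := (Nat.dvd_add_right h3).1 h2
  omega

/-- **The row of the large Ree groups.** -/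
theorem row_twF4 (K : Type u) [Group K] [Finite K] [IsSimpleGroup K] (h : Cfsg.Lie.Iso2F4 K) :
    ∃ (p a : ℕ) (y : K), SURow K p a y := by
  obtain ⟨F, iF, iF', m, hm, hF, ⟨e⟩⟩ := h
  have hs : IsSimpleGroup ↥(twistedF4 F (2 ^ m)) := e.symm.isSimpleGroup
  suffices h : ∃ (p a : ℕ) (y : ↥(twistedF4 F (2 ^ m))), SURow _ p a y by
    obtain ⟨p, a, y, hy⟩ := h
    exact ⟨p, a, e.symm y, hy.congr e.symm⟩
  have hcard := Cfsg.Agent.S1068.result hF
  have hF' : Nat.card F = 2 ^ (2 * m + 1) := by rw [Nat.card_eq_fintype_card, hF]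
  have h2f : Fact (Nat.Prime 2) := ⟨Nat.prime_two⟩
  have hc2 : CharP F 2 := charP_of_card Nat.prime_two hF
  obtain ⟨l, hl, hE, hdv, hl2⟩ := Cfsg.Agent.Lib.Zsigmondy.exists_primitive (a := 2) (n := 12 * (2 * m + 1)) le_rfl
    (by omega) (by omega) (by omega)
  have hlle : 12 * (2 * m + 1) ≤ l - 1 := Nat.le_of_dvd (by have := hl.two_le; omega) hdv
  have hq1 : 1 ≤ 2 ^ (2 * m + 1) := Nat.one_le_pow _ _ (by norm_num)
  have hldvd : l ∣ (2 ^ (2 * m + 1)) ^ 6 + 1 := by
    have h1 : l ∣ 2 ^ (12 * (2 * m + 1)) - 1 := (hE _).2 dvd_rfl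
    have h2 : 2 ^ (12 * (2 * m + 1)) - 1 = (2 ^ (6 * (2 * m + 1)) - 1) * ((2 ^ (2 * m + 1)) ^ 6 + 1) := by
      have h3 : 2 ^ (12 * (2 * m + 1)) = ((2 ^ (2 * m + 1)) ^ 6) ^ 2 := by rw [← pow_mul, ← pow_mul]; ring_nf
      have h4 : 2 ^ (6 * (2 * m + 1)) = (2 ^ (2 * m + 1)) ^ 6 := by rw [← pow_mul]; ring_nf
      rw [h3, h4]
      exact fac _
    rw [h2] at h1
    rcases hl.dvd_mul.1 h1 with h3 | h3
    · have h4 := (hE _).1 h3
      have := Nat.le_of_dvd (by omega) h4
      omega
    · exact h3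
  have hdc : l ∣ Nat.card ↥(twistedF4 F (2 ^ m)) := by
    rw [hcard]
    exact hldvd.mul_left _
  have : Fact l.Prime := ⟨hl⟩
  have hna : ¬ IsMulCommutative ↥(twistedF4 F (2 ^ m)) := by
    intro hc
    have h1 : (Nat.card ↥(twistedF4 F (2 ^ m))).Prime := by
      let _ : CommGroup ↥(twistedF4 F (2 ^ m)) := { mul_comm := fun a b => hc.is_comm.comm a b }
      exact IsSimpleGroup.prime_card
    have h2 : 2 ∣ Nat.card ↥(twistedF4 F (2 ^ m)) := by
      rw [hcard, mul_assoc, mul_assoc, mul_assoc]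
      exact ((dvd_pow_self 2 (by omega)).trans (dvd_pow_self _ (by norm_num))).mul_right _
    have h3 := (Nat.prime_dvd_prime_iff_eq Nat.prime_two h1).1 h2
    have h4 := (Nat.prime_dvd_prime_iff_eq hl h1).1 hdc
    omega
  obtain ⟨ρ, hρi, -⟩ := exists_rep (F := F) (2 ^ m) hna
  -- the torus of `F₄(q)`
  obtain ⟨T, hT, hTc, hTi⟩ := f4_torus (F := F) _ hF
  have hlT : l ∣ Nat.card ↥T := by
    set q := 2 ^ (2 * m + 1) with hq
    have h1 : (q ^ 2 + 1) * (Nat.card ↥T) = q ^ 6 + 1 := by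
      have h2 : (q ^ 2 + 1) * (Nat.card ↥T + q ^ 2) = (q ^ 2 + 1) * (q ^ 4 + 1) := by rw [hTc]
      rw [mul_add] at h2
      have h3 : (q ^ 2 + 1) * (q ^ 4 + 1) = (q ^ 6 + 1) + (q ^ 2 + 1) * q ^ 2 := by ring
      rw [h3] at h2
      exact Nat.add_right_cancel h2
    rw [← h1] at hldvd
    rcases hl.dvd_mul.1 hldvd with h2 | h2
    · exfalso
      have h3 : l ∣ 2 ^ (4 * (2 * m + 1)) - 1 := by
        have h4 : 2 ^ (4 * (2 * m + 1)) - 1 = (q ^ 2 - 1) * (q ^ 2 + 1) := by
          have h5 : 2 ^ (4 * (2 * m + 1)) = (q ^ 2) ^ 2 := by rw [hq, ← pow_mul, ← pow_mul]; ring_nf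
          rw [h5]
          exact fac _
        rw [h4]
        exact h2.mul_left _
      have h4 := Nat.le_of_dvd (by omega) ((hE _).1 h3)
      omega
    · exact h2
  have hle := twF4_le_group (K := F) (2 ^ m)
  let inc := Subgroup.inclusion hle
  have hinc : Function.Injective inc := Subgroup.inclusion_injective hle
  have hcyc : ∀ P : Subgroup ↥(twistedF4 F (2 ^ m)), IsPGroup l P → IsCyclic ↥P := by
    intro P hP
    have h2 := (isolated hT hTi hlT).1 (P.map inc) (hP.map _)
    exact (P.equivMapOfInjective inc hinc).isCyclic.2 h2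
  obtain ⟨a, y, ha, hy, hfull⟩ := exists_full hl hdc hcyc
  have hord : ∀ k, l ∣ Nat.card F ^ k - 1 → 12 ∣ k := by
    intro k hk
    rw [hF', ← pow_mul] at hk
    have h1 := (hE _).1 hk
    rw [mul_comm (2 * m + 1) k] at h1
    exact Nat.dvd_of_mul_dvd_mul_right (by omega) h1
  have hy1 : orderOf (y ^ l ^ (a - 1)) = l := Cfsg.Agent.H518.SU.orderOf_pow_pred hl ha hy
  have hNN : NoNorm 2 (y ^ l ^ (a - 1)) := by
    refine noNorm_of_injective inc hinc ?_
    exact noNorm_f4_of_torus hF hl hT hTc hTi hlT hord (by rw [orderOf_injective inc hinc, hy1])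
  refine ⟨l, a, y, hl, by omega, ha, hy, ⟨?_, ⟨a, hy⟩, ?_⟩, hfull, ?_⟩
  · intro h
    rw [h, orderOf_one] at hy
    exact (Nat.one_lt_pow (by omega) hl.one_lt).ne hy
  · intro M hM hyM A B hA hB hAc hBc
    refine unique_of_centralize hM ha hy hyM (fun P => hcyc P P.isPGroup') ?_ A B hA hB hAc hBc
    intro t ht htl T' _ hT' hyT'
    by_cases h2 : t = 2
    · subst h2
      exact centralize_of_noNorm hNN hT' hyT'
    · refine Cfsg.Agent.H465.LinSolv.centralize_matrix ρ hρi hl (by omega) ha ht htl ?_ hy hT' hyT' (Or.inl ?_)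
      · intro h0
        exact h2 ((Nat.prime_dvd_prime_iff_eq Nat.prime_two ht).1 ((CharP.cast_eq_zero_iff F 2 t).1 h0)).symm
      · have h3 : l ^ a = l ^ (a - 1) * l := by rw [← pow_succ, Nat.sub_add_cancel ha]
        rw [h3]
        have h4 : 1 ≤ l ^ (a - 1) := Nat.one_le_pow _ _ hl.pos
        have h5 : 37 ≤ l := by omega
        have h6 := Nat.mul_le_mul_left (l ^ (a - 1)) h5
        omega
  · refine inner_of_card hl ?_
    rw [Cfsg.Agent.S2128.result hm hF]
    intro h
    have := Nat.le_of_dvd (by omega) h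
    omega

end Cfsg.Agent.H965.SU
end

-- part: H965/SUNum
section
set_option linter.all false
open scoped Cfsg.Agent.FastGrp

/-!
# Solvably unique elements by counting (helper965)

`y` of prime order `l` with `|C(y)| = l`: a `t`-subgroup `T ≠ 1` normalised by `y` has order `≡ 1 mod l`, and so has its
centre.
-/

set_option autoImplicit false

namespace Cfsg.Agent.H965.SU

open Subgroup Cfsg.Agent.H465.SU Cfsg.Agent.H568

variable {K : Type*} [Group K] [Finite K]

/-- no element of another prime order commutes with `y` -/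
theorem cen_of_card {l t : ℕ} (hl : l.Prime) (ht : t.Prime) (htl : t ≠ l) {y : K}
    (hc : Nat.card ↥(centralizer ({y} : Set K)) = l) (u : K) (hu : orderOf u = t) : y * u ≠ u * y := by
  intro h
  have h1 : u ∈ centralizer ({y} : Set K) := by
    rw [mem_centralizer_singleton_iff]
    exact h.symm
  have h2 := orderOf_dvd_natCard (⟨u, h1⟩ : ↥(centralizer ({y} : Set K)))
  rw [orderOf_mk, hu, hc] at h2
  exact htl ((Nat.prime_dvd_prime_iff_eq ht hl).1 h2)

theorem normal_center_map {Q : Subgroup K} {y : K} (hn : y ∈ normalizer (Q : Set K)) :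
    y ∈ normalizer (((center ↥Q).map Q.subtype : Subgroup K) : Set K) := by
  have key : ∀ g : K, g ∈ normalizer (Q : Set K) → ∀ u ∈ (center ↥Q).map Q.subtype, g * u * g⁻¹ ∈ (center ↥Q).map Q.subtype := by
    rintro g hg _ ⟨z, hz, rfl⟩
    have hgz : g * (z : K) * g⁻¹ ∈ Q := (mem_normalizer_iff.1 hg z).1 z.2
    refine ⟨⟨g * (z : K) * g⁻¹, hgz⟩, ?_, rfl⟩
    rw [SetLike.mem_coe, mem_center_iff]
    intro w
    have hw : g⁻¹ * (w : K) * g ∈ Q := by
      have := (mem_normalizer_iff.1 (inv_mem hg) (w : K)).1 w.2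
      rwa [inv_inv] at this
    have h1 := mem_center_iff.1 hz ⟨_, hw⟩
    have h2 : g⁻¹ * (w : K) * g * z = z * (g⁻¹ * (w : K) * g) := congrArg Subtype.val h1
    apply Subtype.ext
    show (w : K) * (g * z * g⁻¹) = g * z * g⁻¹ * w
    calc (w : K) * (g * z * g⁻¹) = g * (g⁻¹ * w * g * z) * g⁻¹ := by group
      _ = g * (z * (g⁻¹ * w * g)) * g⁻¹ := by rw [h2]
      _ = g * z * g⁻¹ * w := by group
  rw [mem_normalizer_iff]
  intro u
  refine ⟨key y hn u, fun h => ?_⟩
  have h1 := key y⁻¹ (inv_mem hn) _ h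
  have h2 : y⁻¹ * (y * u * y⁻¹) * y⁻¹⁻¹ = u := by group
  rwa [h2] at h1

/-- **Counting.** `y` normalises no `t`-subgroup if `t ^ k ≡ 1 mod l` only for `k = 0` or for the full power `k` of `t`,
and the Sylow `t`-subgroups are not abelian in the latter case. -/
theorem noNorm_of_num {l t : ℕ} (hl : l.Prime) (ht : t.Prime) (htl : t ≠ l) {y : K} (hy : orderOf y = l)
    (hc : Nat.card ↥(centralizer ({y} : Set K)) = l)
    (h : ∀ k, 1 ≤ k → t ^ k ∣ Nat.card K → l ∣ t ^ k - 1 →
      (∀ j, 1 ≤ j → j ≤ k → l ∣ t ^ j - 1 → j = k) ∧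
        ∀ Q : Subgroup K, Nat.card ↥Q = t ^ k → y ∈ normalizer (Q : Set K) → ∃ a ∈ Q, ∃ b ∈ Q, a * b ≠ b * a) :
    NoNorm t y := by
  have : Fact t.Prime := ⟨ht⟩
  intro Q hQ hn
  by_contra hb
  obtain ⟨k, hk⟩ := (IsPGroup.iff_card (p := t)).1 hQ
  have hk1 : 1 ≤ k := by
    rcases Nat.eq_zero_or_pos k with h0 | h0
    · exfalso
      rw [h0, pow_zero] at hk
      exact hb (Subgroup.card_eq_one.1 hk)
    · exact h0
  have h1 := dvd_card_sub_one hl hy (cen_of_card hl ht htl hc) hQ hn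
  rw [hk] at h1
  obtain ⟨h2, h3⟩ := h k hk1 (hk ▸ card_subgroup_dvd_card Q) h1
  obtain ⟨a, ha, b, hb', hab⟩ := h3 Q hk hn
  -- the centre
  have hQ1 : (center ↥Q).map Q.subtype ≤ Q := map_subtype_le _
  have hZp : IsPGroup t ↥((center ↥Q).map Q.subtype) := hQ.to_le hQ1
  have h4 := dvd_card_sub_one hl hy (cen_of_card hl ht htl hc) hZp (normal_center_map hn)
  obtain ⟨j, hj⟩ := (IsPGroup.iff_card (p := t)).1 hZp
  have hnt : Nontrivial ↥Q := (Subgroup.nontrivial_iff_ne_bot _).2 hb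
  have hZn : Nontrivial ↥(center ↥Q) := hQ.center_nontrivial
  have hj1 : 1 ≤ j := by
    rcases Nat.eq_zero_or_pos j with h0 | h0
    · exfalso
      rw [h0, pow_zero] at hj
      have h5 : Nat.card ↥(center ↥Q) = 1 := by
        rw [← hj]
        exact (Nat.card_congr (Subgroup.equivMapOfInjective _ _ Q.subtype_injective).toEquiv)
      have h6 := Subgroup.card_eq_one.1 h5
      exact (Subgroup.nontrivial_iff_ne_bot _).1 hZn h6
    · exact h0
  have hjk : j ≤ k := by
    have h5 := Subgroup.card_dvd_of_le hQ1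
    rw [hj, hk] at h5
    exact (Nat.pow_dvd_pow_iff_le_right ht.one_lt).1 h5
  rw [hj] at h4
  have hjk' := h2 j hj1 hjk h4
  have h7 : (center ↥Q).map Q.subtype = Q := eq_of_le_of_card_ge hQ1 (by rw [hj, hk, hjk'])
  apply hab
  rw [← h7] at ha
  obtain ⟨z, hz, rfl⟩ := ha
  exact (congrArg Subtype.val (mem_center_iff.1 hz ⟨b, hb'⟩)).symm

/-- Solvably unique elements of prime order with `|C(y)| = l`. -/
theorem suel_of_noNorm {l : ℕ} (hl : l.Prime) {y : K} (hy : orderOf y = l) (hl2 : ¬ l ^ 2 ∣ Nat.card K)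
    (h : ∀ t : ℕ, t.Prime → t ≠ l → t ∣ Nat.card K → NoNorm t y) : SUel l y := by
  have : Fact l.Prime := ⟨hl⟩
  refine ⟨fun h => ?_, ⟨1, by rw [hy, pow_one]⟩, fun M hM hyM A B hA hB hAc hBc => ?_⟩
  · rw [h, orderOf_one] at hy
    exact hl.one_lt.ne hy
  · refine unique_of_centralize hM le_rfl (by rw [hy, pow_one]) hyM (fun P => ?_) ?_ A B hA hB hAc hBc
    · obtain ⟨k, hk⟩ := (IsPGroup.iff_card (p := l)).1 P.isPGroup'
      have h1 : l ^ k ∣ Nat.card K := hk ▸ card_subgroup_dvd_card _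
      have h2 : k ≤ 1 := by
        by_contra h3
        exact hl2 ((pow_dvd_pow l (by omega)).trans h1)
      interval_cases k
      · have h3 : Nat.card ↥(P : Subgroup K) = 1 := by rw [hk, pow_zero]
        have := (Nat.card_eq_one_iff_unique.1 h3).1
        exact isCyclic_of_subsingleton
      · exact isCyclic_of_prime_card (p := l) (by rw [hk, pow_one])
    · intro t ht htl T _ hT hyT
      have hyN : y ∈ normalizer (T : Set K) := by
        rw [mem_normalizer_iff_map_conj_eq]
        refine eq_of_le_of_card_ge ?_ (le_of_eq (card_map_of_injective (MulAut.conj y).injective).symm)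
        rintro _ ⟨v, hv, rfl⟩
        exact hyT v hv
      have hT0 : T = ⊥ := by
        by_cases hd : t ∣ Nat.card K
        · exact h t ht htl hd T hT hyN
        · have : Fact t.Prime := ⟨ht⟩
          obtain ⟨k, hk⟩ := (IsPGroup.iff_card (p := t)).1 hT
          rcases Nat.eq_zero_or_pos k with h0 | h0
          · rw [h0, pow_zero] at hk
            exact Subgroup.card_eq_one.1 hk
          · exfalso
            exact hd ((dvd_pow_self t h0.ne').trans (hk ▸ card_subgroup_dvd_card T))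
      intro u hu
      rw [hT0, mem_bot] at hu
      rw [hu, mul_one, one_mul]

/-- nonabelian Sylow subgroups: an explicit pair -/
theorem nonab_of_pair {t k : ℕ} [Fact t.Prime] {a b : K} {Q0 : Subgroup K} (hQ0 : IsPGroup t Q0) (ha : a ∈ Q0)
    (hb : b ∈ Q0) (hab : a * b ≠ b * a) (hk : ¬ t ^ (k + 1) ∣ Nat.card K) (Q : Subgroup K)
    (hQ : Nat.card ↥Q = t ^ k) : ∃ a ∈ Q, ∃ b ∈ Q, a * b ≠ b * a := by
  have hQp : IsPGroup t Q := IsPGroup.of_card hQ
  obtain ⟨P, hP⟩ := hQp.exists_le_sylow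
  have hPQ : (P : Subgroup K) = Q := by
    refine (eq_of_le_of_card_ge hP ?_).symm
    obtain ⟨j, hj⟩ := (IsPGroup.iff_card (p := t)).1 P.isPGroup'
    have h1 : t ^ j ∣ Nat.card K := hj ▸ card_subgroup_dvd_card _
    have h2 : j ≤ k := by
      by_contra h3
      exact hk ((pow_dvd_pow t (by omega)).trans h1)
    rw [hj, hQ]
    exact Nat.pow_le_pow_right (Fact.out : t.Prime).pos h2
  obtain ⟨P0, hP0⟩ := hQ0.exists_le_sylow
  obtain ⟨g, hg⟩ := MulAction.exists_smul_eq K P0 P
  have key : ∀ u ∈ Q0, g * u * g⁻¹ ∈ Q := by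
    intro u hu
    rw [← hPQ, ← hg]
    exact ⟨u, hP0 hu, rfl⟩
  refine ⟨_, key a ha, _, key b hb, fun h => hab ?_⟩
  have h1 : g * (a * b) * g⁻¹ = g * (b * a) * g⁻¹ := by
    calc g * (a * b) * g⁻¹ = g * a * g⁻¹ * (g * b * g⁻¹) := by group
      _ = g * b * g⁻¹ * (g * a * g⁻¹) := h
      _ = g * (b * a) * g⁻¹ := by group
  exact mul_left_cancel (mul_right_cancel h1)

end Cfsg.Agent.H965.SU
end
end
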