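import Cfsg.Agent.H465.OEGrp_mg_m3
import Cfsg.Agent.AutOrth.Main
import Cfsg.Agent.H521.OddFixOrth
import Cfsg.Agent.H958.Wt
import Cfsg.Agent.H955.QClass
import Cfsg.Agent.ClassicalGeometry.WittQuad
import Cfsg.Agent.H465.SULin_m3
import Cfsg.Agent.H965.SURow_m3
import Cfsg.Agent.AutOrth.Final
import Cfsg.Agent.H989.OutOrth.Four
import Mathlib.GroupTheory.GroupAction.Quotient
import Mathlib.GroupTheory.Index
import Mathlib.GroupTheory.OrderOfElement
import Mathlib.GroupTheory.Perm.Basic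
import Mathlib.Data.Fintype.Perm
import Mathlib.Tactic
import Mathlib
import Cfsg.Agent.ClassicalGeometry.PSUAutMain
import Cfsg.Agent.S0822
import Cfsg.Agent.FastGrp
import Cfsg.Agent.Prune
set_option linter.all false

section
prune_inst 0x7fffe9fbbbf83bffdfff7e7fa698cffc3b911fffe6dff94bffe06bff1bff031009e5abad89e030fe1eb7421410b87853f9ffeeffe26bd87ffffd1ff45ffbee4ff5f7bd0851de8cb40fbc0fff03f0778e7f3fffffffffffffffffffffffffffaeffbffffffffd

-- part: H465/OEGam
section
prune_inst 0x2000001c00000000000000000000002000000000000000000000000000006005402000000000140a00000000000000010000100000000000000000000000000000000201000000000006000000000000000000000000000000000000000000000000000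
set_option linter.all false
open scoped Cfsg.Agent.FastGrp

-- part: H462/OEight/Singer
section
/-!
# `PΩ⁺₈(q)`, `r = q² + q + 1` prime: Singer elements (helper462, for S3853, S3943, S4384, S3817; task G1)

`exists_singer` : every frame has a Singer element.
-/

set_option autoImplicit false
set_option linter.unusedSectionVars false

namespace Cfsg.Agent.H462.OEight

open Module QuadraticMap Cfsg.Agent.LieClassical.OrthCore Cfsg.Agent.LieClassical.OrthTrans
  Cfsg.Agent.ClassicalGeometry.OrthAut1 Cfsg.Agent.LieClassical.QuadForms Cfsg.Agent.ClassicalGeometry.TrialityOct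
  Cfsg.Agent.ClassicalGeometry.Triality Cfsg.Agent.H465.OEight

section Linear

variable {F : Type*} [Field F] [Fintype F] {U : Type*} [AddCommGroup U] [Module F U]

/-- a linear map of order `r` of a 3-space has no non-zero fixed vector -/
theorem no_fixed {r : ℕ} (hr : r = Fintype.card F ^ 2 + Fintype.card F + 1) (hp : r.Prime)
    (hU : finrank F U = 3) {T : U ≃ₗ[F] U} (hT : T ^ r = 1) (hT1 : T ≠ 1) {w : U} (hw : T w = w) : w = 0 := by
  have hfd : FiniteDimensional F U := FiniteDimensional.of_finrank_pos (by rw [hU]; norm_num)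
  have hfin : Finite U := Module.finite_of_finite F
  have : Fact r.Prime := ⟨hp⟩
  have hq2 : 2 ≤ Fintype.card F := Fintype.one_lt_card
  set q := Fintype.card F with hq
  -- the fixed space
  let K : Submodule F U := LinearMap.ker (T.toLinearMap - LinearMap.id)
  have hK : ∀ u : U, u ∈ K ↔ T u = u := by
    intro u
    rw [LinearMap.mem_ker, LinearMap.sub_apply, sub_eq_zero]
    rfl
  have hPG : IsPGroup r ↥(Subgroup.zpowers T) := by
    have hf : orderOf T = r := orderOf_eq_prime hT hT1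
    exact IsPGroup.of_card (n := 1) (by rw [Nat.card_zpowers, hf, pow_one])
  have h1 := hPG.card_modEq_card_fixedPoints U
  have h2 : Nat.card (MulAction.fixedPoints ↥(Subgroup.zpowers T) U) = Nat.card K := by
    refine Nat.card_congr (Equiv.subtypeEquivRight fun u => ?_)
    rw [MulAction.mem_fixedPoints, hK]
    constructor
    · intro h
      exact h ⟨T, Subgroup.mem_zpowers T⟩
    · rintro h ⟨_, k, rfl⟩
      have h3 : T ∈ MulAction.stabilizer (U ≃ₗ[F] U) u := h
      exact zpow_mem h3 k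
  rw [h2, Module.natCard_eq_pow_finrank (K := F) (V := U), Module.natCard_eq_pow_finrank (K := F) (V := K), hU,
    Nat.card_eq_fintype_card, ← hq] at h1
  have hd : finrank F K ≤ 3 := hU ▸ K.finrank_le
  have hq3 : q ^ 3 ≡ 1 [MOD r] := by
    have e : q ^ 3 = 1 + r * (q - 1) := by
      obtain ⟨n, hn⟩ : ∃ n, q = n + 1 := ⟨q - 1, by omega⟩
      rw [hr, hn, Nat.add_sub_cancel]
      ring
    rw [e]
    exact (Nat.modEq_iff_dvd' (by omega)).2 ⟨q - 1, by omega⟩ |>.symm
  have h4 : q ^ finrank F K ≡ 1 [MOD r] := h1.symm.trans hq3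
  have h5 : finrank F K = 0 ∨ finrank F K = 1 ∨ finrank F K = 2 ∨ finrank F K = 3 := by omega
  rcases h5 with h5 | h5 | h5 | h5
  · have h6 : K = ⊥ := Submodule.finrank_eq_zero.1 h5
    have h7 : w ∈ K := (hK w).2 hw
    rw [h6] at h7
    exact h7
  · exfalso
    rw [h5, pow_one] at h4
    have h6 := (Nat.modEq_iff_dvd' (by omega)).1 h4.symm
    have h7 := Nat.le_of_dvd (by omega) h6
    have h8 := Nat.sub_le q 1
    linarith only [hr, h7, h8, _root_.sq_nonneg (↑q : ℤ)]
  · exfalso
    rw [h5] at h4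
    have h6 := (Nat.modEq_iff_dvd' (by nlinarith only [hq2])).1 h4.symm
    have h7 : q ^ 2 - 1 = (q - 1) * (q + 1) := by
      obtain ⟨n, hn⟩ : ∃ n, q = n + 1 := ⟨q - 1, by omega⟩
      rw [hn, Nat.add_sub_cancel]
      have : (n + 1) ^ 2 = n * (n + 1 + 1) + 1 := by ring
      omega
    rw [h7] at h6
    rcases hp.dvd_mul.1 h6 with h8 | h8
    · have h9 := Nat.le_of_dvd (by omega) h8
      have h10 := Nat.sub_le q 1
      linarith only [hr, h9, h10, _root_.sq_nonneg (↑q : ℤ)]
    · have h9 := Nat.le_of_dvd (by omega) h8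
      nlinarith only [hr, hq2, h9]
  · exfalso
    apply hT1
    have h6 : K = ⊤ := Submodule.eq_top_of_finrank_eq (by rw [h5, hU])
    ext u
    exact (hK u).1 (h6 ▸ Submodule.mem_top)

/-- a linear map of order `r = q² + q + 1` of a 3-space is transitive on the points -/
theorem transitive {r : ℕ} (hr : r = Fintype.card F ^ 2 + Fintype.card F + 1) (hp : r.Prime)
    (hU : finrank F U = 3) {T : U ≃ₗ[F] U} (hT : T ^ r = 1) (hT1 : T ≠ 1) {w w' : U} (hw : w ≠ 0) (hw' : w' ≠ 0) :
    ∃ (k : ℕ) (a : F), (T ^ k) w = a • w' := by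
  classical
  have hfd : FiniteDimensional F U := FiniteDimensional.of_finrank_pos (by rw [hU]; norm_num)
  have hfin : Finite U := Module.finite_of_finite F
  have : Fintype U := Fintype.ofFinite U
  have : Fact r.Prime := ⟨hp⟩
  have hq2 : 2 ≤ Fintype.card F := Fintype.one_lt_card
  have hord : orderOf T = r := orderOf_eq_prime hT hT1
  -- powers have no eigenvectors
  have key : ∀ (j : ℕ) (c : F), (T ^ j) w = c • w → r ∣ j := by
    intro j c hj
    by_contra hnd
    have hc : c ≠ 0 := by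
      rintro rfl
      rw [zero_smul] at hj
      exact hw ((T ^ j).map_eq_zero_iff.1 hj)
    have h1 : ∀ n : ℕ, ((T ^ j) ^ n) w = c ^ n • w := by
      intro n
      induction n with
      | zero => rw [pow_zero, pow_zero, one_smul]; rfl
      | succ n ih =>
        rw [pow_succ', pow_succ]
        change (T ^ j) (((T ^ j) ^ n) w) = _
        rw [ih, map_smul, hj, smul_smul]
    have h2 := h1 (Fintype.card F - 1)
    rw [FiniteField.pow_card_sub_one_eq_one c hc, one_smul, ← pow_mul] at h2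
    -- `T` is a power of it
    have hcop : Nat.Coprime r (j * (Fintype.card F - 1)) := by
      rw [hp.coprime_iff_not_dvd, hp.dvd_mul, not_or]
      refine ⟨hnd, fun h3 => ?_⟩
      have h4 := Nat.le_of_dvd (by omega) h3
      have h5 := Nat.sub_le (Fintype.card F) 1
      linarith only [hr, h4, h5, _root_.sq_nonneg (↑(Fintype.card F) : ℤ)]
    obtain ⟨m, -, hm⟩ := Nat.exists_mul_mod_eq_one_of_coprime hcop.symm hp.one_lt
    have h3 : T = (T ^ (j * (Fintype.card F - 1))) ^ m := by
      rw [← pow_mul, ← pow_mod_orderOf T (j * (Fintype.card F - 1) * m), hord, hm, pow_one]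
    have h4 : ∀ n : ℕ, ((T ^ (j * (Fintype.card F - 1))) ^ n) w = w := by
      intro n
      induction n with
      | zero => rfl
      | succ n ih =>
        rw [pow_succ']
        change (T ^ (j * (Fintype.card F - 1))) (((T ^ (j * (Fintype.card F - 1))) ^ n) w) = _
        rw [ih, h2]
    have h5 : T w = w := by
      conv_lhs => rw [h3]
      exact h4 m
    exact hw (no_fixed hr hp hU hT hT1 h5)
  let f : Fˣ × Fin r → {u : U // u ≠ 0} := fun p => ⟨(p.1 : F) • (T ^ (p.2 : ℕ)) w, by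
    intro h
    rcases smul_eq_zero.1 h with h1 | h1
    · exact p.1.ne_zero h1
    · exact hw ((T ^ (p.2 : ℕ)).map_eq_zero_iff.1 h1)⟩
  have hinj : Function.Injective f := by
    have aux : ∀ (a b : Fˣ) (k l : Fin r), (k : ℕ) ≤ l → f (a, k) = f (b, l) → (a, k) = (b, l) := by
      intro a b k l hkl h
      have h1 : (a : F) • (T ^ (k : ℕ)) w = (b : F) • (T ^ (l : ℕ)) w := congrArg Subtype.val h
      have h2 : (T ^ ((l : ℕ) - k)) w = ((b : F)⁻¹ * a) • w := by
        apply (T ^ (k : ℕ)).injective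
        have h3 : (T ^ (k : ℕ)) ((T ^ ((l : ℕ) - k)) w) = (T ^ (l : ℕ)) w := by
          change (T ^ (k : ℕ) * T ^ ((l : ℕ) - k)) w = _
          rw [← pow_add, Nat.add_sub_cancel' hkl]
        rw [h3, map_smul, mul_smul, h1, smul_smul, inv_mul_cancel₀ b.ne_zero, one_smul]
      have h3 := key _ _ h2
      have h4 : (l : ℕ) - k = 0 := Nat.eq_zero_of_dvd_of_lt h3 (by omega)
      have h5 : k = l := Fin.ext (by omega)
      subst h5
      have h6 : (a : F) = b := by
        have h7 : ((a : F) - b) • (T ^ (k : ℕ)) w = 0 := by rw [sub_smul, h1, sub_self]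
        rcases smul_eq_zero.1 h7 with h8 | h8
        · exact sub_eq_zero.1 h8
        · exact absurd ((T ^ (k : ℕ)).map_eq_zero_iff.1 h8) hw
      rw [Units.ext h6]
    rintro ⟨a, k⟩ ⟨b, l⟩ h
    rcases le_total (k : ℕ) l with h1 | h1
    · exact aux a b k l h1 h
    · exact (aux b a l k h1 h.symm).symm
  have hcard : Fintype.card (Fˣ × Fin r) = Fintype.card {u : U // u ≠ 0} := by
    rw [Fintype.card_prod, Fintype.card_units, Fintype.card_fin, Fintype.card_subtype_compl,
      Fintype.card_subtype_eq, Module.card_eq_pow_finrank (K := F) (V := U), hU]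
    obtain ⟨n, hn⟩ : ∃ n, Fintype.card F = n + 1 := ⟨Fintype.card F - 1, by omega⟩
    rw [hr, hn, Nat.add_sub_cancel]
    have e : (n + 1) ^ 3 = n * ((n + 1) ^ 2 + (n + 1) + 1) + 1 := by ring
    omega
  obtain ⟨⟨a, k⟩, hk⟩ := ((Fintype.bijective_iff_injective_and_card f).2 ⟨hinj, hcard⟩).2 ⟨w', hw'⟩
  refine ⟨k, (a : F)⁻¹, ?_⟩
  have h1 : (a : F) • (T ^ (k : ℕ)) w = w' := congrArg Subtype.val hk
  rw [← h1, smul_smul, inv_mul_cancel₀ a.ne_zero, one_smul]

/-- there is a linear map of order `r = q² + q + 1` of a 3-space -/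
theorem exists_order {r : ℕ} (hr : r = Fintype.card F ^ 2 + Fintype.card F + 1) (hp : r.Prime)
    (hU : finrank F U = 3) : ∃ T : U ≃ₗ[F] U, orderOf T = r := by
  classical
  have hfd : FiniteDimensional F U := FiniteDimensional.of_finrank_pos (by rw [hU]; norm_num)
  have hfin : Finite U := Module.finite_of_finite F
  have : Fact r.Prime := ⟨hp⟩
  have hq2 : 2 ≤ Fintype.card F := Fintype.one_lt_card
  let b : Basis (Fin 3) F U := finBasisOfFinrankEq F U hU
  -- the group of units of matrices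
  let e : (Matrix (Fin 3) (Fin 3) F)ˣ ≃* (U ≃ₗ[F] U) :=
    (Units.mapEquiv (LinearMap.toMatrixAlgEquiv b).toMulEquiv.symm).trans (LinearMap.GeneralLinearGroup.generalLinearEquiv F U)
  have hcard : Nat.card (GL (Fin 3) F) = ∏ i : Fin 3, (Fintype.card F ^ 3 - Fintype.card F ^ (i : ℕ)) := by
    have := Matrix.card_GL_field (𝔽 := F) 3
    exact this
  have hdvd : r ∣ Nat.card (GL (Fin 3) F) := by
    rw [hcard]
    refine Dvd.dvd.trans ?_ (Finset.dvd_prod_of_mem _ (Finset.mem_univ (0 : Fin 3)))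
    obtain ⟨n, hn⟩ : ∃ n, Fintype.card F = n + 1 := ⟨Fintype.card F - 1, by omega⟩
    rw [hr, hn]
    refine ⟨n, ?_⟩
    have e : (n + 1) ^ 3 = ((n + 1) ^ 2 + (n + 1) + 1) * n + 1 := by ring
    rw [Fin.val_zero, pow_zero]
    omega
  obtain ⟨A, hA⟩ := exists_prime_orderOf_dvd_card' (G := GL (Fin 3) F) r hdvd
  exact ⟨e A, by rw [MulEquiv.orderOf_eq, hA]⟩

end Linear

section Frame

variable {F : Type*} [Field F] {c₁ c₂ : V8 F} {W₁ W₂ : Submodule F (V8 F)}

/-- the coordinates -/
def coord (c₁ c₂ : V8 F) (W₁ W₂ : Submodule F (V8 F)) : (F × F) × (W₁ × W₂) →ₗ[F] V8 F :=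
  ((LinearMap.toSpanSingleton F (V8 F) c₁).coprod (LinearMap.toSpanSingleton F (V8 F) c₂)).coprod
    (W₁.subtype.coprod W₂.subtype)

theorem coord_apply (a b : F) (u : W₁) (v : W₂) :
    coord c₁ c₂ W₁ W₂ ((a, b), (u, v)) = a • c₁ + b • c₂ + ((u : V8 F) + v) := rfl

theorem polar_self {v : V8 F} (hv : plusForm 4 F v = 0) : polar (plusForm 4 F) v v = 0 := by
  rw [QuadraticMap.polar_self, hv, smul_zero]

theorem coord_inj (h : Frame c₁ c₂ W₁ W₂) : Function.Injective (coord c₁ c₂ W₁ W₂) := by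
  rw [← LinearMap.ker_eq_bot, eq_bot_iff]
  rintro ⟨⟨a, b⟩, ⟨u, v⟩⟩ h0
  rw [LinearMap.mem_ker, coord_apply] at h0
  have e1 : polar (plusForm 4 F) c₂ (a • c₁ + b • c₂ + ((u : V8 F) + v)) = a := by
    rw [polar_add_right, polar_add_right, polar_add_right, polar_smul_right, polar_smul_right, polar_self h.q₂,
      (h.perp₁ u u.2).2, (h.perp₂ v v.2).2, polar_comm, h.pair]
    simp
  have e2 : polar (plusForm 4 F) c₁ (a • c₁ + b • c₂ + ((u : V8 F) + v)) = b := by
    rw [polar_add_right, polar_add_right, polar_add_right, polar_smul_right, polar_smul_right, polar_self h.q₁,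
      (h.perp₁ u u.2).1, (h.perp₂ v v.2).1, h.pair]
    simp
  rw [h0] at e1 e2
  have ha : a = 0 := by rw [← e1, polar_zero_right]
  have hb : b = 0 := by rw [← e2, polar_zero_right]
  subst ha hb
  rw [zero_smul, zero_smul, add_zero, zero_add] at h0
  have hu : (u : V8 F) ∈ W₁ ⊓ W₂ := by
    refine ⟨u.2, ?_⟩
    rw [eq_neg_of_add_eq_zero_left h0]
    exact W₂.neg_mem v.2
  rw [h.disj, Submodule.mem_bot] at hu
  rw [hu, zero_add] at h0
  rw [Submodule.mem_bot]
  exact Prod.ext rfl (Prod.ext (Subtype.ext hu) (Subtype.ext h0))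

theorem finrank_src (h : Frame c₁ c₂ W₁ W₂) : finrank F ((F × F) × (W₁ × W₂)) = finrank F (V8 F) := by
  rw [Module.finrank_prod, Module.finrank_prod, Module.finrank_prod, finrank_self, h.d₁, h.d₂,
    Module.finrank_fintype_fun_eq_card]
  simp

/-- the coordinates as an equivalence -/
noncomputable def coordE (h : Frame c₁ c₂ W₁ W₂) : ((F × F) × (W₁ × W₂)) ≃ₗ[F] V8 F :=
  LinearEquiv.ofInjectiveOfFinrankEq (coord c₁ c₂ W₁ W₂) (coord_inj h) (finrank_src h)

theorem coordE_apply (h : Frame c₁ c₂ W₁ W₂) (a b : F) (u : W₁) (v : W₂) :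
    coordE h ((a, b), (u, v)) = a • c₁ + b • c₂ + ((u : V8 F) + v) := rfl

/-- the quadratic form in coordinates -/
theorem Q_coord (h : Frame c₁ c₂ W₁ W₂) (a b : F) (u : W₁) (v : W₂) :
    plusForm 4 F (a • c₁ + b • c₂ + ((u : V8 F) + v)) = a * b + polar (plusForm 4 F) u v := by
  (rewrite [Q_add, Q_add (a • c₁), Q_add (u : V8 F), QuadraticMap.map_smul, QuadraticMap.map_smul, h.q₁, h.q₂, h.ts₁ u u.2, h.ts₂ v v.2]; simp only [polar_smul_left]; simp only [polar_smul_right]; rewrite [h.pair]; simp only [polar_add_left]; (conv => enter [@2, @6, @5]; rw [polar_smul_left]); simp only [polar_smul_left]; (conv => enter [@2, @6, @5, @6]; rw [polar_add_right]); simp only [polar_add_right]; rewrite [(h.perp₁ u u.2).1, (h.perp₁ u u.2).2, (h.perp₂ v v.2).1, (h.perp₂ v v.2).2])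
  simp only [smul_eq_mul]
  ring

/-- the pairing of `W₂` with `W₁` -/
def pairing (W₁ W₂ : Submodule F (V8 F)) : W₂ →ₗ[F] Dual F W₁ :=
  ((polarBilin (plusForm 4 F)).compl₁₂ W₁.subtype W₂.subtype).flip

theorem pairing_apply (u : W₁) (v : W₂) : pairing W₁ W₂ v u = polar (plusForm 4 F) u v := rfl

theorem pairing_inj (h : Frame c₁ c₂ W₁ W₂) : Function.Injective (pairing W₁ W₂) := by
  rw [← LinearMap.ker_eq_bot, eq_bot_iff]
  intro v hv
  rw [LinearMap.mem_ker] at hv
  rw [Submodule.mem_bot]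
  apply Subtype.ext
  apply nondeg8
  intro y
  obtain ⟨⟨⟨a, b⟩, ⟨u, v'⟩⟩, rfl⟩ := (coordE h).surjective y
  rw [coordE_apply, polar_add_right, polar_add_right, polar_add_right, polar_smul_right, polar_smul_right,
    polar_comm _ _ c₁, (h.perp₂ v v.2).1, polar_comm _ _ c₂, (h.perp₂ v v.2).2, h.ts₂.polar v.2 v'.2, polar_comm,
    ← pairing_apply, hv]
  simp

/-- the pairing as an equivalence -/
noncomputable def pairE (h : Frame c₁ c₂ W₁ W₂) : W₂ ≃ₗ[F] Dual F W₁ :=
  LinearEquiv.ofInjectiveOfFinrankEq (pairing W₁ W₂) (pairing_inj h)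
    (by rw [Subspace.dual_finrank_eq, h.d₁, h.d₂])

theorem pairE_apply (h : Frame c₁ c₂ W₁ W₂) (u : W₁) (v : W₂) : pairE h v u = polar (plusForm 4 F) u v := rfl

/-- the dual map -/
noncomputable def dualE (h : Frame c₁ c₂ W₁ W₂) (A : W₁ ≃ₗ[F] W₁) : W₂ ≃ₗ[F] W₂ :=
  ((pairE h).trans A.symm.dualMap).trans (pairE h).symm

theorem polar_dual (h : Frame c₁ c₂ W₁ W₂) (A : W₁ ≃ₗ[F] W₁) (u : W₁) (v : W₂) :
    polar (plusForm 4 F) (A u : V8 F) (dualE h A v) = polar (plusForm 4 F) (u : V8 F) v := by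
  rw [← pairE_apply h]
  have h1 : pairE h (dualE h A v) = A.symm.dualMap (pairE h v) := by
    unfold dualE
    rw [LinearEquiv.trans_apply, LinearEquiv.trans_apply, LinearEquiv.apply_symm_apply]
  rw [h1, LinearEquiv.dualMap_apply, LinearEquiv.symm_apply_apply, pairE_apply]

/-- the isometry -/
noncomputable def ext (h : Frame c₁ c₂ W₁ W₂) (A : W₁ ≃ₗ[F] W₁) : V8 F ≃ₗ[F] V8 F :=
  ((coordE h).symm.trans ((LinearEquiv.refl F (F × F)).prodCongr (A.prodCongr (dualE h A)))).trans (coordE h)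

theorem ext_coord (h : Frame c₁ c₂ W₁ W₂) (A : W₁ ≃ₗ[F] W₁) (a b : F) (u : W₁) (v : W₂) :
    ext h A (a • c₁ + b • c₂ + ((u : V8 F) + v)) = a • c₁ + b • c₂ + ((A u : V8 F) + dualE h A v) := by
  rw [← coordE_apply h]
  unfold ext
  rw [LinearEquiv.trans_apply, LinearEquiv.trans_apply, LinearEquiv.symm_apply_apply]
  rfl

theorem ext_mem_O (h : Frame c₁ c₂ W₁ W₂) (A : W₁ ≃ₗ[F] W₁) : ext h A ∈ O (plusForm 4 F) := by
  intro y
  obtain ⟨⟨⟨a, b⟩, ⟨u, v⟩⟩, rfl⟩ := (coordE h).surjective y
  rw [coordE_apply, ext_coord, Q_coord h, Q_coord h, polar_dual]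

theorem ext_c₁ (h : Frame c₁ c₂ W₁ W₂) (A : W₁ ≃ₗ[F] W₁) : ext h A c₁ = c₁ := by
  have h1 := ext_coord h A 1 0 0 0
  simpa using h1

theorem ext_c₂ (h : Frame c₁ c₂ W₁ W₂) (A : W₁ ≃ₗ[F] W₁) : ext h A c₂ = c₂ := by
  have h1 := ext_coord h A 0 1 0 0
  simpa using h1

theorem ext_W₁ (h : Frame c₁ c₂ W₁ W₂) (A : W₁ ≃ₗ[F] W₁) (u : W₁) : ext h A u = A u := by
  have h1 := ext_coord h A 0 0 u 0
  simpa using h1

theorem ext_W₂ (h : Frame c₁ c₂ W₁ W₂) (A : W₁ ≃ₗ[F] W₁) (v : W₂) : ext h A v = dualE h A v := by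
  have h1 := ext_coord h A 0 0 0 v
  simpa using h1

theorem ext_pow_W₁ (h : Frame c₁ c₂ W₁ W₂) (A : W₁ ≃ₗ[F] W₁) (u : W₁) (k : ℕ) : (ext h A ^ k) u = ((A ^ k) u : W₁) := by
  induction k with
  | zero => rfl
  | succ k ih =>
    rw [pow_succ', pow_succ']
    change ext h A ((ext h A ^ k) u) = (A ((A ^ k) u) : W₁)
    rw [ih, ext_W₁]

theorem ext_pow_W₂ (h : Frame c₁ c₂ W₁ W₂) (A : W₁ ≃ₗ[F] W₁) (v : W₂) (k : ℕ) :
    (ext h A ^ k) v = ((dualE h A ^ k) v : W₂) := by
  induction k with
  | zero => rfl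
  | succ k ih =>
    rw [pow_succ', pow_succ']
    change ext h A ((ext h A ^ k) v) = (dualE h A ((dualE h A ^ k) v) : W₂)
    rw [ih, ext_W₂]

theorem dualE_one (h : Frame c₁ c₂ W₁ W₂) : dualE h 1 = 1 := by
  apply LinearEquiv.ext
  intro v
  apply (pairE h).injective
  ext u
  rw [pairE_apply, pairE_apply]
  exact polar_dual h 1 u v

theorem dualE_mul (h : Frame c₁ c₂ W₁ W₂) (A B : W₁ ≃ₗ[F] W₁) : dualE h (A * B) = dualE h A * dualE h B := by
  apply LinearEquiv.ext
  intro v
  apply (pairE h).injective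
  ext u
  obtain ⟨u, rfl⟩ := (A * B).surjective u
  rw [pairE_apply, pairE_apply, polar_dual]
  change _ = polar (plusForm 4 F) (A (B u) : V8 F) (dualE h A (dualE h B v))
  rw [polar_dual, polar_dual]

theorem dualE_pow (h : Frame c₁ c₂ W₁ W₂) (A : W₁ ≃ₗ[F] W₁) (k : ℕ) : dualE h (A ^ k) = dualE h A ^ k := by
  induction k with
  | zero => rw [pow_zero, pow_zero, dualE_one]
  | succ k ih => rw [pow_succ', pow_succ', dualE_mul, ih]

theorem dualE_ne_one (h : Frame c₁ c₂ W₁ W₂) {A : W₁ ≃ₗ[F] W₁} (hA : A ≠ 1) : dualE h A ≠ 1 := by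
  intro h1
  apply hA
  apply LinearEquiv.ext
  intro u
  have h2 : ∀ v : W₂, pairE h v (A u - u) = 0 := by
    intro v
    have h3 := polar_dual h A u v
    rw [h1] at h3
    rw [map_sub, pairE_apply, pairE_apply, sub_eq_zero]
    exact h3
  have h3 : ∀ φ : Dual F W₁, φ (A u - u) = 0 := by
    intro φ
    obtain ⟨v, rfl⟩ := (pairE h).surjective φ
    exact h2 v
  exact sub_eq_zero.1 ((Module.forall_dual_apply_eq_zero_iff F _).1 h3)

theorem ext_pow_one (h : Frame c₁ c₂ W₁ W₂) {A : W₁ ≃ₗ[F] W₁} {r : ℕ} (hA : A ^ r = 1) : ext h A ^ r = 1 := by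
  have hc₁ : ∀ k : ℕ, (ext h A ^ k) c₁ = c₁ := by
    intro k
    induction k with
    | zero => rfl
    | succ k ih =>
      rw [pow_succ']
      change ext h A ((ext h A ^ k) c₁) = c₁
      rw [ih, ext_c₁]
  have hc₂ : ∀ k : ℕ, (ext h A ^ k) c₂ = c₂ := by
    intro k
    induction k with
    | zero => rfl
    | succ k ih =>
      rw [pow_succ']
      change ext h A ((ext h A ^ k) c₂) = c₂
      rw [ih, ext_c₂]
  apply LinearEquiv.ext
  intro y
  obtain ⟨⟨⟨a, b⟩, ⟨u, v⟩⟩, rfl⟩ := (coordE h).surjective y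
  rw [coordE_apply, map_add, map_add, map_add, map_smul, map_smul, hc₁, hc₂, ext_pow_W₁, ext_pow_W₂, hA,
    ← dualE_pow, hA, dualE_one]
  rfl

/-- **G1**: every frame has a Singer element -/
theorem exists_singer [Fintype F] {r : ℕ} (hr : r = Fintype.card F ^ 2 + Fintype.card F + 1) (hp : r.Prime)
    (h : Frame c₁ c₂ W₁ W₂) : ∃ g, Singer r g c₁ c₂ W₁ W₂ := by
  have : Fact r.Prime := ⟨hp⟩
  obtain ⟨A, hA⟩ := exists_order hr hp h.d₁
  have hA1 : A ≠ 1 := by
    rintro rfl
    rw [orderOf_one] at hA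
    exact hp.one_lt.ne hA
  have hAr : A ^ r = 1 := by rw [← hA, pow_orderOf_eq_one]
  have hg := ext_pow_one h hAr
  have hg1 : ext h A ≠ 1 := by
    intro h1
    apply hA1
    apply LinearEquiv.ext
    intro u
    have h2 := ext_W₁ h A u
    rw [h1] at h2
    exact Subtype.ext h2.symm
  have hD1 := dualE_ne_one h hA1
  have hDr : dualE h A ^ r = 1 := by rw [← dualE_pow, hAr, dualE_one]
  refine ⟨ext h A, ?_, orderOf_eq_prime hg hg1, ext_c₁ h A, ext_c₂ h A, ?_, ?_, ?_, ?_⟩
  · -- an odd order isometry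
    obtain ⟨k, hk⟩ : ∃ k, r + 1 = k + k := by
      have hodd : Odd r := by
        rw [hr]
        have h1 : Even (Fintype.card F ^ 2 + Fintype.card F) := by
          rw [pow_two, ← Nat.mul_succ]
          exact Nat.even_mul_succ_self _
        exact h1.add_one
      obtain ⟨m, hm⟩ := hodd
      exact ⟨m + 1, by omega⟩
    have h1 : ext h A = (ext h A ^ k) * (ext h A ^ k) := by
      rw [← pow_add, ← hk, pow_succ, hg, one_mul]
    rw [h1]
    exact Cfsg.Agent.H521.OddFixOrth.sq_mem_E (Cfsg.Agent.AutOrth.Main.good_plus (by norm_num))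
      (Subgroup.pow_mem _ (ext_mem_O h A) k)
  · intro w hw
    rw [ext_W₁ h A ⟨w, hw⟩]
    exact (A ⟨w, hw⟩).2
  · intro w hw
    rw [ext_W₂ h A ⟨w, hw⟩]
    exact (dualE h A ⟨w, hw⟩).2
  · intro w hw w' hw' h0 h0'
    obtain ⟨k, a, h1⟩ := transitive hr hp h.d₁ hAr hA1 (w := ⟨w, hw⟩) (w' := ⟨w', hw'⟩)
      (fun h => h0 (congrArg Subtype.val h)) (fun h => h0' (congrArg Subtype.val h))
    refine ⟨k, a, ?_⟩
    rw [ext_pow_W₁ h A ⟨w, hw⟩ k, h1]
    rfl
  · intro w hw w' hw' h0 h0'
    obtain ⟨k, a, h1⟩ := transitive hr hp h.d₂ hDr hD1 (w := ⟨w, hw⟩) (w' := ⟨w', hw'⟩)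
      (fun h => h0 (congrArg Subtype.val h)) (fun h => h0' (congrArg Subtype.val h))
    refine ⟨k, a, ?_⟩
    rw [ext_pow_W₂ h A ⟨w, hw⟩ k, h1]
    rfl

end Frame

end Cfsg.Agent.H462.OEight
end

-- part: H184/OEScal
section
/-!
# Similitudes acting as scalars on `u^⊥ / u` (task 1681, G2; helper184)
-/

set_option autoImplicit false

namespace Cfsg.Agent.H184.OEScal

open Module QuadraticMap Cfsg.Agent.LieClassical.OrthCore Cfsg.Agent.LieClassical.OrthTrans
  Cfsg.Agent.ClassicalGeometry.OrthAut1 Cfsg.Agent.LieClassical.QuadForms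
  Cfsg.Agent.ClassicalGeometry.TrialityOct Cfsg.Agent.ClassicalGeometry.Triality
  Cfsg.Agent.H465.OEight

variable {F : Type*} [Field F]

theorem q8_apply (v : V8 F) : plusForm 4 F v = v (.inl 0) * v (.inr 0) + v (.inl 1) * v (.inr 1) +
    v (.inl 2) * v (.inr 2) + v (.inl 3) * v (.inr 3) := by
  rw [plusForm_apply, Fin.sum_univ_four]

theorem p8_apply (u v : V8 F) : polar (plusForm 4 F) u v =
    (u (.inl 0) * v (.inr 0) + v (.inl 0) * u (.inr 0)) +
    (u (.inl 1) * v (.inr 1) + v (.inl 1) * u (.inr 1)) +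
    (u (.inl 2) * v (.inr 2) + v (.inl 2) * u (.inr 2)) +
    (u (.inl 3) * v (.inr 3) + v (.inl 3) * u (.inr 3)) := by
  rw [polar_plusForm, Fin.sum_univ_four]

/-- basis vectors -/
def e0 (F : Type*) [Field F] : V8 F := Sum.elim ![1, 0, 0, 0] ![0, 0, 0, 0]

theorem polar_e0 (v : V8 F) : polar (plusForm 4 F) (e0 F) v = v (.inr 0) := by
  rw [p8_apply]
  simp [e0]

/-- the totally singular space `⟨e₀, f₁, f₂ + t e₃, f₃ - t e₂⟩` -/
def Lt (t : F) : (Fin 4 → F) →ₗ[F] V8 F where
  toFun a := Sum.elim ![a 0, 0, -(t * a 3), t * a 2] ![0, a 1, a 2, a 3]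
  map_add' a b := by
    ext (i | i) <;> (revert i; simp only [mul_add, _root_.Fin.forall_fin_succ, Fin.isValue, _root_.Pi.add_apply, _root_.neg_add_rev, _root_.Sum.elim_inl, _root_.Matrix.cons_val_zero, _root_.Matrix.cons_val_succ, _root_.add_zero, _root_.Matrix.cons_val_fin_one, _root_.implies_true, _root_.and_true, _root_.true_and, _root_.Sum.elim_inr, _root_.and_self]) <;> (repeat' with_reducible apply And.intro) <;> ring
  map_smul' c a := by
    ext (i | i) <;> (revert i; simp only [_root_.Fin.forall_fin_succ, Fin.isValue, _root_.Pi.smul_apply, _root_.smul_eq_mul, _root_.Sum.elim_inl, _root_.RingHom.id_apply, _root_.Matrix.cons_val_zero, _root_.Matrix.cons_val_succ, _root_.MulZeroClass.mul_zero, _root_.mul_neg, _root_.neg_inj, _root_.Matrix.cons_val_fin_one, _root_.forall_const, _root_.true_and, _root_.Sum.elim_inr, _root_.implies_true, _root_.and_self]) <;> (repeat' with_reducible apply And.intro) <;> ring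

/-- `⟨e₀, e₁, e₂, e₃⟩` -/
def Le : (Fin 4 → F) →ₗ[F] V8 F where
  toFun a := Sum.elim ![a 0, a 1, a 2, a 3] ![0, 0, 0, 0]
  map_add' a b := by
    ext (i | i) <;> (revert i; simp only [_root_.Fin.forall_fin_succ, Fin.isValue, _root_.Pi.add_apply, _root_.Sum.elim_inl, _root_.Matrix.cons_val_zero, _root_.Matrix.cons_val_succ, _root_.Matrix.cons_val_fin_one, _root_.implies_true, _root_.and_self, _root_.Sum.elim_inr, _root_.left_eq_add])
  map_smul' c a := by
    ext (i | i) <;> (revert i; simp only [_root_.Fin.forall_fin_succ, Fin.isValue, _root_.Pi.smul_apply, _root_.smul_eq_mul, _root_.Sum.elim_inl, _root_.RingHom.id_apply, _root_.Matrix.cons_val_zero, _root_.Matrix.cons_val_succ, _root_.Matrix.cons_val_fin_one, _root_.implies_true, _root_.and_self, _root_.Sum.elim_inr, _root_.MulZeroClass.mul_zero])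

/-- `⟨e₀, e₁, f₂, f₃⟩` -/
def Lg : (Fin 4 → F) →ₗ[F] V8 F where
  toFun a := Sum.elim ![a 0, a 1, 0, 0] ![0, 0, a 2, a 3]
  map_add' a b := by
    ext (i | i) <;> (revert i; simp only [_root_.Fin.forall_fin_succ, Fin.isValue, _root_.Pi.add_apply, _root_.Sum.elim_inl, _root_.Matrix.cons_val_zero, _root_.Matrix.cons_val_succ, _root_.left_eq_add, _root_.Matrix.cons_val_fin_one, _root_.implies_true, _root_.and_self, _root_.Sum.elim_inr, _root_.add_zero])
  map_smul' c a := by
    ext (i | i) <;> (revert i; simp only [_root_.Fin.forall_fin_succ, Fin.isValue, _root_.Pi.smul_apply, _root_.smul_eq_mul, _root_.Sum.elim_inl, _root_.RingHom.id_apply, _root_.Matrix.cons_val_zero, _root_.Matrix.cons_val_succ, _root_.MulZeroClass.mul_zero, _root_.Matrix.cons_val_fin_one, _root_.implies_true, _root_.and_self, _root_.Sum.elim_inr])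

/-- `⟨e₀, e₁, e₂, e₃, f₁⟩` -/
def L5 : (Fin 5 → F) →ₗ[F] V8 F where
  toFun a := Sum.elim ![a 0, a 1, a 2, a 3] ![0, a 4, 0, 0]
  map_add' a b := by
    ext (i | i) <;> (revert i; simp only [_root_.Fin.forall_fin_succ, Fin.isValue, _root_.Pi.add_apply, _root_.Sum.elim_inl, _root_.Matrix.cons_val_zero, _root_.Matrix.cons_val_succ, _root_.Matrix.cons_val_fin_one, _root_.implies_true, _root_.and_self, _root_.Sum.elim_inr, _root_.add_zero, _root_.left_eq_add])
  map_smul' c a := by
    ext (i | i) <;> (revert i; simp only [_root_.Fin.forall_fin_succ, Fin.isValue, _root_.Pi.smul_apply, _root_.smul_eq_mul, _root_.Sum.elim_inl, _root_.RingHom.id_apply, _root_.Matrix.cons_val_zero, _root_.Matrix.cons_val_succ, _root_.Matrix.cons_val_fin_one, _root_.implies_true, _root_.and_self, _root_.Sum.elim_inr, _root_.MulZeroClass.mul_zero])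

/-- `⟨e₀, e₁⟩` -/
def L2 : (Fin 2 → F) →ₗ[F] V8 F where
  toFun a := Sum.elim ![a 0, a 1, 0, 0] ![0, 0, 0, 0]
  map_add' a b := by
    ext (i | i) <;> (revert i; simp only [_root_.Fin.forall_fin_succ, Fin.isValue, _root_.Pi.add_apply, _root_.Sum.elim_inl, _root_.Matrix.cons_val_zero, _root_.Matrix.cons_val_succ, _root_.left_eq_add, _root_.Matrix.cons_val_fin_one, _root_.implies_true, _root_.and_self, _root_.Sum.elim_inr])
  map_smul' c a := by
    ext (i | i) <;> (revert i; simp only [_root_.Fin.forall_fin_succ, Fin.isValue, _root_.Pi.smul_apply, _root_.smul_eq_mul, _root_.Sum.elim_inl, _root_.RingHom.id_apply, _root_.Matrix.cons_val_zero, _root_.Matrix.cons_val_succ, _root_.MulZeroClass.mul_zero, _root_.Matrix.cons_val_fin_one, _root_.implies_true, _root_.and_self, _root_.Sum.elim_inr])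

theorem Lt_apply (t : F) (a : Fin 4 → F) :
    Lt t a = Sum.elim ![a 0, 0, -(t * a 3), t * a 2] ![0, a 1, a 2, a 3] := rfl

theorem Le_apply (a : Fin 4 → F) : Le a = Sum.elim ![a 0, a 1, a 2, a 3] ![0, 0, 0, 0] := rfl

theorem Lg_apply (a : Fin 4 → F) : Lg a = Sum.elim ![a 0, a 1, 0, 0] ![0, 0, a 2, a 3] := rfl

theorem L5_apply (a : Fin 5 → F) : L5 a = Sum.elim ![a 0, a 1, a 2, a 3] ![0, a 4, 0, 0] := rfl

theorem L2_apply (a : Fin 2 → F) : L2 a = Sum.elim ![a 0, a 1, 0, 0] ![0, 0, 0, 0] := rfl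

theorem Lt_inj (t : F) : Function.Injective (Lt t) := by
  rw [injective_iff_map_eq_zero]
  intro a ha
  have h0 := congrFun ha (.inl 0)
  have h1 := congrFun ha (.inr 1)
  have h2 := congrFun ha (.inr 2)
  have h3 := congrFun ha (.inr 3)
  rw [Lt_apply] at h0 h1 h2 h3
  ext i
  fin_cases i
  · simpa using h0
  · simpa using h1
  · simpa using h2
  · simpa using h3

theorem Le_inj : Function.Injective (Le (F := F)) := by
  rw [injective_iff_map_eq_zero]
  intro a ha
  have h0 := congrFun ha (.inl 0)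
  have h1 := congrFun ha (.inl 1)
  have h2 := congrFun ha (.inl 2)
  have h3 := congrFun ha (.inl 3)
  rw [Le_apply] at h0 h1 h2 h3
  ext i
  fin_cases i
  · simpa using h0
  · simpa using h1
  · simpa using h2
  · simpa using h3

theorem Lg_inj : Function.Injective (Lg (F := F)) := by
  rw [injective_iff_map_eq_zero]
  intro a ha
  have h0 := congrFun ha (.inl 0)
  have h1 := congrFun ha (.inl 1)
  have h2 := congrFun ha (.inr 2)
  have h3 := congrFun ha (.inr 3)
  rw [Lg_apply] at h0 h1 h2 h3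
  ext i
  fin_cases i
  · simpa using h0
  · simpa using h1
  · simpa using h2
  · simpa using h3

theorem L5_inj : Function.Injective (L5 (F := F)) := by
  rw [injective_iff_map_eq_zero]
  intro a ha
  have h0 := congrFun ha (.inl 0)
  have h1 := congrFun ha (.inl 1)
  have h2 := congrFun ha (.inl 2)
  have h3 := congrFun ha (.inl 3)
  have h4 := congrFun ha (.inr 1)
  rw [L5_apply] at h0 h1 h2 h3 h4
  ext i
  fin_cases i
  · simpa using h0
  · simpa using h1
  · simpa using h2
  · simpa using h3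
  · simpa using h4

theorem L2_inj : Function.Injective (L2 (F := F)) := by
  rw [injective_iff_map_eq_zero]
  intro a ha
  have h0 := congrFun ha (.inl 0)
  have h1 := congrFun ha (.inl 1)
  rw [L2_apply] at h0 h1
  ext i
  fin_cases i
  · simpa using h0
  · simpa using h1

/-- images of ranges are totally singular -/
theorem ts_im {T : V8 F ≃ₗ[F] V8 F} (hT : T ∈ O (plusForm 4 F)) {L : (Fin 4 → F) →ₗ[F] V8 F}
    (hL : ∀ a, plusForm 4 F (L a) = 0) : TS (plusForm 4 F) (im T (LinearMap.range L)) := by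
  rintro _ ⟨_, ⟨a, rfl⟩, rfl⟩
  exact (hT _).trans (hL a)

theorem finrank_im {T : V8 F ≃ₗ[F] V8 F} {L : (Fin 4 → F) →ₗ[F] V8 F} (hL : Function.Injective L) :
    finrank F (im T (LinearMap.range L)) = 4 := by
  have h1 : finrank F (im T (LinearMap.range L)) = finrank F (LinearMap.range L) :=
    LinearEquiv.finrank_map_eq T _
  rw [h1, LinearMap.finrank_range_of_inj hL, Module.finrank_fin_fun]

theorem Lt_ts (t : F) (a : Fin 4 → F) : plusForm 4 F (Lt t a) = 0 := by
  rw [q8_apply, Lt_apply]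
  simp only [_root_.Nat.succ_eq_add_one, _root_.Nat.reduceAdd, _root_.Fin.isValue, _root_.Sum.elim_inl, _root_.Matrix.cons_val_zero, _root_.Sum.elim_inr, _root_.MulZeroClass.mul_zero, _root_.Matrix.cons_val_one, _root_.MulZeroClass.zero_mul, _root_.add_zero, _root_.Matrix.cons_val, _root_.neg_mul, _root_.zero_add]
  ring

theorem Le_ts (a : Fin 4 → F) : plusForm 4 F (Le a) = 0 := by
  rw [q8_apply, Le_apply]
  simp

theorem Lg_ts (a : Fin 4 → F) : plusForm 4 F (Lg a) = 0 := by
  rw [q8_apply, Lg_apply]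
  simp

theorem fin8 : finrank F (V8 F) = 8 := by
  rw [Module.finrank_fintype_fun_eq_card]
  rfl

/-- a singular vector orthogonal to a totally singular 4-space lies in it -/
theorem mem_of_perp {X : Submodule F (V8 F)} (hX : TS (plusForm 4 F) X) (h4 : finrank F X = 4)
    {x : V8 F} (hp : ∀ w ∈ X, polar (plusForm 4 F) w x = 0) : x ∈ X := by
  have h1 : X ≤ H955.perp (plusForm 4 F) X := by
    intro v hv w hw
    exact hX.polar hw hv
  have h2 : finrank F X + finrank F (H955.perp (plusForm 4 F) X) = 8 :=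
    (H955.finrank_add_perp (nondeg8 (F := F)) X).trans fin8
  have h2' : finrank F (H955.perp (plusForm 4 F) X) ≤ finrank F X := by omega
  have h3 : X = H955.perp (plusForm 4 F) X := Submodule.eq_of_le_of_finrank_le h1 h2'
  rw [h3]
  exact hp

/-- the adapted frame for `u ∈ X` and `x ∉ X` -/
theorem exists_frame {X : Submodule F (V8 F)} (hX : TS (plusForm 4 F) X) (h4 : finrank F X = 4)
    {u x : V8 F} (hu0 : u ≠ 0) (huX : u ∈ X) (hxX : x ∉ X) (hx : plusForm 4 F x = 0)
    (hux : polar (plusForm 4 F) u x = 0) :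
    ∃ T ∈ O (plusForm 4 F), (∀ c, T (Le ![c, 0, 0, 0]) = c • u) ∧
      im T (LinearMap.range Le) = X ∧ T (L5 ![0, 0, 0, 0, 1]) = x := by
  set Q := plusForm 4 F with hQ
  -- `v₁`
  obtain ⟨v, hvX, hv⟩ : ∃ v ∈ X, polar Q v x ≠ 0 := by
    by_contra hcon
    push Not at hcon
    exact hxX (mem_of_perp hX h4 hcon)
  obtain ⟨v1, hv1X, hv1x⟩ : ∃ v1 ∈ X, polar Q v1 x = 1 := by
    refine ⟨(polar Q v x)⁻¹ • v, X.smul_mem _ hvX, ?_⟩
    rw [polar_smul_left, smul_eq_mul, inv_mul_cancel₀ hv]
  -- the hyperplane `K` of `X`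
  set K : Submodule F (V8 F) := X ⊓ H955.perp Q (Submodule.span F {x}) with hK
  have hKx : ∀ w ∈ K, polar Q w x = 0 := fun w hw => by
    have := hw.2 x (Submodule.mem_span_singleton_self x)
    rwa [polar_comm] at this
  have hx0 : x ≠ 0 := fun h => hxX (h ▸ X.zero_mem)
  have hK3 : 3 ≤ finrank F K := by
    have h5 : finrank F ↥(X ⊔ H955.perp Q (Submodule.span F {x})) + finrank F K =
        finrank F X + finrank F (H955.perp Q (Submodule.span F {x})) :=
      Submodule.finrank_sup_add_finrank_inf_eq X (H955.perp Q (Submodule.span F {x}))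
    have h6 : finrank F (Submodule.span F {x}) + finrank F (H955.perp Q (Submodule.span F {x})) = 8 :=
      (H955.finrank_add_perp (nondeg8 (F := F)) (Submodule.span F {x})).trans fin8
    have h6' : finrank F (Submodule.span F {x}) = 1 := finrank_span_singleton hx0
    have h7 : finrank F ↥(X ⊔ H955.perp Q (Submodule.span F {x})) ≤ 8 :=
      (Submodule.finrank_le _).trans_eq fin8
    omega
  -- `v₂`
  obtain ⟨v2, hv2K, hv2⟩ : ∃ v2 ∈ K, v2 ∉ Submodule.span F {u} := by
    by_contra hcon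
    push Not at hcon
    have h5 : finrank F K ≤ finrank F (Submodule.span F {u}) :=
      Submodule.finrank_mono (fun w hw => hcon w hw)
    rw [finrank_span_singleton hu0] at h5
    omega
  obtain ⟨v3, hv3K, hv3⟩ : ∃ v3 ∈ K, v3 ∉ Submodule.span F {u, v2} := by
    by_contra hcon
    push Not at hcon
    have h5 : finrank F K ≤ finrank F (Submodule.span F {u, v2}) :=
      Submodule.finrank_mono (fun w hw => hcon w hw)
    have h6 : finrank F (Submodule.span F ({u, v2} : Set (V8 F))) ≤ 2 := by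
      classical
      refine (finrank_span_le_card ({u, v2} : Set (V8 F))).trans ?_
      rw [Set.toFinset_insert, Set.toFinset_singleton]
      exact Finset.card_le_two
    omega
  let f' : (Fin 5 → F) →ₗ[F] V8 F :=
    { toFun := fun a => a 0 • u + a 1 • v1 + a 2 • v2 + a 3 • v3 + a 4 • x
      map_add' := fun a b => by
        simp only [Pi.add_apply, add_smul]
        abel
      map_smul' := fun c a => by
        simp only [Pi.smul_apply, smul_eq_mul, mul_smul, smul_add, RingHom.id_apply] }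
  have hf' : ∀ a, f' a = a 0 • u + a 1 • v1 + a 2 • v2 + a 3 • v3 + a 4 • x := fun _ => rfl
  have hs : ∀ a : Fin 5 → F, a 0 • u + a 1 • v1 + a 2 • v2 + a 3 • v3 ∈ X := fun a =>
    X.add_mem (X.add_mem (X.add_mem (X.smul_mem _ huX) (X.smul_mem _ hv1X))
      (X.smul_mem _ hv2K.1)) (X.smul_mem _ hv3K.1)
  have hsx : ∀ a : Fin 5 → F, polar Q (a 0 • u + a 1 • v1 + a 2 • v2 + a 3 • v3) x = a 1 := by
    intro a
    rw [polar_add_left, polar_add_left, polar_add_left, polar_smul_left, polar_smul_left,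
      polar_smul_left, polar_smul_left, hux, hv1x, hKx v2 hv2K, hKx v3 hv3K]
    simp
  have hinj : Function.Injective f' := by
    rw [injective_iff_map_eq_zero]
    intro a ha
    rw [hf'] at ha
    -- the coefficient of `x`
    have h5 : a 4 = 0 := by
      have h6 : polar Q v1 (a 0 • u + a 1 • v1 + a 2 • v2 + a 3 • v3 + a 4 • x) = 0 := by
        rw [ha]; exact polar_zero_right _ _
      rw [polar_add_right, hX.polar hv1X (hs a), polar_smul_right, hv1x] at h6
      simpa using h6
    rw [h5, zero_smul, add_zero] at ha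
    have h1 : a 1 = 0 := by
      rw [← hsx a, ha]
      exact polar_zero_left _ _
    rw [h1, zero_smul, add_zero] at ha
    have h3 : a 3 = 0 := by
      by_contra hne
      apply hv3
      have h6 : v3 = (-(a 3)⁻¹ * a 0) • u + (-(a 3)⁻¹ * a 2) • v2 := by
        have h7 : v3 = (a 3)⁻¹ • (a 3 • v3) := by rw [smul_smul, inv_mul_cancel₀ hne, one_smul]
        have h8 : a 3 • v3 = -(a 0 • u + a 2 • v2) := by
          rw [eq_neg_iff_add_eq_zero, add_comm]
          exact ha
        rw [h7, h8]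
        module
      rw [h6]
      exact Submodule.add_mem _ (Submodule.smul_mem _ _ (Submodule.subset_span (by simp)))
        (Submodule.smul_mem _ _ (Submodule.subset_span (by simp)))
    rw [h3, zero_smul, add_zero] at ha
    have h2 : a 2 = 0 := by
      by_contra hne
      apply hv2
      have h6 : v2 = (-(a 2)⁻¹ * a 0) • u := by
        have h7 : v2 = (a 2)⁻¹ • (a 2 • v2) := by rw [smul_smul, inv_mul_cancel₀ hne, one_smul]
        have h8 : a 2 • v2 = -(a 0 • u) := by
          rw [eq_neg_iff_add_eq_zero, add_comm]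
          exact ha
        rw [h7, h8]
        module
      rw [h6]
      exact Submodule.smul_mem _ _ (Submodule.mem_span_singleton_self u)
    rw [h2, zero_smul, add_zero] at ha
    have h0 : a 0 = 0 := (smul_eq_zero.1 ha).resolve_right hu0
    ext i
    fin_cases i
    · exact h0
    · exact h1
    · exact h2
    · exact h3
    · exact h5
  obtain ⟨T, hT, hTf⟩ := H958.witt_maps (nondeg8 (F := F)) L5 f' L5_inj hinj (by
    intro a
    have e1 : plusForm 4 F (f' a) = a 1 * a 4 := by
      change Q (f' a) = _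
      rw [hf', Q_add, hX _ (hs a), QuadraticMap.map_smul, hx, polar_smul_right, hsx]
      simp [mul_comm]
    have e2 : plusForm 4 F (L5 a) = a 1 * a 4 := by
      rw [q8_apply, L5_apply]
      simp
    rw [e1, e2])
  refine ⟨T, hT, ?_, ?_, ?_⟩
  · intro c
    have e : Le ![c, 0, 0, 0] = L5 ![c, 0, 0, 0, 0] := rfl
    rw [e, hTf, hf']
    simp
  · refine Submodule.eq_of_le_of_finrank_le ?_ (by rw [finrank_im Le_inj, h4])
    rintro _ ⟨_, ⟨a, rfl⟩, rfl⟩
    have e : Le a = L5 ![a 0, a 1, a 2, a 3, 0] := rfl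
    change T (Le a) ∈ X
    rw [e, hTf]
    have h5 := hs ![a 0, a 1, a 2, a 3, 0]
    have h6 : f' ![a 0, a 1, a 2, a 3, 0] = (![a 0, a 1, a 2, a 3, 0] : Fin 5 → F) 0 • u +
        (![a 0, a 1, a 2, a 3, 0] : Fin 5 → F) 1 • v1 +
        (![a 0, a 1, a 2, a 3, 0] : Fin 5 → F) 2 • v2 +
        (![a 0, a 1, a 2, a 3, 0] : Fin 5 → F) 3 • v3 := by
      rw [hf']
      have h7 : (![a 0, a 1, a 2, a 3, 0] : Fin 5 → F) 4 = 0 := rfl
      rw [h7, zero_smul, add_zero]
    rw [h6]
    exact h5
  · rw [hTf, hf']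
    simp

theorem sim_ts {b : V8 F ≃ₗ[F] V8 F} (hb : Sim b) {X : Submodule F (V8 F)}
    (hX : TS (plusForm 4 F) X) : TS (plusForm 4 F) (im b X) := by
  obtain ⟨c, -, hc⟩ := hb
  rintro _ ⟨v, hv, rfl⟩
  change plusForm 4 F (b v) = 0
  rw [hc, hX v hv, mul_zero]

theorem mem_im_iff {b : V8 F ≃ₗ[F] V8 F} {X : Submodule F (V8 F)} {v : V8 F} :
    b v ∈ im b X ↔ v ∈ X := by
  constructor
  · rintro ⟨w, hw, h⟩
    have : w = v := b.injective h
    rwa [← this]
  · intro h
    exact ⟨v, h, rfl⟩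

theorem im_inf {b : V8 F ≃ₗ[F] V8 F} {X Y : Submodule F (V8 F)} :
    im b (X ⊓ Y) = im b X ⊓ im b Y :=
  Submodule.map_inf _ b.injective

section Main

variable {b : V8 F ≃ₗ[F] V8 F} {u : V8 F}

/-- all totally singular 4-spaces through `u` are fixed -/
theorem fix4 (hb : Sim b) (hu0 : u ≠ 0)
    (hbu : im b (Submodule.span F {u}) = Submodule.span F {u})
    (h : ∀ X X' : Submodule F (V8 F), TS (plusForm 4 F) X → TS (plusForm 4 F) X' →
      finrank F X = 4 → finrank F X' = 4 → X ⊓ X' = Submodule.span F {u} →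
      im b X = X ∨ im b X' = X' ∨ (im b X = X' ∧ im b X' = X))
    {X : Submodule F (V8 F)} (hX : TS (plusForm 4 F) X) (h4 : finrank F X = 4) (huX : u ∈ X) :
    im b X = X := by
  by_contra hne
  have hbX4 : finrank F (im b X) = 4 := (LinearEquiv.finrank_map_eq b X).trans h4
  obtain ⟨x, hxb, hxX⟩ : ∃ x ∈ im b X, x ∉ X := by
    by_contra hcon
    push Not at hcon
    exact hne (Submodule.eq_of_le_of_finrank_le (fun w hw => hcon w hw) (by rw [h4, hbX4]))
  have hbX := sim_ts hb hX
  have hub : u ∈ im b X := by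
    have h1 : u ∈ im b (Submodule.span F {u}) := by
      rw [hbu]
      exact Submodule.mem_span_singleton_self u
    exact Submodule.map_mono (by rwa [Submodule.span_singleton_le_iff_mem]) h1
  obtain ⟨T, hT, hT0, hTX, hTx⟩ := exists_frame hX h4 hu0 huX hxX (hbX x hxb) (hbX.polar hub hxb)
  -- the spaces `X'_t`
  have key : ∀ t : F, im b X = im T (LinearMap.range (Lt t)) := by
    intro t
    have h1 : X ⊓ im T (LinearMap.range (Lt t)) = Submodule.span F {u} := by
      apply le_antisymm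
      · rintro w ⟨hw1, hw2⟩
        rw [← hTX] at hw1
        obtain ⟨_, ⟨a, rfl⟩, ha⟩ := hw1
        obtain ⟨_, ⟨c, rfl⟩, hc⟩ := hw2
        have h2 : Le a = Lt t c := T.injective (ha.trans hc.symm)
        have e1 := congrFun h2 (.inr 1)
        have e2 := congrFun h2 (.inr 2)
        have e3 := congrFun h2 (.inr 3)
        have e4 := congrFun h2 (.inl 1)
        have e5 := congrFun h2 (.inl 2)
        have e6 := congrFun h2 (.inl 3)
        simp only [Le_apply, Lt_apply, Sum.elim_inl, Sum.elim_inr, Matrix.cons_val] at e1 e2 e3 e4 e5 e6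
        rw [← e3, mul_zero, neg_zero] at e5
        rw [← e2, mul_zero] at e6
        have h3 : Le a = Le ![a 0, 0, 0, 0] := by
          rw [Le_apply, Le_apply, e4, e5, e6]
          rfl
        rw [← ha, h3]
        change T (Le ![a 0, 0, 0, 0]) ∈ _
        rw [hT0]
        exact Submodule.smul_mem _ _ (Submodule.mem_span_singleton_self u)
      · rw [Submodule.span_singleton_le_iff_mem]
        refine ⟨huX, ⟨Lt t ![1, 0, 0, 0], ⟨_, rfl⟩, ?_⟩⟩
        have h2 : Lt t ![1, 0, 0, 0] = Le ![1, 0, 0, 0] := by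
          rw [Lt_apply, Le_apply]
          simp
        change T (Lt t ![1, 0, 0, 0]) = u
        rw [h2, hT0, one_smul]
    rcases h X (im T (LinearMap.range (Lt t))) hX (ts_im hT (Lt_ts t)) h4 (finrank_im (Lt_inj t)) h1
      with h2 | h2 | h2
    · exact absurd h2 hne
    · exfalso
      have hxt : x ∈ im T (LinearMap.range (Lt t)) := by
        refine ⟨Lt t ![0, 1, 0, 0], ⟨_, rfl⟩, ?_⟩
        have h3 : Lt t ![0, 1, 0, 0] = L5 ![0, 0, 0, 0, 1] := by
          rw [Lt_apply, L5_apply]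
          simp
        change T (Lt t ![0, 1, 0, 0]) = x
        rw [h3, hTx]
      rw [← h2] at hxt
      have h4 : x ∈ im b (X ⊓ im T (LinearMap.range (Lt t))) := by
        rw [im_inf]
        exact ⟨hxb, hxt⟩
      rw [h1, hbu] at h4
      exact hxX ((Submodule.span_singleton_le_iff_mem u X).2 huX h4)
    · exact h2.1
  have h1 := (key 0).symm.trans (key 1)
  have h2 : T (Lt (1 : F) ![0, 0, 1, 0]) ∈ im T (LinearMap.range (Lt (0 : F))) := by
    rw [h1]
    exact ⟨_, ⟨_, rfl⟩, rfl⟩
  rw [mem_im_iff] at h2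
  obtain ⟨a, ha⟩ := h2
  have h3 := congrFun ha (.inl 3)
  simp only [Lt_apply, Sum.elim_inl, Matrix.cons_val] at h3
  simp at h3

/-- singular vectors orthogonal to `u` -/
theorem fixline (hb : Sim b) (hu : plusForm 4 F u = 0) (hu0 : u ≠ 0)
    (hbu : im b (Submodule.span F {u}) = Submodule.span F {u})
    (h : ∀ X X' : Submodule F (V8 F), TS (plusForm 4 F) X → TS (plusForm 4 F) X' →
      finrank F X = 4 → finrank F X' = 4 → X ⊓ X' = Submodule.span F {u} →
      im b X = X ∨ im b X' = X' ∨ (im b X = X' ∧ im b X' = X))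
    {a : V8 F} (ha : plusForm 4 F a = 0) (hua : polar (plusForm 4 F) u a = 0) :
    ∃ α β : F, b a = α • u + β • a := by
  by_cases hau : a ∈ Submodule.span F {u}
  · have h1 : b a ∈ im b (Submodule.span F {u}) := mem_im_iff.2 hau
    rw [hbu, Submodule.mem_span_singleton] at h1
    obtain ⟨α, hα⟩ := h1
    exact ⟨α, 0, by rw [zero_smul, add_zero, hα]⟩
  let f' : (Fin 2 → F) →ₗ[F] V8 F :=
    { toFun := fun c => c 0 • u + c 1 • a
      map_add' := fun c d => by
        simp only [Pi.add_apply, add_smul]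
        abel
      map_smul' := fun c d => by
        simp only [Pi.smul_apply, smul_eq_mul, mul_smul, smul_add, RingHom.id_apply] }
  have hf' : ∀ c, f' c = c 0 • u + c 1 • a := fun _ => rfl
  have hinj : Function.Injective f' := by
    rw [injective_iff_map_eq_zero]
    intro c hc
    rw [hf'] at hc
    have h1 : c 1 = 0 := by
      by_contra hne
      apply hau
      have h6 : a = (-(c 1)⁻¹ * c 0) • u := by
        have h7 : a = (c 1)⁻¹ • (c 1 • a) := by rw [smul_smul, inv_mul_cancel₀ hne, one_smul]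
        have h8 : c 1 • a = -(c 0 • u) := by
          rw [eq_neg_iff_add_eq_zero, add_comm]
          exact hc
        rw [h8] at h7
        rw [h7]
        module
      rw [h6]
      exact Submodule.smul_mem _ _ (Submodule.mem_span_singleton_self u)
    rw [h1, zero_smul, add_zero] at hc
    have h0 : c 0 = 0 := (smul_eq_zero.1 hc).resolve_right hu0
    ext i
    fin_cases i
    · exact h0
    · exact h1
  obtain ⟨T, hT, hTf⟩ := H958.witt_maps (nondeg8 (F := F)) L2 f' L2_inj hinj (by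
    intro c
    have e1 : plusForm 4 F (f' c) = 0 := by
      rw [hf', Q_add, QuadraticMap.map_smul, QuadraticMap.map_smul, hu, ha, polar_smul_right,
        polar_smul_left, hua]
      simp
    have e2 : plusForm 4 F (L2 c) = 0 := by
      rw [q8_apply, L2_apply]
      simp
    rw [e1, e2])
  have hT0 : ∀ c d : F, T (L2 ![c, d]) = c • u + d • a := fun c d => by rw [hTf, hf']; rfl
  have hu1 : u ∈ im T (LinearMap.range Le) := by
    refine ⟨Le ![1, 0, 0, 0], ⟨_, rfl⟩, ?_⟩
    have h2 : Le ![1, 0, 0, 0] = L2 (F := F) ![1, 0] := by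
      rw [Le_apply, L2_apply]
      simp
    change T (Le ![1, 0, 0, 0]) = u
    rw [h2, hT0]
    simp
  have hu2 : u ∈ im T (LinearMap.range Lg) := by
    refine ⟨Lg ![1, 0, 0, 0], ⟨_, rfl⟩, ?_⟩
    have h2 : Lg ![1, 0, 0, 0] = L2 (F := F) ![1, 0] := by
      rw [Lg_apply, L2_apply]
      simp
    change T (Lg ![1, 0, 0, 0]) = u
    rw [h2, hT0]
    simp
  have ha1 : a ∈ im T (LinearMap.range Le) := by
    refine ⟨Le ![0, 1, 0, 0], ⟨_, rfl⟩, ?_⟩
    have h2 : Le ![0, 1, 0, 0] = L2 (F := F) ![0, 1] := by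
      rw [Le_apply, L2_apply]
      simp
    change T (Le ![0, 1, 0, 0]) = a
    rw [h2, hT0]
    simp
  have ha2 : a ∈ im T (LinearMap.range Lg) := by
    refine ⟨Lg ![0, 1, 0, 0], ⟨_, rfl⟩, ?_⟩
    have h2 : Lg ![0, 1, 0, 0] = L2 (F := F) ![0, 1] := by
      rw [Lg_apply, L2_apply]
      simp
    change T (Lg ![0, 1, 0, 0]) = a
    rw [h2, hT0]
    simp
  have k1 := fix4 hb hu0 hbu h (ts_im hT Le_ts) (finrank_im Le_inj) hu1
  have k2 := fix4 hb hu0 hbu h (ts_im hT Lg_ts) (finrank_im Lg_inj) hu2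
  have m1 : b a ∈ im T (LinearMap.range Le) := by rw [← k1]; exact mem_im_iff.2 ha1
  have m2 : b a ∈ im T (LinearMap.range Lg) := by rw [← k2]; exact mem_im_iff.2 ha2
  obtain ⟨_, ⟨c, rfl⟩, hc⟩ := m1
  obtain ⟨_, ⟨d, rfl⟩, hd⟩ := m2
  have h2 : Le c = Lg d := T.injective (hc.trans hd.symm)
  have e2 := congrFun h2 (.inl 2)
  have e3 := congrFun h2 (.inl 3)
  simp only [Le_apply, Lg_apply, Sum.elim_inl, Matrix.cons_val] at e2 e3
  have h3 : Le c = L2 ![c 0, c 1] := by
    rw [Le_apply, L2_apply, e2, e3]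
    rfl
  refine ⟨c 0, c 1, ?_⟩
  rw [← hc, h3, ← hT0]
  rfl

end Main

/-- coordinate vectors -/
def sv (i : Fin 4 ⊕ Fin 4) : V8 F := Pi.single i 1

theorem sv_same (i : Fin 4 ⊕ Fin 4) : (sv i : V8 F) i = 1 := Pi.single_eq_same i 1

theorem sv_ne {i j : Fin 4 ⊕ Fin 4} (h : j ≠ i) : (sv i : V8 F) j = 0 := Pi.single_eq_of_ne h 1

theorem sv_zero : (sv (.inl 0) : V8 F) = e0 F := by
  ext (i | i) <;> (revert i; simp only [sv, e0, _root_.Fin.forall_fin_succ, Fin.isValue, _root_.Sum.elim_inl, _root_.Pi.single_eq_same, _root_.Matrix.cons_val_zero, _root_.ne_eq, _root_.Sum.inl.injEq, _root_.Fin.succ_ne_zero, _root_.not_false_eq_true, _root_.Pi.single_eq_of_ne, _root_.Matrix.cons_val_succ, _root_.Matrix.cons_val_fin_one, _root_.implies_true, _root_.and_self, reduceCtorEq, _root_.Sum.elim_inr])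

theorem pair_eq {c : V8 F →ₗ[F] V8 F} (hc : ∀ w : V8 F, plusForm 4 F w = 0 → w (.inr 0) = 0 →
    ∃ α β : F, c w = α • e0 F + β • w) {i j : Fin 4 ⊕ Fin 4} (hij : i ≠ j) (hi : i ≠ .inl 0)
    (hj : j ≠ .inl 0) (hQ : plusForm 4 F (sv i + sv j) = 0) (hi0 : i ≠ .inr 0) (hj0 : j ≠ .inr 0)
    {α β α' β' : F} (h1 : c (sv i) = α • e0 F + β • sv i) (h2 : c (sv j) = α' • e0 F + β' • sv j) :
    β = β' := by
  obtain ⟨x, y, hxy⟩ := hc (sv i + sv j) hQ (by
    rw [Pi.add_apply, sv_ne hi0.symm, sv_ne hj0.symm, add_zero])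
  rw [map_add, h1, h2, ← sv_zero] at hxy
  have k1 := congrFun hxy i
  have k2 := congrFun hxy j
  simp only [Pi.add_apply, Pi.smul_apply, smul_eq_mul, sv_same, sv_ne hij, sv_ne hij.symm,
    sv_ne hi, sv_ne hj] at k1 k2
  have k1' : β = y := by simpa using k1
  have k2' : β' = y := by simpa using k2
  rw [k1', k2']

theorem scalar_std {c : V8 F →ₗ[F] V8 F} (hc : ∀ w : V8 F, plusForm 4 F w = 0 → w (.inr 0) = 0 →
    ∃ α β : F, c w = α • e0 F + β • w) :
    ∃ β : F, ∀ w : V8 F, w (.inr 0) = 0 → ∃ α : F, c w = α • e0 F + β • w := by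
  have hs : ∀ i : Fin 4 ⊕ Fin 4, plusForm 4 F (sv i) = 0 := by
    intro i
    rw [q8_apply]
    rcases i with i | i <;> (revert i; simp [sv, _root_.Fin.forall_fin_succ])
  have hbas : ∀ i : Fin 4 ⊕ Fin 4, i ≠ .inr 0 → ∃ α β : F, c (sv i) = α • e0 F + β • sv i :=
    fun i hi => hc (sv i) (hs i) (sv_ne hi.symm)
  obtain ⟨a0, b0, h0⟩ := hbas (.inl 0) (by decide)
  obtain ⟨a1, b1, h1⟩ := hbas (.inl 1) (by decide)
  obtain ⟨a2, b2, h2⟩ := hbas (.inl 2) (by decide)
  obtain ⟨a3, b3, h3⟩ := hbas (.inl 3) (by decide)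
  obtain ⟨a4, b4, h4⟩ := hbas (.inr 1) (by decide)
  obtain ⟨a5, b5, h5⟩ := hbas (.inr 2) (by decide)
  obtain ⟨a6, b6, h6⟩ := hbas (.inr 3) (by decide)
  have q12 : b1 = b2 := pair_eq hc (i := .inl 1) (j := .inl 2) (by decide) (by decide) (by decide)
    (by rw [q8_apply]; simp [sv]) (by decide) (by decide) h1 h2
  have q23 : b2 = b3 := pair_eq hc (i := .inl 2) (j := .inl 3) (by decide) (by decide) (by decide)
    (by rw [q8_apply]; simp [sv]) (by decide) (by decide) h2 h3
  have q15 : b1 = b5 := pair_eq hc (i := .inl 1) (j := .inr 2) (by decide) (by decide) (by decide)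
    (by rw [q8_apply]; simp [sv]) (by decide) (by decide) h1 h5
  have q16 : b1 = b6 := pair_eq hc (i := .inl 1) (j := .inr 3) (by decide) (by decide) (by decide)
    (by rw [q8_apply]; simp [sv]) (by decide) (by decide) h1 h6
  have q24 : b2 = b4 := pair_eq hc (i := .inl 2) (j := .inr 1) (by decide) (by decide) (by decide)
    (by rw [q8_apply]; simp [sv]) (by decide) (by decide) h2 h4
  subst q12
  subst q23
  subst q15
  subst q16
  subst q24
  rw [sv_zero] at h0
  refine ⟨b1, fun w hw => ?_⟩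
  have hw' : w = w (.inl 0) • e0 F + w (.inl 1) • sv (.inl 1) + w (.inl 2) • sv (.inl 2) +
      w (.inl 3) • sv (.inl 3) + w (.inr 1) • sv (.inr 1) + w (.inr 2) • sv (.inr 2) +
      w (.inr 3) • sv (.inr 3) := by
    rw [← sv_zero]
    ext (i | i) <;> (revert i; simp only [sv, hw, _root_.Fin.forall_fin_succ, Fin.isValue, _root_.Pi.add_apply, _root_.Pi.smul_apply, _root_.smul_eq_mul, _root_.ne_eq, reduceCtorEq, _root_.not_false_eq_true, _root_.Pi.single_eq_of_ne, _root_.MulZeroClass.mul_zero, _root_.add_zero, _root_.Pi.single_eq_same, _root_.mul_one, _root_.Sum.inl.injEq, _root_.zero_ne_one, Fin.reduceEq, _root_.Fin.succ_ne_zero, _root_.zero_add, _root_.Fin.succ_zero_eq_one, _root_.Fin.succ_one_eq_two, Fin.reduceSucc, _root_.IsEmpty.forall_iff, _root_.and_self, _root_.Sum.inr.injEq])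
  refine ⟨w (.inl 0) * (a0 + b0) + w (.inl 1) * a1 + w (.inl 2) * a2 + w (.inl 3) * a3 +
    w (.inr 1) * a4 + w (.inr 2) * a5 + w (.inr 3) * a6 - b1 * w (.inl 0), ?_⟩
  have hcw : c w = w (.inl 0) • c (e0 F) + w (.inl 1) • c (sv (.inl 1)) +
      w (.inl 2) • c (sv (.inl 2)) + w (.inl 3) • c (sv (.inl 3)) + w (.inr 1) • c (sv (.inr 1)) +
      w (.inr 2) • c (sv (.inr 2)) + w (.inr 3) • c (sv (.inr 3)) := by
    conv_lhs => rw [hw']
    simp only [map_add, map_smul]
  rw [hcw, h0, h1, h2, h3, h4, h5, h6]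
  have hbw : b1 • w = b1 • (w (.inl 0) • e0 F + w (.inl 1) • sv (.inl 1) +
      w (.inl 2) • sv (.inl 2) + w (.inl 3) • sv (.inl 3) + w (.inr 1) • sv (.inr 1) +
      w (.inr 2) • sv (.inr 2) + w (.inr 3) • sv (.inr 3)) := by rw [← hw']
  rw [hbw]
  module

/-- **Task G2.** -/
theorem scalar_mod [Fintype F] {b : V8 F ≃ₗ[F] V8 F} (hb : Sim b) {u : V8 F}
    (hu : plusForm 4 F u = 0) (hu0 : u ≠ 0)
    (hbu : im b (Submodule.span F {u}) = Submodule.span F {u})
    (h : ∀ X X' : Submodule F (V8 F), TS (plusForm 4 F) X → TS (plusForm 4 F) X' →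
      finrank F X = 4 → finrank F X' = 4 → X ⊓ X' = Submodule.span F {u} →
      im b X = X ∨ im b X' = X' ∨ (im b X = X' ∧ im b X' = X)) :
    ∃ β : F, ∀ a : V8 F, polar (plusForm 4 F) u a = 0 →
      b a - β • a ∈ Submodule.span F {u} := by
  -- an isometry mapping `e₀` to `u`
  obtain ⟨T, hT, hTf⟩ := H958.witt_maps (nondeg8 (F := F)) (LinearMap.toSpanSingleton F (V8 F) (e0 F))
    (LinearMap.toSpanSingleton F (V8 F) u) (by
      rw [injective_iff_map_eq_zero]
      intro c hc
      have h1 := congrFun hc (.inl 0)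
      simpa [e0, LinearMap.toSpanSingleton_apply] using h1) (by
      rw [injective_iff_map_eq_zero]
      intro c hc
      rw [LinearMap.toSpanSingleton_apply] at hc
      exact (smul_eq_zero.1 hc).resolve_right hu0) (by
      intro c
      rw [LinearMap.toSpanSingleton_apply, LinearMap.toSpanSingleton_apply, QuadraticMap.map_smul,
        QuadraticMap.map_smul, hu]
      have h1 : plusForm 4 F (e0 F) = 0 := by
        rw [q8_apply]
        simp [e0]
      rw [h1])
  have hT0 : T (e0 F) = u := by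
    have h1 := hTf 1
    rwa [LinearMap.toSpanSingleton_apply, LinearMap.toSpanSingleton_apply, one_smul, one_smul] at h1
  have hperp : ∀ w : V8 F, polar (plusForm 4 F) u (T w) = w (.inr 0) := by
    intro w
    rw [← hT0, polar_map hT, polar_e0]
  let c : V8 F →ₗ[F] V8 F := (T.trans (b.trans T.symm)).toLinearMap
  have hc : ∀ w, T (c w) = b (T w) := fun w => T.apply_symm_apply (b (T w))
  obtain ⟨β, hβ⟩ := scalar_std (c := c) (by
    intro w hw hw0
    obtain ⟨α, β, hαβ⟩ := fixline hb hu hu0 hbu h (a := T w) ((hT w).trans hw)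
      ((hperp w).trans hw0)
    refine ⟨α, β, T.injective ?_⟩
    rw [hc, hαβ, map_add, map_smul, map_smul, hT0])
  refine ⟨β, fun a ha => ?_⟩
  obtain ⟨w, rfl⟩ := T.surjective a
  rw [hperp] at ha
  obtain ⟨α, hα⟩ := hβ w ha
  rw [← hc, hα, map_add, map_smul, map_smul, hT0, add_sub_cancel_right]
  exact Submodule.smul_mem _ _ (Submodule.mem_span_singleton_self u)

end Cfsg.Agent.H184.OEScal
end

-- part: H597/OEG3
section
/-!
# `PΩ⁺₈(q)`: G3 (task 1682 of helper465)

A linear map `b` such that for every fixed singular point `⟨u⟩` the map `b` is a scalar modulo `⟨u⟩` on `u^⊥` is a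
scalar, if there is a fixed singular point.
-/

set_option autoImplicit false

namespace Cfsg.Agent.H597.OEight

open Module QuadraticMap Cfsg.Agent.LieClassical.OrthCore Cfsg.Agent.LieClassical.OrthTrans
  Cfsg.Agent.ClassicalGeometry.OrthAut1 Cfsg.Agent.LieClassical.QuadForms Cfsg.Agent.ClassicalGeometry.TrialityOct
  Cfsg.Agent.ClassicalGeometry.Triality Cfsg.Agent.H465.OEight

variable {F : Type*} [Field F]

theorem finrank_V8 : finrank F (V8 F) = 8 := by
  rw [finrank_fintype_fun_eq_card, Fintype.card_sum, Fintype.card_fin]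

/-- `u^⊥` -/
noncomputable def perp (u : V8 F) : Submodule F (V8 F) := LinearMap.ker (polarBilin (plusForm 4 F) u)

theorem mem_perp {u v : V8 F} : v ∈ perp u ↔ polar (plusForm 4 F) u v = 0 := by
  unfold perp
  rw [LinearMap.mem_ker]
  rfl

theorem finrank_perp (u : V8 F) : 7 ≤ finrank F (perp u) := by
  have h1 := LinearMap.finrank_range_add_finrank_ker (polarBilin (plusForm 4 F) u)
  have h2 : finrank F (LinearMap.range (polarBilin (plusForm 4 F) u)) ≤ 1 := by
    have := Submodule.finrank_le (LinearMap.range (polarBilin (plusForm 4 F) u))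
    rwa [finrank_self] at this
  rw [finrank_V8] at h1
  change 7 ≤ finrank F (LinearMap.ker (polarBilin (plusForm 4 F) u))
  omega

theorem finrank_inf (A B : Submodule F (V8 F)) : finrank F A + finrank F B ≤ finrank F (A ⊓ B : Submodule F (V8 F)) + 8 := by
  have h1 := Submodule.finrank_sup_add_finrank_inf_eq A B
  have h2 := Submodule.finrank_le (A ⊔ B)
  rw [finrank_V8] at h2
  omega

theorem exists_notMem {A : Submodule F (V8 F)} (hA : 2 ≤ finrank F A) (w : V8 F) :
    ∃ a ∈ A, a ∉ Submodule.span F {w} := by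
  by_contra hcon
  push Not at hcon
  have h1 : A ≤ Submodule.span F {w} := hcon
  have h2 := Submodule.finrank_mono h1
  have h3 := finrank_span_le_card (R := F) ({w} : Set (V8 F))
  rw [Set.toFinset_singleton, Finset.card_singleton] at h3
  omega

theorem exists_sep {w₁ w₂ : V8 F} (h1 : w₁ ≠ 0) (h2 : w₂ ∉ Submodule.span F {w₁}) :
    ∃ x, polar (plusForm 4 F) w₂ x = 0 ∧ polar (plusForm 4 F) w₁ x ≠ 0 := by
  by_contra hcon
  push Not at hcon
  have h0 : w₂ ≠ 0 := by
    rintro rfl
    exact h2 (Submodule.zero_mem _)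
  obtain ⟨a, ha⟩ : ∃ a, polar (plusForm 4 F) w₂ a ≠ 0 := by
    by_contra h
    push Not at h
    exact h0 (polar_plusForm_nondeg 4 w₂ h)
  set c : F := polar (plusForm 4 F) w₁ a / polar (plusForm 4 F) w₂ a with hc
  have h3 : w₁ = c • w₂ := by
    rw [← sub_eq_zero]
    apply polar_plusForm_nondeg 4
    intro v
    have h4 := hcon (v - (polar (plusForm 4 F) w₂ v / polar (plusForm 4 F) w₂ a) • a) (by
      rw [polar_sub_right, polar_smul_right, smul_eq_mul]
      field_simp
      ring)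
    rw [polar_sub_right, polar_smul_right, smul_eq_mul] at h4
    rw [polar_sub_left, polar_smul_left, smul_eq_mul, hc]
    field_simp at h4 ⊢
    linear_combination h4
  have hc0 : c ≠ 0 := by
    intro h
    rw [h, zero_smul] at h3
    exact h1 h3
  apply h2
  rw [Submodule.mem_span_singleton]
  exact ⟨c⁻¹, by rw [h3, smul_smul, inv_mul_cancel₀ hc0, one_smul]⟩

/-- the first coordinate space -/
noncomputable def Xl (F : Type*) [Field F] : Submodule F (V8 F) :=
  LinearMap.ker (LinearMap.funLeft F F (Sum.inr : Fin 4 → Fin 4 ⊕ Fin 4))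

/-- the second coordinate space -/
noncomputable def Xr (F : Type*) [Field F] : Submodule F (V8 F) :=
  LinearMap.ker (LinearMap.funLeft F F (Sum.inl : Fin 4 → Fin 4 ⊕ Fin 4))

theorem mem_Xl {v : V8 F} : v ∈ Xl F ↔ ∀ i, v (.inr i) = 0 := by
  unfold Xl
  rw [LinearMap.mem_ker]
  exact funext_iff

theorem mem_Xr {v : V8 F} : v ∈ Xr F ↔ ∀ i, v (.inl i) = 0 := by
  unfold Xr
  rw [LinearMap.mem_ker]
  exact funext_iff

theorem ts_Xl : TS (plusForm 4 F) (Xl F) := by
  intro v hv
  rw [mem_Xl] at hv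
  rw [plusForm_apply]
  exact Finset.sum_eq_zero fun i _ => by rw [hv i, mul_zero]

theorem ts_Xr : TS (plusForm 4 F) (Xr F) := by
  intro v hv
  rw [mem_Xr] at hv
  rw [plusForm_apply]
  exact Finset.sum_eq_zero fun i _ => by rw [hv i, zero_mul]

theorem finrank_Xl : finrank F (Xl F) = 4 := by
  have h1 := LinearMap.finrank_range_add_finrank_ker (LinearMap.funLeft F F (Sum.inr : Fin 4 → Fin 4 ⊕ Fin 4))
  rw [LinearMap.range_eq_top.2 (LinearMap.funLeft_surjective_of_injective F F _ Sum.inr_injective), finrank_top,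
    finrank_fin_fun, finrank_V8] at h1
  change finrank F (LinearMap.ker (LinearMap.funLeft F F (Sum.inr : Fin 4 → Fin 4 ⊕ Fin 4))) = 4
  omega

theorem finrank_Xr : finrank F (Xr F) = 4 := by
  have h1 := LinearMap.finrank_range_add_finrank_ker (LinearMap.funLeft F F (Sum.inl : Fin 4 → Fin 4 ⊕ Fin 4))
  rw [LinearMap.range_eq_top.2 (LinearMap.funLeft_surjective_of_injective F F _ Sum.inl_injective), finrank_top,
    finrank_fin_fun, finrank_V8] at h1
  change finrank F (LinearMap.ker (LinearMap.funLeft F F (Sum.inl : Fin 4 → Fin 4 ⊕ Fin 4))) = 4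
  omega

theorem im_span {b : V8 F ≃ₗ[F] V8 F} {w : V8 F} {β : F} (h : b w = β • w) (hw : w ≠ 0) :
    im b (Submodule.span F {w}) = Submodule.span F {w} := by
  have hβ : β ≠ 0 := by
    rintro rfl
    rw [zero_smul] at h
    exact hw (b.map_eq_zero_iff.1 h)
  show (Submodule.span F {w}).map b.toLinearMap = _
  rw [Submodule.map_span, Set.image_singleton]
  show Submodule.span F {b w} = _
  rw [h]
  exact Submodule.span_singleton_smul_eq (IsUnit.mk0 β hβ) w

/-- **G3** -/
theorem scalar_of {b : V8 F ≃ₗ[F] V8 F}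
    (h : ∀ u : V8 F, plusForm 4 F u = 0 → u ≠ 0 → im b (Submodule.span F {u}) = Submodule.span F {u} →
      ∃ β : F, ∀ a : V8 F, polar (plusForm 4 F) u a = 0 → b a - β • a ∈ Submodule.span F {u})
    (hex : ∃ u : V8 F, plusForm 4 F u = 0 ∧ u ≠ 0 ∧ im b (Submodule.span F {u}) = Submodule.span F {u}) :
    ∃ β : F, ∀ v, b v = β • v := by
  obtain ⟨u, hu, hu0, hbu⟩ := hex
  obtain ⟨β, hβ⟩ := h u hu hu0 hbu
  set N : V8 F →ₗ[F] V8 F := b.toLinearMap - β • LinearMap.id with hN
  have hNa : ∀ a, N a = b a - β • a := fun a => rfl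
  -- the kernel of `N` has dimension at least 6
  have hker : 6 ≤ finrank F (LinearMap.ker N) := by
    have h1 := LinearMap.finrank_range_add_finrank_ker (N.domRestrict (perp u))
    have h2 : finrank F (LinearMap.range (N.domRestrict (perp u))) ≤ 1 := by
      have h3 : LinearMap.range (N.domRestrict (perp u)) ≤ Submodule.span F {u} := by
        rintro _ ⟨a, rfl⟩
        exact hβ a (mem_perp.1 a.2)
      have h4 := Submodule.finrank_mono h3
      rw [finrank_span_singleton hu0] at h4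
      exact h4
    have h3 : finrank F (LinearMap.ker (N.domRestrict (perp u))) ≤ finrank F (LinearMap.ker N) := by
      let f : LinearMap.ker (N.domRestrict (perp u)) →ₗ[F] LinearMap.ker N :=
        { toFun := fun a => ⟨(a : perp u), a.2⟩
          map_add' := fun _ _ => rfl
          map_smul' := fun _ _ => rfl }
      refine LinearMap.finrank_le_finrank_of_injective (f := f) ?_
      intro a a' haa
      have h5 : ((a : perp u) : V8 F) = ((a' : perp u) : V8 F) :=
        congrArg (fun z : LinearMap.ker N => (z : V8 F)) haa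
      exact Subtype.ext (Subtype.ext h5)
    have h4 := finrank_perp u
    omega
  -- every singular vector of the kernel
  have key : ∀ w, w ≠ 0 → plusForm 4 F w = 0 → N w = 0 → ∀ a, polar (plusForm 4 F) w a = 0 →
      N a ∈ Submodule.span F {w} := by
    intro w hw0 hw hNw a ha
    have hbw : b w = β • w := sub_eq_zero.1 hNw
    obtain ⟨β', hβ'⟩ := h w hw hw0 (im_span hbw hw0)
    obtain ⟨a0, ha0, ha0'⟩ := exists_notMem (A := LinearMap.ker N ⊓ perp w) (by
      have h1 := finrank_inf (LinearMap.ker N) (perp w)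
      have h2 := finrank_perp w
      omega) w
    have hb0 : b a0 = β • a0 := sub_eq_zero.1 (LinearMap.mem_ker.1 ha0.1)
    have h1 := hβ' a0 (mem_perp.1 ha0.2)
    rw [hb0, ← sub_smul] at h1
    have hββ : β = β' := by
      by_contra hne
      apply ha0'
      have h2 := Submodule.smul_mem _ (β - β')⁻¹ h1
      rwa [smul_smul, inv_mul_cancel₀ (sub_ne_zero.2 hne), one_smul] at h2
    rw [hNa, hββ]
    exact hβ' a ha
  -- the image of `N` lies in every totally singular 4-space
  have key2 : ∀ Y : Submodule F (V8 F), TS (plusForm 4 F) Y → finrank F Y = 4 → ∀ v, N v ∈ Y := by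
    intro Y hY h4 v
    have h2 : 2 ≤ finrank F (LinearMap.ker N ⊓ Y : Submodule F (V8 F)) := by
      have h1 := finrank_inf (LinearMap.ker N) Y
      omega
    obtain ⟨w₁, hw₁, hw₁'⟩ := exists_notMem h2 0
    have hw₁0 : w₁ ≠ 0 := by
      rintro rfl
      exact hw₁' (Submodule.zero_mem _)
    obtain ⟨w₂, hw₂, hw₂'⟩ := exists_notMem h2 w₁
    have hw₂0 : w₂ ≠ 0 := by
      rintro rfl
      exact hw₂' (Submodule.zero_mem _)
    obtain ⟨x, hx2, hx1⟩ := exists_sep hw₁0 hw₂'
    set t : F := polar (plusForm 4 F) w₁ v / polar (plusForm 4 F) w₁ x with ht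
    have h3 : v = (v - t • x) + t • x := by rw [sub_add_cancel]
    rw [h3, map_add]
    refine Y.add_mem ?_ ?_
    · have h5 := key w₁ hw₁0 (hY w₁ hw₁.2) (LinearMap.mem_ker.1 hw₁.1) (v - t • x) (by
        rw [polar_sub_right, polar_smul_right, smul_eq_mul, ht]
        field_simp
        ring)
      exact (Submodule.span_singleton_le_iff_mem w₁ Y).2 hw₁.2 h5
    · have h5 := key w₂ hw₂0 (hY w₂ hw₂.2) (LinearMap.mem_ker.1 hw₂.1) (t • x) (by
        rw [polar_smul_right, hx2, smul_zero])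
      exact (Submodule.span_singleton_le_iff_mem w₂ Y).2 hw₂.2 h5
  refine ⟨β, fun v => ?_⟩
  have h1 := mem_Xl.1 (key2 _ ts_Xl finrank_Xl v)
  have h2 := mem_Xr.1 (key2 _ ts_Xr finrank_Xr v)
  have h3 : N v = 0 := by
    funext i
    rcases i with i | i
    · exact h2 i
    · exact h1 i
  exact sub_eq_zero.1 h3

end Cfsg.Agent.H597.OEight
end

-- part: H597/OEG4
section
/-!
# `PΩ⁺₈(q)`: G4, G5 (task 1682 of helper465)
-/

set_option autoImplicit false

namespace Cfsg.Agent.H597.OEight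

open Module QuadraticMap Cfsg.Agent.LieClassical.OrthCore Cfsg.Agent.LieClassical.OrthTrans
  Cfsg.Agent.ClassicalGeometry.OrthAut1 Cfsg.Agent.LieClassical.QuadForms Cfsg.Agent.ClassicalGeometry.TrialityOct
  Cfsg.Agent.ClassicalGeometry.Triality Cfsg.Agent.H465.OEight

variable {F : Type*} [Field F]

/-- the embedding of the first 3-space -/
def phiL (F : Type*) [Field F] : (Fin 3 → F) →ₗ[F] V8 F where
  toFun x := Sum.elim ![x 0, x 1, x 2, 0] ![0, 0, 0, 0]
  map_add' x y := by
    funext i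
    rcases i with i | i <;> (revert i; simp only [_root_.Fin.forall_fin_succ, Fin.isValue, _root_.Pi.add_apply, _root_.Sum.elim_inl, _root_.Matrix.cons_val_zero, _root_.Matrix.cons_val_succ, _root_.Matrix.cons_val_fin_one, _root_.add_zero, _root_.implies_true, _root_.and_self, _root_.Sum.elim_inr, _root_.left_eq_add])
  map_smul' c x := by
    funext i
    rcases i with i | i <;> (revert i; simp only [_root_.Fin.forall_fin_succ, Fin.isValue, _root_.Pi.smul_apply, _root_.smul_eq_mul, _root_.Sum.elim_inl, _root_.RingHom.id_apply, _root_.Matrix.cons_val_zero, _root_.Matrix.cons_val_succ, _root_.Matrix.cons_val_fin_one, _root_.MulZeroClass.mul_zero, _root_.implies_true, _root_.and_self, _root_.Sum.elim_inr])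

/-- the embedding of the second 3-space, a family -/
def phiR (F : Type*) [Field F] (t : F) : (Fin 3 → F) →ₗ[F] V8 F where
  toFun x := Sum.elim ![-(t * x 1), t * x 0, 0, 0] ![x 0, x 1, x 2, 0]
  map_add' x y := by
    funext i
    rcases i with i | i <;> (revert i; simp only [_root_.Fin.forall_fin_succ, Fin.isValue, _root_.Pi.add_apply, _root_.Sum.elim_inl, _root_.Matrix.cons_val_zero, _root_.Matrix.cons_val_succ, _root_.left_eq_add, _root_.Matrix.cons_val_fin_one, _root_.implies_true, _root_.and_self, _root_.and_true, _root_.Sum.elim_inr, _root_.add_zero]) <;> (repeat' with_reducible apply And.intro) <;> ring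
  map_smul' c x := by
    funext i
    rcases i with i | i <;> (revert i; simp only [_root_.Fin.forall_fin_succ, Fin.isValue, _root_.Pi.smul_apply, _root_.smul_eq_mul, _root_.Sum.elim_inl, _root_.RingHom.id_apply, _root_.Matrix.cons_val_zero, _root_.mul_neg, _root_.neg_inj, _root_.Matrix.cons_val_succ, _root_.MulZeroClass.mul_zero, _root_.Matrix.cons_val_fin_one, _root_.implies_true, _root_.and_self, _root_.and_true, _root_.Sum.elim_inr]) <;> (repeat' with_reducible apply And.intro) <;> ring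

theorem phiL_apply (x : Fin 3 → F) : phiL F x = Sum.elim ![x 0, x 1, x 2, 0] ![0, 0, 0, 0] := rfl

theorem phiR_apply (t : F) (x : Fin 3 → F) :
    phiR F t x = Sum.elim ![-(t * x 1), t * x 0, 0, 0] ![x 0, x 1, x 2, 0] := rfl

theorem ext3 {x y : Fin 3 → F} (h0 : x 0 = y 0) (h1 : x 1 = y 1) (h2 : x 2 = y 2) : x = y := by
  funext i
  fin_cases i
  · exact h0
  · exact h1
  · exact h2

theorem phiL_inj : Function.Injective (phiL F) := by
  intro x y h
  rw [phiL_apply, phiL_apply] at h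
  exact ext3 (by simpa using congrFun h (.inl 0)) (by simpa using congrFun h (.inl 1))
    (by simpa using congrFun h (.inl 2))

theorem phiR_inj (t : F) : Function.Injective (phiR F t) := by
  intro x y h
  rw [phiR_apply, phiR_apply] at h
  exact ext3 (by simpa using congrFun h (.inr 0)) (by simpa using congrFun h (.inr 1))
    (by simpa using congrFun h (.inr 2))

theorem frame_std (t : F) : Frame (Pi.single (.inl 3) 1) (Pi.single (.inr 3) 1) (LinearMap.range (phiL F))
    (LinearMap.range (phiR F t)) where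
  q₁ := by
    rw [plusForm_apply, Fin.sum_univ_four]
    simp
  q₂ := by
    rw [plusForm_apply, Fin.sum_univ_four]
    simp
  pair := by
    rw [polar_plusForm, Fin.sum_univ_four]
    simp
  ts₁ := by
    rintro _ ⟨x, rfl⟩
    rw [plusForm_apply, Fin.sum_univ_four, phiL_apply]
    simp
  ts₂ := by
    rintro _ ⟨x, rfl⟩
    rw [plusForm_apply, Fin.sum_univ_four, phiR_apply]
    simp only [_root_.Nat.succ_eq_add_one, _root_.Nat.reduceAdd, _root_.Fin.isValue, _root_.Sum.elim_inl, _root_.Matrix.cons_val_zero, _root_.Sum.elim_inr, _root_.neg_mul, _root_.Matrix.cons_val_one, _root_.Matrix.cons_val, _root_.MulZeroClass.zero_mul, _root_.add_zero, _root_.MulZeroClass.mul_zero]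
    ring
  d₁ := by rw [LinearMap.finrank_range_of_inj phiL_inj, finrank_fin_fun]
  d₂ := by rw [LinearMap.finrank_range_of_inj (phiR_inj t), finrank_fin_fun]
  disj := by
    rw [eq_bot_iff]
    rintro v ⟨⟨x, hx⟩, ⟨y, hy⟩⟩
    rw [phiL_apply] at hx
    rw [phiR_apply] at hy
    have h : Sum.elim ![x 0, x 1, x 2, 0] ![0, 0, 0, 0] = Sum.elim ![-(t * y 1), t * y 0, 0, 0] ![y 0, y 1, y 2, 0] :=
      hx.trans hy.symm
    have h0 : y = 0 := ext3 (by simpa using (congrFun h (.inr 0)).symm) (by simpa using (congrFun h (.inr 1)).symm)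
      (by simpa using (congrFun h (.inr 2)).symm)
    rw [Submodule.mem_bot, ← hy, ← phiR_apply, h0, map_zero]
  perp₁ := by
    rintro _ ⟨x, rfl⟩
    rw [polar_plusForm, polar_plusForm, Fin.sum_univ_four, Fin.sum_univ_four, phiL_apply]
    simp
  perp₂ := by
    rintro _ ⟨x, rfl⟩
    rw [polar_plusForm, polar_plusForm, Fin.sum_univ_four, Fin.sum_univ_four, phiR_apply]
    simp

theorem range_ne : LinearMap.range (phiR F 0) ≠ LinearMap.range (phiR F 1) := by
  intro h
  have h1 : phiR F 0 ![1, 0, 0] ∈ LinearMap.range (phiR F 1) := by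
    rw [← h]
    exact ⟨_, rfl⟩
  obtain ⟨x, hx⟩ := h1
  rw [phiR_apply, phiR_apply] at hx
  have h2 := congrFun hx (.inr 0)
  have h3 := congrFun hx (.inl 1)
  simp at h2 h3
  rw [h2] at h3
  exact one_ne_zero h3

/-- **G4** -/
theorem exists_not_swap (b : V8 F ≃ₗ[F] V8 F) :
    ∃ (c₁ c₂ : V8 F) (W₁ W₂ : Submodule F (V8 F)), Frame c₁ c₂ W₁ W₂ ∧ im b W₁ ≠ W₂ := by
  by_cases h : im b (LinearMap.range (phiL F)) = LinearMap.range (phiR F 0)
  · exact ⟨_, _, _, _, frame_std 1, fun h' => range_ne (h.symm.trans h')⟩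
  · exact ⟨_, _, _, _, frame_std 0, h⟩

end Cfsg.Agent.H597.OEight
end

-- part: H597/OEG5
section
/-!
# `PΩ⁺₈(q)`: G5 (task 1682 of helper465)

A similitude `b` of `plusForm 4 F` with `b ^ p` scalar, `p` prime, which fixes a totally singular 3-space, fixes a
singular point or a totally singular 4-space.
-/

set_option autoImplicit false

namespace Cfsg.Agent.H597.OEight

open Module QuadraticMap Cfsg.Agent.LieClassical.OrthCore Cfsg.Agent.LieClassical.OrthTrans
  Cfsg.Agent.ClassicalGeometry.OrthAut1 Cfsg.Agent.LieClassical.QuadForms Cfsg.Agent.ClassicalGeometry.TrialityOct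
  Cfsg.Agent.ClassicalGeometry.Triality Cfsg.Agent.H465.OEight

variable {F : Type*} [Field F]

/-- the second 4-space -/
def phiX (F : Type*) [Field F] : (Fin 4 → F) →ₗ[F] V8 F where
  toFun x := Sum.elim ![x 0, x 1, x 2, 0] ![0, 0, 0, x 3]
  map_add' x y := by
    funext i
    rcases i with i | i <;> (revert i; simp only [_root_.Fin.forall_fin_succ, Fin.isValue, _root_.Pi.add_apply, _root_.Sum.elim_inl, _root_.Matrix.cons_val_zero, _root_.Matrix.cons_val_succ, _root_.Matrix.cons_val_fin_one, _root_.add_zero, _root_.implies_true, _root_.and_self, _root_.Sum.elim_inr])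
  map_smul' c x := by
    funext i
    rcases i with i | i <;> (revert i; simp only [_root_.Fin.forall_fin_succ, Fin.isValue, _root_.Pi.smul_apply, _root_.smul_eq_mul, _root_.Sum.elim_inl, _root_.RingHom.id_apply, _root_.Matrix.cons_val_zero, _root_.Matrix.cons_val_succ, _root_.Matrix.cons_val_fin_one, _root_.MulZeroClass.mul_zero, _root_.implies_true, _root_.and_self, _root_.Sum.elim_inr])

theorem phiX_apply (x : Fin 4 → F) : phiX F x = Sum.elim ![x 0, x 1, x 2, 0] ![0, 0, 0, x 3] := rfl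

theorem phiX_inj : Function.Injective (phiX F) := by
  intro x y h
  rw [phiX_apply, phiX_apply] at h
  funext i
  fin_cases i
  · simpa using congrFun h (.inl 0)
  · simpa using congrFun h (.inl 1)
  · simpa using congrFun h (.inl 2)
  · simpa using congrFun h (.inr 3)

theorem ts_X1 : TS (plusForm 4 F) (LinearMap.range (phiX F)) := by
  rintro _ ⟨x, rfl⟩
  rw [plusForm_apply, Fin.sum_univ_four, phiX_apply]
  simp

theorem finrank_X1 : finrank F (LinearMap.range (phiX F)) = 4 := by
  rw [LinearMap.finrank_range_of_inj phiX_inj, finrank_fin_fun]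

theorem mem_X1 {v : V8 F} : v ∈ LinearMap.range (phiX F) ↔
    v (.inl 3) = 0 ∧ v (.inr 0) = 0 ∧ v (.inr 1) = 0 ∧ v (.inr 2) = 0 := by
  constructor
  · rintro ⟨x, rfl⟩
    rw [phiX_apply]
    simp
  · rintro ⟨h0, h1, h2, h3⟩
    refine ⟨![v (.inl 0), v (.inl 1), v (.inl 2), v (.inr 3)], ?_⟩
    rw [phiX_apply]
    funext i
    rcases i with i | i <;> (revert i; simp only [h0, h1, h2, h3, _root_.Fin.forall_fin_succ, _root_.Nat.succ_eq_add_one, Nat.reduceAdd, Fin.isValue, _root_.Matrix.cons_val_zero, _root_.Matrix.cons_val_one, _root_.Matrix.cons_val, _root_.Sum.elim_inl, _root_.Matrix.cons_val_succ, _root_.Fin.succ_zero_eq_one, _root_.Fin.succ_one_eq_two, _root_.Matrix.cons_val_fin_one, Fin.reduceSucc, _root_.IsEmpty.forall_iff, _root_.and_self, _root_.Sum.elim_inr])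

theorem mem_W0 {v : V8 F} : v ∈ LinearMap.range (phiL F) ↔ v (.inl 3) = 0 ∧ ∀ i, v (.inr i) = 0 := by
  constructor
  · rintro ⟨x, rfl⟩
    rw [phiL_apply]
    refine ⟨by simp, fun i => ?_⟩
    fin_cases i <;> simp
  · rintro ⟨h0, h1⟩
    refine ⟨![v (.inl 0), v (.inl 1), v (.inl 2)], ?_⟩
    rw [phiL_apply]
    funext i
    rcases i with i | i <;> (revert i; simp only [h0, h1, _root_.Fin.forall_fin_succ, _root_.Nat.succ_eq_add_one, Nat.reduceAdd, Fin.isValue, _root_.Matrix.cons_val_zero, _root_.Matrix.cons_val_one, _root_.Matrix.cons_val, _root_.Sum.elim_inl, _root_.Matrix.cons_val_succ, _root_.Fin.succ_zero_eq_one, _root_.Fin.succ_one_eq_two, _root_.Matrix.cons_val_fin_one, Fin.reduceSucc, _root_.IsEmpty.forall_iff, _root_.and_self, _root_.Sum.elim_inr, _root_.implies_true])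

theorem Sim.polar {b : V8 F ≃ₗ[F] V8 F} {c : F} (hb : ∀ v, plusForm 4 F (b v) = c * plusForm 4 F v) (u v : V8 F) :
    QuadraticMap.polar (plusForm 4 F) (b u) (b v) = c * QuadraticMap.polar (plusForm 4 F) u v := by
  unfold QuadraticMap.polar
  rw [← map_add, hb, hb, hb]
  ring

/-- `W₀^⊥` -/
def Pp (v : V8 F) : Prop := v (.inr 0) = 0 ∧ v (.inr 1) = 0 ∧ v (.inr 2) = 0

theorem Pp_iff {v : V8 F} : Pp v ↔ ∀ w ∈ LinearMap.range (phiL F), QuadraticMap.polar (plusForm 4 F) w v = 0 := by
  constructor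
  · rintro ⟨h0, h1, h2⟩ _ ⟨x, rfl⟩
    rw [polar_plusForm, Fin.sum_univ_four, phiL_apply]
    simp [h0, h1, h2]
  · intro h
    have h0 := h _ ⟨![1, 0, 0], rfl⟩
    have h1 := h _ ⟨![0, 1, 0], rfl⟩
    have h2 := h _ ⟨![0, 0, 1], rfl⟩
    rw [polar_plusForm, Fin.sum_univ_four, phiL_apply] at h0 h1 h2
    simp at h0 h1 h2
    exact ⟨h0, h1, h2⟩

/-- the standard case -/
theorem fixed_of_std {b : V8 F ≃ₗ[F] V8 F} (hb : Sim b) {p : ℕ} (hp : p.Prime) {s : F}
    (hbp : ∀ v, (b ^ p) v = s • v) (hbW : im b (LinearMap.range (phiL F)) = LinearMap.range (phiL F)) :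
    (∃ u : V8 F, plusForm 4 F u = 0 ∧ u ≠ 0 ∧ im b (Submodule.span F {u}) = Submodule.span F {u}) ∨
    ∃ X, TS (plusForm 4 F) X ∧ finrank F X = 4 ∧ im b X = X := by
  obtain ⟨c, hc, hQ⟩ := hb
  set W := LinearMap.range (phiL F) with hW
  have hbw : ∀ w ∈ W, b w ∈ W := by
    intro w hw
    rw [← hbW]
    exact ⟨w, hw, rfl⟩
  have hs : s ≠ 0 := by
    rintro rfl
    have h1 := hbp (Pi.single (.inl 0) 1)
    rw [zero_smul] at h1
    have h2 := ((b ^ p).map_eq_zero_iff).1 h1
    have h3 := congrFun h2 (.inl 0)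
    simp at h3
  rcases hp.eq_two_or_odd' with rfl | hodd
  · -- `p = 2`
    left
    have hd : finrank F W = 3 := (frame_std (0 : F)).d₁
    let T : W →ₗ[F] W := b.toLinearMap.restrict hbw
    have hT : ∀ w : W, ((T w : W) : V8 F) = b w := fun _ => rfl
    have hTT : T * T = s • (1 : Module.End F W) := by
      ext1 w
      apply Subtype.ext
      have h1 := hbp (w : V8 F)
      rw [pow_two] at h1
      exact h1
    have hdet : LinearMap.det T * LinearMap.det T = s ^ 3 := by
      rw [← map_mul, hTT, LinearMap.det_smul, map_one, mul_one, hd]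
    set t : F := LinearMap.det T / s with ht
    have hts : t * t = s := by
      rw [ht]
      field_simp
      linear_combination hdet
    have ht0 : t ≠ 0 := by
      intro h
      rw [h, mul_zero] at hts
      exact hs hts.symm
    obtain ⟨w, hw, hw0⟩ : ∃ w ∈ W, w ≠ 0 := by
      refine ⟨phiL F ![1, 0, 0], ⟨_, rfl⟩, ?_⟩
      intro h
      have h1 := congrFun h (.inl 0)
      rw [phiL_apply] at h1
      simp at h1
    have hbb : b (b w) = s • w := by
      have h1 := hbp w
      rw [pow_two] at h1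
      exact h1
    by_cases h0 : b w + t • w = 0
    · refine ⟨w, (frame_std (0 : F)).ts₁ w hw, hw0, im_span (β := -t) ?_ hw0⟩
      rw [neg_smul]
      exact eq_neg_of_add_eq_zero_left h0
    · refine ⟨b w + t • w, (frame_std (0 : F)).ts₁ _ (W.add_mem (hbw w hw) (W.smul_mem _ hw)), h0,
        im_span (β := t) ?_ h0⟩
      rw [map_add, map_smul, hbb, smul_add, smul_smul, hts, add_comm]
  · -- `p` odd
    right
    set e : V8 F := Pi.single (.inl 3) 1 with he
    set f : V8 F := Pi.single (.inr 3) 1 with hf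
    have hPe : Pp e := ⟨by simp [he], by simp [he], by simp [he]⟩
    have hPf : Pp f := ⟨by simp [hf], by simp [hf], by simp [hf]⟩
    have hPb : ∀ v, Pp v → Pp (b v) := by
      intro v hv
      rw [Pp_iff] at hv ⊢
      intro w hw
      obtain ⟨w', hw', rfl⟩ : w ∈ im b W := by rw [hbW]; exact hw
      show QuadraticMap.polar (plusForm 4 F) (b w') (b v) = 0
      rw [Sim.polar hQ, hv w' hw', mul_zero]
    have hQP : ∀ v, Pp v → plusForm 4 F v = v (.inl 3) * v (.inr 3) := by
      rintro v ⟨h0, h1, h2⟩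
      rw [plusForm_apply, Fin.sum_univ_four, h0, h1, h2]
      ring
    -- coordinates of `b v`
    have hdec : ∀ v, Pp v → ∃ w ∈ W, v = w + v (.inl 3) • e + v (.inr 3) • f := by
      rintro v ⟨h0, h1, h2⟩
      refine ⟨v - v (.inl 3) • e - v (.inr 3) • f, mem_W0.2 ⟨by simp [he, hf], fun i => ?_⟩, by abel⟩
      (revert i; simp only [he, hf, h0, h1, h2, _root_.Fin.forall_fin_succ, Fin.isValue, _root_.Pi.sub_apply, _root_.Pi.smul_apply, _root_.ne_eq, reduceCtorEq, _root_.not_false_eq_true, _root_.Pi.single_eq_of_ne, _root_.smul_eq_mul, _root_.MulZeroClass.mul_zero, _root_.sub_zero, _root_.Sum.inr.injEq, Fin.reduceEq, _root_.sub_self, _root_.Fin.succ_zero_eq_one, _root_.Fin.succ_one_eq_two, Fin.reduceSucc, _root_.Pi.single_eq_same, _root_.mul_one, _root_.IsEmpty.forall_iff, _root_.and_self])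
    have hl : ∀ v, Pp v → (b v) (.inl 3) = v (.inl 3) * (b e) (.inl 3) + v (.inr 3) * (b f) (.inl 3) := by
      intro v hv
      obtain ⟨w, hw, h1⟩ := hdec v hv
      have h2 : b v = b w + v (.inl 3) • b e + v (.inr 3) • b f := by
        conv_lhs => rw [h1]
        rw [map_add, map_add, map_smul, map_smul]
      rw [h2]
      have h3 := (mem_W0.1 (hbw w hw)).1
      simp only [h3, _root_.Fin.isValue, _root_.Pi.add_apply, _root_.Pi.smul_apply, _root_.smul_eq_mul, _root_.zero_add]
    have hr : ∀ v, Pp v → (b v) (.inr 3) = v (.inl 3) * (b e) (.inr 3) + v (.inr 3) * (b f) (.inr 3) := by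
      intro v hv
      obtain ⟨w, hw, h1⟩ := hdec v hv
      have h2 : b v = b w + v (.inl 3) • b e + v (.inr 3) • b f := by
        conv_lhs => rw [h1]
        rw [map_add, map_add, map_smul, map_smul]
      rw [h2]
      have h3 := (mem_W0.1 (hbw w hw)).2 3
      simp only [h3, _root_.Fin.isValue, _root_.Pi.add_apply, _root_.Pi.smul_apply, _root_.smul_eq_mul, _root_.zero_add]
    have hαβ : (b e) (.inl 3) * (b e) (.inr 3) = 0 := by
      rw [← hQP _ (hPb e hPe), hQ, hQP e hPe]
      simp [he]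
    have hγδ : (b f) (.inl 3) * (b f) (.inr 3) = 0 := by
      rw [← hQP _ (hPb f hPf), hQ, hQP f hPf]
      simp [hf]
    by_cases hβ : (b e) (.inr 3) = 0
    · refine ⟨Xl F, ts_Xl, finrank_Xl, ?_⟩
      refine Submodule.eq_of_le_of_finrank_eq ?_ (LinearEquiv.finrank_map_eq b (Xl F))
      rintro _ ⟨v, hv, rfl⟩
      have hv' := mem_Xl.1 hv
      have hPv : Pp v := ⟨hv' 0, hv' 1, hv' 2⟩
      obtain ⟨h0, h1, h2⟩ := hPb v hPv
      rw [mem_Xl]
      intro i
      show (b v) (.inr i) = 0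
      fin_cases i
      · exact h0
      · exact h1
      · exact h2
      · show (b v) (.inr 3) = 0
        rw [hr v hPv, hv' 3, hβ]
        ring
    by_cases hγ : (b f) (.inl 3) = 0
    · refine ⟨LinearMap.range (phiX F), ts_X1, finrank_X1, ?_⟩
      refine Submodule.eq_of_le_of_finrank_eq ?_ (LinearEquiv.finrank_map_eq b _)
      rintro _ ⟨v, hv, rfl⟩
      obtain ⟨h3, h0, h1, h2⟩ := mem_X1.1 hv
      have hPv : Pp v := ⟨h0, h1, h2⟩
      obtain ⟨k0, k1, k2⟩ := hPb v hPv
      rw [mem_X1]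
      refine ⟨?_, k0, k1, k2⟩
      show (b v) (.inl 3) = 0
      rw [hl v hPv, h3, hγ]
      ring
    exfalso
    have hα : (b e) (.inl 3) = 0 := (mul_eq_zero.1 hαβ).resolve_right hβ
    have hδ : (b f) (.inr 3) = 0 := (mul_eq_zero.1 hγδ).resolve_left hγ
    -- odd powers
    have hev : ∀ k : ℕ, Pp ((b ^ (2 * k)) e) ∧ ((b ^ (2 * k)) e) (.inr 3) = 0 := by
      intro k
      induction k with
      | zero => exact ⟨hPe, by simp [he]⟩
      | succ k ih =>
        have h1 : (b ^ (2 * (k + 1))) e = b (b ((b ^ (2 * k)) e)) := by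
          rw [show 2 * (k + 1) = (2 * k + 1) + 1 by ring, pow_succ', pow_succ']
          rfl
        rw [h1]
        refine ⟨hPb _ (hPb _ ih.1), ?_⟩
        rw [hr _ (hPb _ ih.1), hl _ ih.1, hα, hδ, ih.2]
        ring
    obtain ⟨k, hk⟩ := hodd
    have h1 : (b ^ p) e = b ((b ^ (2 * k)) e) := by
      rw [hk, pow_succ']
      rfl
    have h2 := hl _ (hev k).1
    rw [← h1, hα, (hev k).2, hbp] at h2
    have h3 : s * 1 = 0 := by
      simpa [he] using h2
    rw [mul_one] at h3
    exact hs h3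

theorem im_conj (g b : V8 F ≃ₗ[F] V8 F) (S : Submodule F (V8 F)) : im (g * b * g⁻¹) (im g S) = im g (im b S) := by
  ext v
  constructor
  · rintro ⟨_, ⟨w, hw, rfl⟩, rfl⟩
    refine ⟨b w, ⟨w, hw, rfl⟩, ?_⟩
    show g (b w) = g (b (g.symm (g w)))
    rw [g.symm_apply_apply]
  · rintro ⟨_, ⟨w, hw, rfl⟩, rfl⟩
    refine ⟨g w, ⟨w, hw, rfl⟩, ?_⟩
    show g (b (g.symm (g w))) = g (b w)
    rw [g.symm_apply_apply]

theorem im_injective (g : V8 F ≃ₗ[F] V8 F) : Function.Injective (im g) :=
  Submodule.map_injective_of_injective g.injective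

/-- **G5** -/
theorem fixed_of_three {b : V8 F ≃ₗ[F] V8 F} (hb : Sim b) {p : ℕ} (hp : p.Prime) {s : F}
    (hbp : ∀ v, (b ^ p) v = s • v) {W : Submodule F (V8 F)} (hW : TS (plusForm 4 F) W) (h3 : finrank F W = 3)
    (hbW : im b W = W) :
    (∃ u : V8 F, plusForm 4 F u = 0 ∧ u ≠ 0 ∧ im b (Submodule.span F {u}) = Submodule.span F {u}) ∨
    ∃ X, TS (plusForm 4 F) X ∧ finrank F X = 4 ∧ im b X = X := by
  set W0 := LinearMap.range (phiL F) with hW0
  have hd : finrank F W0 = 3 := (frame_std (0 : F)).d₁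
  have hts : TS (plusForm 4 F) W0 := (frame_std (0 : F)).ts₁
  obtain ⟨g, hgQ, hg⟩ := Cfsg.Agent.ClassicalGeometry.WittQuad.extend (plusForm 4 F)
    (by
      refine ⟨fun x hx => polar_plusForm_nondeg 4 x hx, fun x hx => polar_plusForm_nondeg 4 x fun y => ?_⟩
      have := hx y
      rwa [polarBilin_apply_apply, polar_comm] at this) W W0
    (LinearEquiv.ofFinrankEq W W0 (by rw [h3, hd]))
    (fun x => by rw [hW x x.2]; exact hts _ (Subtype.mem _))
  have hgW : im g W = W0 := by
    refine Submodule.eq_of_le_of_finrank_eq ?_ ?_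
    · rintro _ ⟨w, hw, rfl⟩
      show g w ∈ W0
      rw [hg ⟨w, hw⟩]
      exact Subtype.mem _
    · rw [hd, ← h3]
      exact LinearEquiv.finrank_map_eq g W
  have hgi : ∀ v, plusForm 4 F (g.symm v) = plusForm 4 F v := by
    intro v
    rw [← hgQ (g.symm v), g.apply_symm_apply]
  obtain ⟨c, hc, hQ⟩ := hb
  have hpow : ∀ (k : ℕ) (v : V8 F), ((g * b * g⁻¹) ^ k) v = g ((b ^ k) (g.symm v)) := by
    intro k
    induction k with
    | zero =>
      intro v
      show v = g (g.symm v)
      rw [g.apply_symm_apply]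
    | succ k ih =>
      intro v
      rw [pow_succ, pow_succ]
      show ((g * b * g⁻¹) ^ k) (g (b (g.symm v))) = g ((b ^ k) (b (g.symm v)))
      rw [ih, g.symm_apply_apply]
  have h1 := fixed_of_std (b := g * b * g⁻¹) ⟨c, hc, fun v => by
    show plusForm 4 F (g (b (g.symm v))) = c * plusForm 4 F v
    rw [hgQ, hQ, hgi]⟩ hp (s := s) (fun v => by
      rw [hpow, hbp, map_smul, g.apply_symm_apply]) (by
      rw [← hW0, ← hgW, im_conj, hbW])
  have hback : ∀ S : Submodule F (V8 F), im g (im g.symm S) = S := by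
    intro S
    ext v
    constructor
    · rintro ⟨_, ⟨w, hw, rfl⟩, rfl⟩
      show g (g.symm w) ∈ S
      rwa [g.apply_symm_apply]
    · intro hv
      exact ⟨g.symm v, ⟨v, hv, rfl⟩, g.apply_symm_apply v⟩
  rcases h1 with ⟨u, hu, hu0, h⟩ | ⟨X, hX, h4, h⟩
  · left
    have hspan : im g.symm (Submodule.span F {u}) = Submodule.span F {g.symm u} := by
      show (Submodule.span F {u}).map g.symm.toLinearMap = _
      rw [Submodule.map_span, Set.image_singleton]
      rfl
    refine ⟨g.symm u, by rw [hgi, hu], fun h0 => hu0 (g.symm.map_eq_zero_iff.1 h0), ?_⟩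
    rw [← hspan]
    apply im_injective g
    rw [← im_conj, hback, h]
  · right
    refine ⟨im g.symm X, ?_, ?_, ?_⟩
    · rintro _ ⟨w, hw, rfl⟩
      show plusForm 4 F (g.symm w) = 0
      rw [hgi, hX w hw]
    · exact (LinearEquiv.finrank_map_eq g.symm X).trans h4
    · apply im_injective g
      rw [← im_conj, hback, h]

end Cfsg.Agent.H597.OEight
end

-- part: H465/OEGam
section
/-!
# `PΩ⁺₈(q)`, `q² + q + 1` prime: automorphisms induced by similitudes (helper465)
-/

set_option autoImplicit false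
set_option linter.unusedSectionVars false

namespace Cfsg.Agent.H465.OEight

open Module QuadraticMap Cfsg.Agent.LieClassical.OrthCore Cfsg.Agent.LieClassical.OrthTrans
  Cfsg.Agent.ClassicalGeometry.OrthAut1 Cfsg.Agent.LieClassical.QuadForms Cfsg.Agent.ClassicalGeometry.TrialityOct
  Cfsg.Agent.ClassicalGeometry.Triality Cfsg.Agent.ClassicalGeometry.OrthSemi Cfsg.Agent.H198.TriAut
  Cfsg.Agent.ClassicalGeometry.TrialityIndex

universe u

variable {F : Type u} [Field F]

/-- all `⟨conj y, β⟩`, `y` of order `r`, are solvable -/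
def HS (r : ℕ) {K : Type*} [Group K] (β : MulAut K) : Prop :=
  ∀ y : K, orderOf y = r → Group.IsSolvable (Subgroup.closure ({MulAut.conj y, β} : Set (MulAut K)))

theorem HS.conj {r : ℕ} {K : Type*} [Group K] {β : MulAut K} (h : HS r β) (α : MulAut K) :
    HS r (α⁻¹ * β * α) := by
  intro y hy
  have h1 := h (α y) (by rw [MulEquiv.orderOf_eq, hy])
  have h2 : (Subgroup.closure ({MulAut.conj (α y), β} : Set (MulAut K))).map (MulAut.conj α⁻¹).toMonoidHom =
      Subgroup.closure ({MulAut.conj y, α⁻¹ * β * α} : Set (MulAut K)) := by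
    rw [MonoidHom.map_closure, Set.image_pair]
    congr 2
    · show α⁻¹ * MulAut.conj (α y) * α⁻¹⁻¹ = MulAut.conj y
      rw [inv_inv]
      ext k
      show α.symm (α y * α k * (α y)⁻¹) = y * k * y⁻¹
      rw [← map_mul, ← map_inv, ← map_mul, MulEquiv.symm_apply_apply]
  rw [← h2]
  exact Group.isSolvable_of_surjective (f := ((MulAut.conj α⁻¹).toMonoidHom.subgroupMap _))
    (MonoidHom.subgroupMap_surjective _ _)

/-- the image of a Singer element -/
theorem Singer.orderOf_mk {r : ℕ} [Fact r.Prime] {g : V8 F ≃ₗ[F] V8 F} {c₁ c₂ : V8 F}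
    {W₁ W₂ : Submodule F (V8 F)} (hG : Good (plusForm 4 F)) (h : Frame c₁ c₂ W₁ W₂)
    (hs : Singer r g c₁ c₂ W₁ W₂) : orderOf (((⟨g, hs.mem⟩ : ↥(E (plusForm 4 F))) : P8 F)) = r := by
  have hr : r.Prime := Fact.out
  have h1 : orderOf (((⟨g, hs.mem⟩ : ↥(E (plusForm 4 F))) : P8 F)) ∣ r := by
    have h2 := orderOf_map_dvd (QuotientGroup.mk' (Subgroup.center ↥(E (plusForm 4 F))))
      (⟨g, hs.mem⟩ : ↥(E (plusForm 4 F)))
    simp only [Subgroup.orderOf_mk, hs.ord] at h2
    exact h2
  rcases (Nat.dvd_prime hr).1 h1 with h2 | h2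
  · exfalso
    rw [orderOf_eq_one_iff, QuotientGroup.eq_one_iff] at h2
    obtain ⟨c, hc⟩ := center_scalar hG h2
    have h3 : c₁ = c • c₁ := by
      rw [← hc c₁]
      exact hs.fix₁.symm
    have h4 : c = 1 := by
      have h5 : (1 - c) • c₁ = 0 := by rw [sub_smul, one_smul, sub_eq_zero]; exact h3
      exact (sub_eq_zero.1 ((smul_eq_zero.1 h5).resolve_right h.c₁_ne)).symm
    have h5 : g = 1 := by
      ext1 v
      have h6 := hc v
      rw [h4, one_smul] at h6
      exact h6
    have h6 := hs.ord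
    rw [h5, orderOf_one] at h6
    exact hr.one_lt.ne h6
  · exact h2

/-- the subspace is fixed by the generators -/
theorem inv_closure {a g : V8 F ≃ₗ[F] V8 F} {S : Submodule F (V8 F)} (ha : im a S = S) (hg : ∀ v ∈ S, g v ∈ S) :
    Inv (Subgroup.closure {a, g}) S := by
  apply inv_of_im
  let T : Subgroup (V8 F ≃ₗ[F] V8 F) :=
    { carrier := {m | im m S = S}
      mul_mem' := fun {a b} (ha : im a S = S) (hb : im b S = S) => by
        show im (a * b) S = S
        rw [im_mul, hb, ha]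
      one_mem' := im_one S
      inv_mem' := fun {a} (ha : im a S = S) => by
        show im a⁻¹ S = S
        nth_rewrite 1 [← ha]
        exact im_inv_im a S }
  have h1 : Subgroup.closure {a, g} ≤ T := by
    rw [Subgroup.closure_le]
    rintro x (rfl | rfl)
    · exact ha
    · exact im_eq_of_le hg
  exact fun m hm => h1 hm

/-- the data of the group -/
structure Dat (F : Type u) [Field F] [Fintype F] (p r : ℕ) : Prop where
  good : Good (plusForm 4 F)
  card : (Fintype.card F).Prime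
  hr : r = Fintype.card F ^ 2 + Fintype.card F + 1
  gam : ¬ r ^ 2 ∣ Nat.card (Gam (plusForm 4 F))
  cen : ∀ M : Subgroup (V8 F ≃ₗ[F] V8 F), (∀ m ∈ M, Sim m) → Cen F p r M

section

variable [Fintype F] {p r : ℕ} [Fact p.Prime] [CharP F p] [Fact r.Prime] (D : Dat F p r)
include D

theorem Dat.cast : (r : F) = 1 := by
  rw [D.hr]
  push_cast
  rw [Nat.cast_card_eq_zero F]
  ring

/-- the group generated by `b` and `g` -/
theorem Dat.closure (b : SG F) (hS : HS r (psi b)) {g : V8 F ≃ₗ[F] V8 F} {c₁ c₂ : V8 F}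
    {W₁ W₂ : Submodule F (V8 F)} (h : Frame c₁ c₂ W₁ W₂) (hs : Singer r g c₁ c₂ W₁ W₂) :
    Group.IsSolvable (Subgroup.closure {b.1, g}) ∧ (∀ m ∈ Subgroup.closure {b.1, g}, Sim m) ∧
      ¬ r ^ 2 ∣ Nat.card (Subgroup.closure {b.1, g}) ∧ Cen F p r (Subgroup.closure {b.1, g}) := by
  have hsim : ∀ m ∈ Subgroup.closure {b.1, g}, Sim m := by
    have h1 : Subgroup.closure {b.1, g} ≤ SG F := by
      rw [Subgroup.closure_le]
      rintro x (rfl | rfl)
      · exact b.2
      · exact sim_of_E hs.mem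
    exact h1
  refine ⟨?_, hsim, fun h1 => D.gam (h1.trans (card_dvd_Gam hsim)), D.cen _ hsim⟩
  have h1 := hS _ (Singer.orderOf_mk D.good h hs)
  refine solvable_of D.good hsim h1 fun m hm => ?_
  -- induction on `m`
  have h2 : Subgroup.closure {b.1, g} ≤ ((Subgroup.closure ({MulAut.conj
      (((⟨g, hs.mem⟩ : ↥(E (plusForm 4 F))) : P8 F)), psi b} : Set (MulAut (P8 F)))).comap
      (psi (F := F))).map (SG F).subtype := by
    rw [Subgroup.closure_le]
    rintro x (rfl | rfl)
    · exact ⟨b, Subgroup.subset_closure (by simp), rfl⟩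
    · refine ⟨⟨x, E_le_SG hs.mem⟩, ?_, rfl⟩
      show psi ⟨x, E_le_SG hs.mem⟩ ∈ Subgroup.closure _
      simp only [psi_of_E ⟨x, hs.mem⟩]
      exact Subgroup.subset_closure (by simp)
  obtain ⟨m', hm', hmm⟩ := h2 hm
  have h3 : m' = ⟨m, hsim m hm⟩ := Subtype.ext hmm
  simp only [← h3]
  exact hm'

/-- **(A)**: a fixed singular point -/
theorem Dat.scalar_of_point (b : SG F) (hS : HS r (psi b)) {u : V8 F} (hu : plusForm 4 F u = 0) (hu0 : u ≠ 0)
    (hbu : im b.1 (Submodule.span F {u}) = Submodule.span F {u}) : ∃ a : F, ∀ v, b.1 v = a • v := by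
  refine H597.OEight.scalar_of (fun u hu hu0 hbu => ?_) ⟨u, hu, hu0, hbu⟩
  refine H184.OEScal.scalar_mod b.2 hu hu0 hbu fun X X' hX hX' h4 h4' hXX => ?_
  obtain ⟨c₂, hc⟩ := Cfsg.Agent.LieClassical.OrthTrans.exists_hyp (x := u)
    (fun x hx => polar_plusForm_nondeg 4 x hx : Nondeg (plusForm 4 F)) hu hu0
  have huX : u ∈ X := by
    have h1 : u ∈ X ⊓ X' := by rw [hXX]; exact Submodule.mem_span_singleton_self u
    exact h1.1
  have huX' : u ∈ X' := by
    have h1 : u ∈ X ⊓ X' := by rw [hXX]; exact Submodule.mem_span_singleton_self u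
    exact h1.2
  have hu2 : u ∉ perp c₂ := by
    rw [mem_perp, polar_comm, hc.pair]
    exact one_ne_zero
  have hd : ∀ Y : Submodule F (V8 F), finrank F Y = 4 → u ∈ Y → finrank F ↥(Y ⊓ perp c₂) = 3 := by
    intro Y h4 huY
    have h1 : finrank F ↥(Y ⊓ perp c₂) < finrank F Y := by
      apply Submodule.finrank_lt_finrank_of_lt
      refine lt_of_le_of_ne inf_le_left fun h2 => hu2 ?_
      have h3 : u ∈ Y ⊓ perp c₂ := by rw [h2]; exact huY
      exact h3.2
    have h2 := Submodule.finrank_sup_add_finrank_inf_eq Y (perp c₂)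
    have h3 : finrank F ↥(Y ⊔ perp c₂) ≤ 8 := by
      rw [← finrank_V8 (F := F)]
      exact Submodule.finrank_le _
    have h5 : 7 ≤ finrank F (perp c₂) := H597.OEight.finrank_perp c₂
    omega
  have hsp : ∀ Y : Submodule F (V8 F), finrank F Y = 4 → u ∈ Y →
      Submodule.span F {u} ⊔ (Y ⊓ perp c₂) = Y := by
    intro Y h4 huY
    apply Submodule.eq_of_le_of_finrank_le
    · refine sup_le ?_ inf_le_left
      rw [Submodule.span_singleton_le_iff_mem]
      exact huY
    · have h1 := Submodule.finrank_sup_add_finrank_inf_eq (Submodule.span F {u}) (Y ⊓ perp c₂)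
      have h2 : Submodule.span F {u} ⊓ (Y ⊓ perp c₂) = ⊥ := by
        rw [eq_bot_iff]
        rintro x ⟨hx, hx'⟩
        obtain ⟨a, rfl⟩ := Submodule.mem_span_singleton.1 hx
        have h3 := mem_perp.1 hx'.2
        rw [polar_smul_right, polar_comm, hc.pair, smul_eq_mul, mul_one] at h3
        rw [h3, zero_smul]
        exact Submodule.zero_mem _
      rw [h2, finrank_bot, hd Y h4 huY, finrank_span_singleton hu0] at h1
      omega
  have hF : Frame u c₂ (X ⊓ perp c₂) (X' ⊓ perp c₂) := by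
    refine ⟨hu, hc.right, hc.pair, fun w hw => hX w hw.1, fun w hw => hX' w hw.1, hd X h4 huX, hd X' h4' huX', ?_,
      fun w hw => ⟨hX.polar huX hw.1, hw.2⟩, fun w hw => ⟨hX'.polar huX' hw.1, hw.2⟩⟩
    rw [eq_bot_iff]
    rintro x ⟨hx, hx'⟩
    have h1 : x ∈ Submodule.span F {u} := by rw [← hXX]; exact ⟨hx.1, hx'.1⟩
    obtain ⟨a, rfl⟩ := Submodule.mem_span_singleton.1 h1
    have h3 := mem_perp.1 hx.2
    rw [polar_smul_right, polar_comm, hc.pair, smul_eq_mul, mul_one] at h3
    rw [h3, zero_smul]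
    exact Submodule.zero_mem _
  obtain ⟨g, hs⟩ := H462.OEight.exists_singer D.hr Fact.out hF
  obtain ⟨h1, h2, h3, h5⟩ := D.closure b hS hF hs
  have : Finite (V8 F ≃ₗ[F] V8 F) := finite_equiv
  have h6 := claim_six (p := p) hF hs h1 (Subgroup.subset_closure (by simp)) h3 h5 h2 D.cast
    (inv_closure hbu (Singer.inv_span hF hs)) (m := b.1) (Subgroup.subset_closure (by simp))
  rw [hsp X h4 huX, hsp X' h4' huX'] at h6
  exact h6

theorem Dat.exists_psi {α : MulAut (P8 F)} (h : α ∈ (Psi (plusForm 4 F)).range) : ∃ b : SG F, psi b = α := by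
  simp only [← range_psi D.card] at h
  exact h

theorem Dat.psi_eq_one_of_point (b : SG F) (hS : HS r (psi b)) {u : V8 F} (hu : plusForm 4 F u = 0) (hu0 : u ≠ 0)
    (hbu : im b.1 (Submodule.span F {u}) = Submodule.span F {u}) : psi b = 1 := by
  obtain ⟨a, ha⟩ := D.scalar_of_point b hS hu hu0 hbu
  ext k
  obtain ⟨k, rfl⟩ := QuotientGroup.mk_surjective k
  rw [psi_mk]
  show _ = (k : P8 F)
  congr 1
  apply Subtype.ext
  ext1 v
  show b.1 (k.1 (b.1⁻¹ v)) = k.1 v
  rw [ha, ← map_smul, ← ha]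
  congr 1
  exact b.1.apply_symm_apply v

/-- **(B)**: a fixed totally singular 4-space -/
theorem Dat.psi_eq_one_of_four (b : SG F) (hS : HS r (psi b)) {X : Submodule F (V8 F)}
    (hX : TS (plusForm 4 F) X) (h4 : finrank F X = 4) (hbX : im b.1 X = X) : psi b = 1 := by
  obtain ⟨α, u, hu, hu0, hα⟩ := H462.OEight.exists_aut_stab D.good hX h4
  have h1 := map_stab D.good b X
  rw [hbX, ← hα] at h1
  -- `α⁻¹ ψ(b) α` fixes the stabiliser of the point
  have h2 : (stab D.good (Submodule.span F {u})).map (α⁻¹ * psi b * α).toMonoidHom =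
      stab D.good (Submodule.span F {u}) := by
    rw [map_mulAut_mul, map_mulAut_mul, h1, map_mulAut_inv]
  have h3 := AutOrth.Final.mem_range_of_pt D.good (by rw [finrank_V8]; norm_num)
    (H907.TriFlag.pt_of_one D.good hu hu0 hu hu0 h2)
  obtain ⟨b', hb'⟩ := D.exists_psi h3
  have h5 := map_stab D.good b' (Submodule.span F {u})
  rw [hb', h2] at h5
  have hne : Submodule.span F {u} ≠ ⊥ := by
    rw [Ne, Submodule.span_singleton_eq_bot]
    exact hu0
  have hTS : TS (plusForm 4 F) (Submodule.span F {u}) := ClassicalGeometry.OrthAut2.TS_span hu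
  have hTS' : TS (plusForm 4 F) (im b'.1 (Submodule.span F {u})) := by
    rintro _ ⟨w, hw, rfl⟩
    exact Sim.q_eq_zero b'.2 (hTS w hw)
  have h6 := stab_injective D.good hTS hTS' hne (fun h0 => hne ?_) h5
  · have h7 := D.psi_eq_one_of_point b' (by rw [hb']; exact hS.conj α) hu hu0 h6.symm
    rw [hb'] at h7
    have h8 : psi b = α * (α⁻¹ * psi b * α) * α⁻¹ := by group
    (simp +singlePass only [h8]; simp only [h7]; simp only [mul_one]; simp only [mul_inv_cancel])
  · have h8 := finrank_im b'.1 (Submodule.span F {u})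
    rw [h0, finrank_bot] at h8
    exact Submodule.finrank_eq_zero.1 h8.symm

/-- **(C)**: a fixed totally singular 3-space -/
theorem Dat.psi_eq_one_of_three (b : SG F) (hS : HS r (psi b)) {ℓ : ℕ} (hℓ : ℓ.Prime) (hb : psi b ^ ℓ = 1)
    {W : Submodule F (V8 F)} (hW : TS (plusForm 4 F) W) (h3 : finrank F W = 3) (hbW : im b.1 W = W) : psi b = 1 := by
  obtain ⟨s, hs⟩ := exists_scalar (b := b ^ ℓ) D.good (by rw [map_pow]; exact hb)
  rcases H597.OEight.fixed_of_three b.2 hℓ hs hW h3 hbW with ⟨u, hu, hu0, hbu⟩ | ⟨X, hX, h4, hbX⟩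
  · exact D.psi_eq_one_of_point b hS hu hu0 hbu
  · exact D.psi_eq_one_of_four b hS hX h4 hbX

/-- **the case of similitudes** -/
theorem Dat.psi_eq_one (b : SG F) (hS : HS r (psi b)) {ℓ : ℕ} (hℓ : ℓ.Prime) (hb : psi b ^ ℓ = 1) : psi b = 1 := by
  by_contra hcon
  obtain ⟨c₁, c₂, W₁, W₂, h, hbW⟩ := H597.OEight.exists_not_swap b.1
  obtain ⟨g, hs⟩ := H462.OEight.exists_singer D.hr Fact.out h
  obtain ⟨h1, h2, h3, h5⟩ := D.closure b hS h hs
  have : Finite (V8 F ≃ₗ[F] V8 F) := finite_equiv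
  have hgM : g ∈ Subgroup.closure {b.1, g} := Subgroup.subset_closure (by simp)
  have hbM : b.1 ∈ Subgroup.closure {b.1, g} := Subgroup.subset_closure (by simp)
  have hN : NoTS (Subgroup.closure {b.1, g}) := by
    intro S hS' hI
    by_contra hne
    have hbS : im b.1 S = S := hI.im_eq hbM
    rcases Singer.finrank_cases h hs D.cast (fun v hv => hI g hgM v hv) hS' hne with h6 | h6 | h6
    · obtain ⟨u, hu0, hu⟩ := finrank_eq_one_iff'.1 h6
      have h7 : Submodule.span F {(u : V8 F)} = S := by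
        apply le_antisymm
        · rw [Submodule.span_singleton_le_iff_mem]; exact u.2
        · intro w hw
          obtain ⟨c, hc⟩ := hu ⟨w, hw⟩
          exact Submodule.mem_span_singleton.2 ⟨c, congrArg Subtype.val hc⟩
      exact hcon (D.psi_eq_one_of_point b hS (u := u) (hS' u u.2) (fun h0 => hu0 (Subtype.ext h0))
        (by rw [h7]; exact hbS))
    · exact hcon (D.psi_eq_one_of_three b hS hℓ hb hS' h6 hbS)
    · exact hcon (D.psi_eq_one_of_four b hS hS' h6 hbS)
  have h6 := claim_eight (p := p) h hs h1 hgM h3 h5 h2 D.cast hN b.1 hbM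
  rcases h6 with h6 | h6
  · exact hcon (D.psi_eq_one_of_three b hS hℓ hb h.ts₁ h.d₁ h6.1)
  · exact hbW h6.1

end

end Cfsg.Agent.H465.OEight
end

private theorem dce_cb7b098d853b : _root_.True := by
  try have : _root_.True := by simp only [_root_.Cfsg.Agent.H184.OEScal.e0.eq_1]
  try have : _root_.True := by simp only [_root_.Cfsg.Agent.H462.OEight.ext.congr_simp]
  try have : _root_.True := by simp only [_root_.Cfsg.Agent.H184.OEScal.sv.eq_1]
  try have : _root_.True := by simp only [_root_.Cfsg.Agent.H462.OEight.dualE.congr_simp]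
  exact _root_.True.intro
end

-- part: H465/OEMain_mg
section
prune_inst 0x4000002040020000000094410000000800000000000000000008000000a00000000040080000000000800000000020000000000040000004000000000100000000120000000000020008000000000000000000000000000000000000010000000000002
set_option linter.all false
open scoped Cfsg.Agent.FastGrp

-- part: H465/OETri
section
/-!
# `PΩ⁺₈(q)`, `q² + q + 1` prime: automorphisms not conjugate to similitudes (helper465)
-/

set_option autoImplicit false
set_option linter.unusedSectionVars false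

namespace Cfsg.Agent.H465.OEight

open Module QuadraticMap Cfsg.Agent.LieClassical.OrthCore Cfsg.Agent.LieClassical.OrthTrans
  Cfsg.Agent.ClassicalGeometry.OrthAut1 Cfsg.Agent.LieClassical.QuadForms Cfsg.Agent.ClassicalGeometry.TrialityOct
  Cfsg.Agent.ClassicalGeometry.Triality Cfsg.Agent.ClassicalGeometry.OrthSemi Cfsg.Agent.H198.TriAut
  Cfsg.Agent.ClassicalGeometry.TrialityIndex

universe u

variable {F : Type u} [Field F]

/-- a normal subgroup of order `r` of a subgroup contains all elements of order `r` -/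
theorem mem_of_normalises {K : Type*} [Group K] [Finite K] {r : ℕ} [Fact r.Prime] (hK : ¬ r ^ 2 ∣ Nat.card K)
    {y z : K} (hy : orderOf y = r) (hz : orderOf z = r) (hn : z * y * z⁻¹ ∈ Subgroup.zpowers y) :
    z ∈ Subgroup.zpowers y := by
  have hr : r.Prime := Fact.out
  have hpu : IsPGroup r (Subgroup.zpowers y) := IsPGroup.of_card (n := 1) (by rw [Nat.card_zpowers, hy, pow_one])
  have hpv : IsPGroup r (Subgroup.zpowers z) := IsPGroup.of_card (n := 1) (by rw [Nat.card_zpowers, hz, pow_one])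
  have hle : Subgroup.zpowers z ≤ Subgroup.normalizer (Subgroup.zpowers y : Set K) := by
    rw [Subgroup.zpowers_le, Subgroup.mem_normalizer_iff_map_conj_eq, MonoidHom.map_zpowers]
    have h1 : Subgroup.zpowers (z * y * z⁻¹) ≤ Subgroup.zpowers y := by rwa [Subgroup.zpowers_le]
    refine Subgroup.eq_of_le_of_card_ge h1 ?_
    rw [Nat.card_zpowers, Nat.card_zpowers]
    exact (MulEquiv.orderOf_eq (MulAut.conj z) y).ge
  have hsup : IsPGroup r (Subgroup.zpowers y ⊔ Subgroup.zpowers z : Subgroup K) :=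
    IsPGroup.to_sup_of_normal_left' hpu hpv hle
  obtain ⟨n, hn⟩ := IsPGroup.iff_card.1 hsup
  have h3 : n < 2 := by
    by_contra hcon
    apply hK
    have h4 : r ^ n ∣ Nat.card K := by
      rw [← hn]
      exact Subgroup.card_subgroup_dvd_card _
    exact (pow_dvd_pow r (by omega)).trans h4
  have h4 : Subgroup.zpowers y = Subgroup.zpowers y ⊔ Subgroup.zpowers z := by
    refine Subgroup.eq_of_le_of_card_ge le_sup_left ?_
    rw [hn, Nat.card_zpowers, hy]
    have h5 : r ^ n ≤ r ^ 1 := Nat.pow_le_pow_right hr.pos (by omega)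
    rwa [pow_one] at h5
  rw [h4]
  exact (le_sup_right : Subgroup.zpowers z ≤ _) (Subgroup.mem_zpowers z)

section

variable [Fintype F] {p r : ℕ} [Fact p.Prime] [CharP F p] [Fact r.Prime] (D : Dat F p r)
include D

/-- **the trialitarian case** -/
theorem Dat.normalises (hK : ¬ r ^ 2 ∣ Nat.card (P8 F)) {β : MulAut (P8 F)} (hS : HS r β) (h3 : β ^ 3 = 1)
    (hn : ∀ α : MulAut (P8 F), α⁻¹ * β * α ∉ (Psi (plusForm 4 F)).range) {g : V8 F ≃ₗ[F] V8 F} {c₁ c₂ : V8 F}
    {W₁ W₂ : Submodule F (V8 F)} (h : Frame c₁ c₂ W₁ W₂) (hs : Singer r g c₁ c₂ W₁ W₂) :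
    (Subgroup.zpowers (((⟨g, hs.mem⟩ : ↥(E (plusForm 4 F))) : P8 F))).map β.toMonoidHom =
      Subgroup.zpowers (((⟨g, hs.mem⟩ : ↥(E (plusForm 4 F))) : P8 F)) := by
  have hfinV : Finite (V8 F ≃ₗ[F] V8 F) := finite_equiv
  have hG := D.good
  set! y : P8 F := ((⟨g, hs.mem⟩ : ↥(E (plusForm 4 F))) : P8 F) with hy
  rewrite [← hy]
  have hyo : orderOf y = r := Singer.orderOf_mk hG h hs
  have hsol := hS y hyo
  set! H : Subgroup (MulAut (P8 F)) := Subgroup.closure ({MulAut.conj y, β} : Set (MulAut (P8 F))) with hH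
  rewrite [← hH] at hsol
  have hyH : MulAut.conj y ∈ H := Subgroup.subset_closure (by simp)
  have hβH : β ∈ H := Subgroup.subset_closure (by simp)
  set! L : Subgroup (P8 F) := H.comap (MulAut.conj : P8 F →* MulAut (P8 F)) with hL
  have hyL : y ∈ L := hyH
  have hLβ' : ∀ k ∈ L, β k ∈ L := by
    intro k hk
    show MulAut.conj (β k) ∈ H
    have h4 : (MulAut.conj (β k) : MulAut (P8 F)) = β * MulAut.conj k * β⁻¹ := by
      ext l
      simp only [_root_.MulAut.conj_apply, _root_.MulAut.mul_apply, _root_.MulAut.inv_apply, _root_.map_mul, _root_.MulEquiv.apply_symm_apply, _root_.map_inv]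
    rw [h4]
    exact H.mul_mem (H.mul_mem hβH hk) (H.inv_mem hβH)
  have hLβ : L.map β.toMonoidHom = L := by
    apply Subgroup.eq_of_le_of_card_ge
    · rintro _ ⟨k, hk, rfl⟩
      exact hLβ' k hk
    · rw [Subgroup.card_map_of_injective β.injective]
  set! M : Subgroup (V8 F ≃ₗ[F] V8 F) :=
    (L.comap (QuotientGroup.mk' (Subgroup.center ↥(E (plusForm 4 F))))).map (E (plusForm 4 F)).subtype with hM
  have hmem : ∀ (m : V8 F ≃ₗ[F] V8 F) (hm : m ∈ E (plusForm 4 F)),
      m ∈ M ↔ ((⟨m, hm⟩ : ↥(E (plusForm 4 F))) : P8 F) ∈ L := by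
    intro m hm
    constructor
    · rintro ⟨m', hm', rfl⟩
      exact hm'
    · intro hm'
      exact ⟨⟨m, hm⟩, hm', rfl⟩
  have hME : ∀ m ∈ M, m ∈ E (plusForm 4 F) := by
    rintro _ ⟨m, -, rfl⟩
    exact m.2
  have hsim : ∀ m ∈ M, Sim m := fun m hm => sim_of_E (hME m hm)
  have hgM : g ∈ M := (hmem g hs.mem).2 hyL
  have hMsol : Group.IsSolvable M := by
    refine solvable_of hG hsim hsol fun m hm => ?_
    have h4 := psi_of_E ⟨m, hME m hm⟩
    have h5 : psi ⟨m, hsim m hm⟩ = MulAut.conj ((⟨m, hME m hm⟩ : ↥(E (plusForm 4 F))) : P8 F) := h4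
    rw [h5]
    exact (hmem m (hME m hm)).1 hm
  have h2 : ¬ r ^ 2 ∣ Nat.card M := fun h4 => D.gam (h4.trans (card_dvd_Gam hsim))
  have hC := D.cen M hsim
  have hginv : ∀ {S : Submodule F (V8 F)}, L ≤ stab hG S → ∀ v ∈ S, g v ∈ S := fun hS' v hv =>
    apply_mem_of_mem_stab (hS' hyL) hv
  have hPerm : Perm M W₁ W₂ := by
    by_cases hN : NoTS M
    · exact claim_eight (p := p) h hs hMsol hgM h2 hC hsim D.cast hN
    · unfold NoTS at hN
      push Not at hN
      obtain ⟨S, hSTS, hSI, hSne⟩ := hN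
      have hd := Singer.finrank_cases h hs D.cast (fun v hv => hSI g hgM v hv) hSTS hSne
      have hLS : L ≤ stab hG S := by
        intro k hk
        obtain ⟨k, rfl⟩ := QuotientGroup.mk_surjective k
        exact mem_stab_of_map_le hG fun w hw => hSI k.1 ((hmem k.1 k.2).2 hk) w hw
      have hfl := H907.TriFlag.tri_flag_of hG (fun hX h4 => H462.OEight.exists_aut_stab hG hX h4)
        (fun hX h4 h3 hWX => H462.OEight.stab_le_stab hG hX h4 h3 hWX)
        (fun hW h3 => H462.OEight.exists_four hG hW h3) β h3 hn hLβ hSTS hd hLS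
      rcases hfl with ⟨C, W, hW, hCW, hC1, hW3, hLC, hLW⟩ | ⟨C, U₁, U₂, -, hU₁, hU₂, -, hd₁, hd₂, hne, -, -, -, -, -,
        hL₁, hL₂⟩
      · exfalso
        obtain ⟨c, hc0, -⟩ := finrank_eq_one_iff'.1 hC1
        have hc0' : (c : V8 F) ≠ 0 := fun h0 => hc0 (Subtype.ext h0)
        have hle : W ≤ C := by
          rcases Singer.eq_of_three h hs D.cast (hginv hLW) hW hW3 with h5 | h5
          · rw [h5]
            exact Singer.le_of_mem h hs (hginv hLC) (h5 ▸ hCW c.2) hc0' c.2
          · rw [h5]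
            exact Singer.le_of_mem h.symm hs.symm (hginv hLC) (h5 ▸ hCW c.2) hc0' c.2
        have h5 := Submodule.finrank_mono hle
        omega
      · have h5 := Singer.eq_of_three h hs D.cast (hginv hL₁) hU₁ hd₁
        have h6 := Singer.eq_of_three h hs D.cast (hginv hL₂) hU₂ hd₂
        have h7 : L ≤ stab hG W₁ ∧ L ≤ stab hG W₂ := by
          rcases h5 with h5 | h5 <;> rcases h6 with h6 | h6
          · exact absurd (h5.trans h6.symm) hne
          · exact ⟨h5 ▸ hL₁, h6 ▸ hL₂⟩
          · exact ⟨h6 ▸ hL₂, h5 ▸ hL₁⟩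
          · exact absurd (h5.trans h6.symm) hne
        intro m hm
        have h8 := (hmem m (hME m hm)).1 hm
        exact Or.inl ⟨mem_stab.1 (h7.1 h8), mem_stab.1 (h7.2 h8)⟩
  have hnor : ∀ k ∈ L, k * y * k⁻¹ ∈ Subgroup.zpowers y := by
    intro k hk
    have hob_ := QuotientGroup.mk_surjective k
    obtain ⟨k, rfl⟩ := hob_
    have h4 := normal_of_permutes (p := p) h hs hMsol hgM h2 hC hsim hPerm ((hmem k.1 k.2).2 hk)
    have hob_ := Subgroup.mem_zpowers_iff.1 h4
    obtain ⟨j, hj⟩ := hob_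
    refine Subgroup.mem_zpowers_iff.2 ⟨j, ?_⟩
    have h5 : (⟨g, hs.mem⟩ : ↥(E (plusForm 4 F))) ^ j = k * ⟨g, hs.mem⟩ * k⁻¹ := by
      apply Subtype.ext
      push_cast
      exact hj
    rw [hy]
    exact congrArg (QuotientGroup.mk' (Subgroup.center ↥(E (plusForm 4 F)))) h5
  have h5 : β y ∈ Subgroup.zpowers y :=
    mem_of_normalises hK hyo (by rw [MulEquiv.orderOf_eq, hyo]) (hnor _ (hLβ' y hyL))
  rw [MonoidHom.map_zpowers]
  apply Subgroup.eq_of_le_of_card_ge
  · rw [Subgroup.zpowers_le]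
    exact h5
  · rw [Nat.card_zpowers, Nat.card_zpowers]
    exact (MulEquiv.orderOf_eq β y).ge

end

end Cfsg.Agent.H465.OEight
end

-- part: H465/OEFin
section
/-!
# `PΩ⁺₈(q)`, `q² + q + 1` prime: the final argument (helper465)
-/

set_option autoImplicit false
set_option linter.unusedSectionVars false

namespace Cfsg.Agent.H465.OEight

open Module QuadraticMap Cfsg.Agent.LieClassical.OrthCore Cfsg.Agent.LieClassical.OrthTrans
  Cfsg.Agent.ClassicalGeometry.OrthAut1 Cfsg.Agent.LieClassical.QuadForms Cfsg.Agent.ClassicalGeometry.TrialityOct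
  Cfsg.Agent.ClassicalGeometry.Triality Cfsg.Agent.ClassicalGeometry.OrthSemi Cfsg.Agent.H198.TriAut
  Cfsg.Agent.ClassicalGeometry.TrialityIndex

universe u

variable {F : Type u} [Field F] [Fintype F] {p r : ℕ} [Fact p.Prime] [CharP F p] [Fact r.Prime] (D : Dat F p r)
include D

theorem Dat.finite_P8 : Finite (P8 F) := by
  have h1 : Finite (V8 F ≃ₗ[F] V8 F) := finite_equiv
  infer_instance

/-- no automorphism of prime order generates solvable groups with all elements of order `r` -/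
theorem Dat.not_HS [IsSimpleGroup (P8 F)] (hZ : Subgroup.center (P8 F) = ⊥) (hK : ¬ r ^ 2 ∣ Nat.card (P8 F))
    (hpow : ∀ x : MulAut (P8 F), (orderOf x).Prime → (∀ a : MulAut (P8 F), a⁻¹ * x * a ∉
      (Psi (plusForm 4 F)).range) → x ^ 3 = 1)
    {β : MulAut (P8 F)} (hβ : (orderOf β).Prime) : ¬ HS r β := by
  intro hS
  have hfin := D.finite_P8
  have hr : r.Prime := Fact.out
  have hne : β ≠ 1 := by
    rintro rfl
    rw [orderOf_one] at hβ
    exact Nat.not_prime_one hβ
  by_cases hc : ∃ α : MulAut (P8 F), α⁻¹ * β * α ∈ (Psi (plusForm 4 F)).range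
  · obtain ⟨α, hα⟩ := hc
    obtain ⟨b, hb⟩ := D.exists_psi hα
    have h1 : (α⁻¹ * β * α) ^ orderOf β = 1 := by
      have h2 : α⁻¹ * β * α = α⁻¹ * β * α⁻¹⁻¹ := by simp only [inv_inv]
      simp only [h2, conj_pow, pow_orderOf_eq_one, mul_one, mul_inv_cancel]
    have h2 := D.psi_eq_one b (by rw [hb]; exact hS.conj α) hβ (by rw [hb]; exact h1)
    apply hne
    have h3 : β = α * (α⁻¹ * β * α) * α⁻¹ := by group
    (rewrite [h3]; simp only [← hb]; simp only [h2]; simp only [mul_one]; simp only [mul_inv_cancel])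
  · push Not at hc
    have h3 := hpow β hβ hc
    obtain ⟨c₁, c₂, W₁, W₂, h, -⟩ := H597.OEight.exists_not_swap (1 : V8 F ≃ₗ[F] V8 F)
    obtain ⟨g, hs⟩ := H462.OEight.exists_singer D.hr Fact.out h
    have hyo := Singer.orderOf_mk D.good h hs
    set! y : P8 F := ((⟨g, hs.mem⟩ : ↥(E (plusForm 4 F))) : P8 F) with hy
    rewrite [← hy] at hyo
    apply hne
    refine SU.eq_one_of_normalises (A := Subgroup.zpowers y) (fun hn => ?_) fun k => ?_
    · rcases hn.eq_bot_or_eq_top with h1 | h1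
      · rw [Subgroup.zpowers_eq_bot] at h1
        rw [h1, orderOf_one] at hyo
        exact hr.one_lt.ne hyo
      · have h2 : y ∈ Subgroup.center (P8 F) := by
          rw [Subgroup.mem_center_iff]
          intro k
          have h3 : k ∈ Subgroup.zpowers y := by rw [h1]; trivial
          obtain ⟨j, rfl⟩ := Subgroup.mem_zpowers_iff.1 h3
          exact ((Commute.refl y).zpow_left j).eq
        rw [hZ, Subgroup.mem_bot] at h2
        rw [h2, orderOf_one] at hyo
        exact hr.one_lt.ne hyo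
    · -- conjugate `β`
      have h4 : ((MulAut.conj k)⁻¹ * β * MulAut.conj k) ^ 3 = 1 := by
        have h2 : (MulAut.conj k)⁻¹ * β * MulAut.conj k = (MulAut.conj k)⁻¹ * β * (MulAut.conj k)⁻¹⁻¹ := by
          simp only [inv_inv]
        simp only [h2, conj_pow, h3, mul_one, mul_inv_cancel]
      have h5 := D.normalises hK (hS.conj (MulAut.conj k)) h4 (fun α => by
        have h6 : α⁻¹ * ((MulAut.conj k)⁻¹ * β * MulAut.conj k) * α =
            (MulAut.conj k * α)⁻¹ * β * (MulAut.conj k * α) := by group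
        simp only [h6]
        exact hc _) h hs
      simp only [← hy, map_mulAut_mul, map_mulAut_mul] at h5
      have h6 := congrArg (fun A : Subgroup (P8 F) => A.map (MulAut.conj k).toMonoidHom) h5
      simp only [map_mulAut_inv'] at h6
      exact h6

/-- the strong generation property -/
theorem Dat.exc [IsSimpleGroup (P8 F)] (hZ : Subgroup.center (P8 F) = ⊥) (hK : ¬ r ^ 2 ∣ Nat.card (P8 F))
    (hpow : ∀ x : MulAut (P8 F), (orderOf x).Prime → (∀ a : MulAut (P8 F), a⁻¹ * x * a ∉
      (Psi (plusForm 4 F)).range) → x ^ 3 = 1) (hO : ¬ r ∣ Nat.card (Cfsg.Out (P8 F))) : H518.SU.Exc2 (P8 F) := by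
  have hfin := D.finite_P8
  have hr : r.Prime := Fact.out
  obtain ⟨c₁, c₂, W₁, W₂, h, -⟩ := H597.OEight.exists_not_swap (1 : V8 F ≃ₗ[F] V8 F)
  obtain ⟨g, hs⟩ := H462.OEight.exists_singer D.hr Fact.out h
  have hyo := Singer.orderOf_mk D.good h hs
  have h5 : 5 ≤ r := by
    have h1 := D.card.two_le
    rw [D.hr]
    nlinarith only [h1]
  refine ⟨r, hr, h5, hO, hK, _, hyo, fun β hβ => ?_⟩
  have h6 := D.not_HS hZ hK hpow hβ
  unfold HS at h6
  push Not at h6
  obtain ⟨z, hz, hns⟩ := h6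
  have hob_ := H518.SU.exists_conj_zpowers hr hK hyo hz
  obtain ⟨k, hk⟩ := hob_
  refine ⟨k, fun hsol => hns ?_⟩
  have hle : Subgroup.closure ({MulAut.conj z, β} : Set (MulAut (P8 F))) ≤
      Subgroup.closure ({MulAut.conj (k * ((⟨g, hs.mem⟩ : ↥(E (plusForm 4 F))) : P8 F) * k⁻¹), β} :
        Set (MulAut (P8 F))) := by
    rw [Subgroup.closure_le]
    rintro x (rfl | rfl)
    · have hob_ := Subgroup.mem_zpowers_iff.1 hk
      obtain ⟨j, hj⟩ := hob_
      rw [← hj, map_zpow]
      exact Subgroup.zpow_mem _ (Subgroup.subset_closure (by simp only [_root_.map_mul, _root_.map_inv, _root_.Set.mem_insert_iff, _root_.Set.mem_singleton_iff, _root_.true_or])) j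
    · exact Subgroup.subset_closure (by simp only [_root_.map_mul, _root_.map_inv, _root_.Set.mem_insert_iff, _root_.Set.mem_singleton_iff, _root_.or_true])
  exact Group.isSolvable_of_isSolvable_injective (f := Subgroup.inclusion hle) (Subgroup.inclusion_injective hle)

end Cfsg.Agent.H465.OEight
end

-- part: H597/OECards
section
/-!
# Orders: `PΩ⁺₈(q)`, `q = 2, 3, 5`, `r = q² + q + 1`
-/

set_option autoImplicit false

namespace Cfsg.Agent.H597.OECards

open Module QuadraticMap Cfsg.Agent.LieClassical.OrthCore Cfsg.Agent.LieClassical.OrthTrans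
  Cfsg.Agent.LieClassical.OrthSimple
  Cfsg.Agent.ClassicalGeometry.OrthAut1 Cfsg.Agent.LieClassical.QuadForms Cfsg.Agent.ClassicalGeometry.TrialityOct
  Cfsg.Agent.ClassicalGeometry.Triality Cfsg.Agent.ClassicalGeometry.OrthSemi Cfsg.Agent.H198.TriAut
  Cfsg.Agent.H989.OutOrth.Four

variable {F : Type*} [Field F] [Fintype F]

/-- the isomorphism of `POmega` with `P8` -/
noncomputable def pe8 : Cfsg.POmega F (Cfsg.quadFormPlus 4 F) ≃* P8 F :=
  Classical.choice (by
    rw [← Cfsg.Agent.LieClassical.OrthForms.coe_plusForm, Cfsg.Agent.AutOrth.Main.plusForm_eq]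
    exact ⟨Cfsg.Agent.AutOrth.Main.pe good4⟩)

omit [Fintype F] in
theorem isSimpleGroup_P8 [Finite F] : IsSimpleGroup (P8 F) := by
  have := Fintype.ofFinite F
  exact good_isSimpleGroup good4

theorem card_P8 : Nat.gcd 4 (Fintype.card F ^ 4 - 1) * Nat.card (P8 F) =
    Fintype.card F ^ 12 * (Fintype.card F ^ 4 - 1) * ∏ i ∈ Finset.range 3, (Fintype.card F ^ (2 * (i + 1)) - 1) := by
  rw [← Nat.card_congr (pe8 (F := F)).toEquiv]
  exact Cfsg.Agent.S0293.result (F := F) rfl 4 le_rfl

theorem card_two (h : Fintype.card F = 2) : Nat.card (P8 F) = 174182400 := by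
  have h1 := card_P8 (F := F)
  rw [h, Finset.prod_range_succ, Finset.prod_range_succ, Finset.prod_range_one] at h1
  norm_num only [_root_.one_mul] at h1
  exact h1

theorem card_three (h : Fintype.card F = 3) : Nat.card (P8 F) = 4952179814400 := by
  have h1 := card_P8 (F := F)
  rw [h, Finset.prod_range_succ, Finset.prod_range_succ, Finset.prod_range_one] at h1
  norm_num only [] at h1
  omega

theorem card_five (h : Fintype.card F = 5) : Nat.card (P8 F) = 8911539000000000000 := by
  have h1 := card_P8 (F := F)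
  rw [h, Finset.prod_range_succ, Finset.prod_range_succ, Finset.prod_range_one] at h1
  norm_num only [] at h1
  omega

theorem card_out_of {p : ℕ} [Fact p.Prime] (h : Fintype.card F = p) :
    Nat.card (Cfsg.Out (P8 F)) = 3 * (if p = 2 then 2 else 8) := by
  have h1 := card_Out4 (F := F) (p := p) (f := 1) le_rfl (by rw [h, pow_one])
  rw [mul_one] at h1
  exact h1

theorem card_Gam_of {p : ℕ} [Fact p.Prime] (h : Fintype.card F = p) :
    Nat.card (Gam (plusForm 4 F)) = (if p = 2 then 2 else 8) * (p - 1) * Nat.card (P8 F) := by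
  have h1 := card_Gam (good4 (F := F))
  have h2 := card_Psi (F := F) (p := p) (f := 1) le_rfl (by rw [h, pow_one])
  ((conv at h2 => enter [@3, @5]; rw [mul_one]); (conv at h2 => enter [@3, @6]; rw [Nat.card_congr (Cfsg.Agent.AutOrth.Main.pe (good4 (F := F))).toEquiv]))
  rw [h1, h2, Nat.card_units, Nat.card_eq_fintype_card (α := F), h]
  change _ * Nat.card (P8 F) * _ = _
  ring

theorem card_Gam_two (h : Fintype.card F = 2) : Nat.card (Gam (plusForm 4 F)) = 348364800 := by
  have : Fact (Nat.Prime 2) := ⟨Nat.prime_two⟩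
  rw [card_Gam_of h, card_two h]
  norm_num

theorem card_Gam_three (h : Fintype.card F = 3) : Nat.card (Gam (plusForm 4 F)) = 16 * 4952179814400 := by
  have : Fact (Nat.Prime 3) := ⟨Nat.prime_three⟩
  rw [card_Gam_of h, card_three h]
  norm_num

theorem card_Gam_five (h : Fintype.card F = 5) : Nat.card (Gam (plusForm 4 F)) = 32 * 8911539000000000000 := by
  have : Fact (Nat.Prime 5) := ⟨Nat.prime_five⟩
  rw [card_Gam_of h, card_five h]
  norm_num

theorem not_dvd_out (hq : Fintype.card F = 2 ∨ Fintype.card F = 3 ∨ Fintype.card F = 5) :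
    ¬ Fintype.card F ^ 2 + Fintype.card F + 1 ∣ Nat.card (Cfsg.Out (P8 F)) := by
  rcases hq with h | h | h
  · have : Fact (Nat.Prime 2) := ⟨Nat.prime_two⟩
    rw [card_out_of h, h]
    norm_num
  · have : Fact (Nat.Prime 3) := ⟨Nat.prime_three⟩
    rw [card_out_of h, h]
    norm_num
  · have : Fact (Nat.Prime 5) := ⟨Nat.prime_five⟩
    rw [card_out_of h, h]
    norm_num

theorem not_sq_card (hq : Fintype.card F = 2 ∨ Fintype.card F = 3 ∨ Fintype.card F = 5) :
    ¬ (Fintype.card F ^ 2 + Fintype.card F + 1) ^ 2 ∣ Nat.card (P8 F) := by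
  rcases hq with h | h | h
  · rw [card_two h, h]; norm_num
  · rw [card_three h, h]; norm_num
  · rw [card_five h, h]; norm_num

theorem not_sq_Gam (hq : Fintype.card F = 2 ∨ Fintype.card F = 3 ∨ Fintype.card F = 5) :
    ¬ (Fintype.card F ^ 2 + Fintype.card F + 1) ^ 2 ∣ Nat.card (Gam (plusForm 4 F)) := by
  rcases hq with h | h | h
  · rw [card_Gam_two h, h]; norm_num
  · rw [card_Gam_three h, h]; norm_num
  · rw [card_Gam_five h, h]; norm_num

omit [Field F] in
theorem prime_r (hq : Fintype.card F = 2 ∨ Fintype.card F = 3 ∨ Fintype.card F = 5) :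
    (Fintype.card F ^ 2 + Fintype.card F + 1).Prime := by
  rcases hq with h | h | h <;> rw [h] <;> norm_num

theorem arith_two (hq : Fintype.card F = 2) : ∀ t k : ℕ, t.Prime → t ≠ 7 → t ≠ 2 →
    t ^ k ∣ Nat.card (Gam (plusForm 4 F)) → 7 ∣ t ^ k - 1 → k = 0 := by
  intro t k ht ht7 ht2 hd h7
  rw [card_Gam_two hq] at hd
  by_contra hk
  have h1 : t ∣ 348364800 := (dvd_pow_self t hk).trans hd
  have h2 : (348364800 : ℕ) = 2 ^ 13 * 3 ^ 5 * 5 ^ 2 * 7 := by norm_num
  have h3 : t = 3 ∨ t = 5 := by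
    rw [h2] at h1
    rcases ht.dvd_mul.1 h1 with h1 | h1
    · rcases ht.dvd_mul.1 h1 with h1 | h1
      · rcases ht.dvd_mul.1 h1 with h1 | h1
        · exact absurd ((Nat.prime_dvd_prime_iff_eq ht Nat.prime_two).1 (ht.dvd_of_dvd_pow h1)) ht2
        · exact Or.inl ((Nat.prime_dvd_prime_iff_eq ht Nat.prime_three).1 (ht.dvd_of_dvd_pow h1))
      · exact Or.inr ((Nat.prime_dvd_prime_iff_eq ht Nat.prime_five).1 (ht.dvd_of_dvd_pow h1))
    · exact absurd ((Nat.prime_dvd_prime_iff_eq ht (by norm_num)).1 h1) ht7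
  rcases h3 with rfl | rfl
  · have h4 : k < 6 := by
      by_contra h4
      have h5 := (pow_dvd_pow 3 (not_lt.1 h4)).trans hd
      norm_num at h5
    interval_cases k <;> revert h7 hk <;> norm_num
  · have h4 : k < 3 := by
      by_contra h4
      have h5 := (pow_dvd_pow 5 (not_lt.1 h4)).trans hd
      norm_num at h5
    interval_cases k <;> revert h7 hk <;> norm_num

omit [Fintype F] in
theorem center_P8 [Finite F] : Subgroup.center (P8 F) = ⊥ := by
  have := Fintype.ofFinite F
  have hs : IsSimpleGroup (P8 F) := isSimpleGroup_P8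
  have h1 := Cfsg.Agent.H989.OutOrth.Basic.conj_injective (good4 (F := F))
  rw [Subgroup.eq_bot_iff_forall]
  intro x hx
  apply h1
  ext y
  rw [MulAut.conj_apply, map_one, MulAut.one_apply]
  change x * y * x⁻¹ = y
  rw [← Subgroup.mem_center_iff.1 hx y, mul_inv_cancel_right]

end Cfsg.Agent.H597.OECards
end

-- part: H907/IndexThree
section
/-!
# Elements of prime order without a conjugate in a subgroup of index three (helper907)
-/

set_option autoImplicit false

namespace Cfsg.Agent.H907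

/-- a permutation of three points without fixed points has cube one -/
theorem perm_three_cube : ∀ σ : Equiv.Perm (Fin 3), (∀ i, σ i ≠ i) → σ ^ 3 = 1 := by
  decide +kernel

/-- an element of prime order without a conjugate in a subgroup of index three has order three -/
theorem pow_three {A : Type*} [Group A] [Finite A] (Γ : Subgroup A) (h3 : Γ.index = 3) {x : A}
    (hx : (orderOf x).Prime) (hn : ∀ a : A, a⁻¹ * x * a ∉ Γ) : x ^ 3 = 1 := by
  classical
  have hcard : Nat.card (A ⧸ Γ) = 3 := h3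
  have hfin : Finite (A ⧸ Γ) := Nat.finite_of_card_ne_zero (by rw [hcard]; decide)
  let e : (A ⧸ Γ) ≃ Fin 3 := Finite.equivFinOfCardEq hcard
  let f : A →* Equiv.Perm (A ⧸ Γ) := MulAction.toPermHom A (A ⧸ Γ)
  have hfix : ∀ q : A ⧸ Γ, f x q ≠ q := by
    intro q
    obtain ⟨a, rfl⟩ := QuotientGroup.mk_surjective q
    intro h
    have h1 : ((x * a : A) : A ⧸ Γ) = (a : A ⧸ Γ) := h
    have h2 := QuotientGroup.eq.1 h1.symm
    exact hn a (by rw [mul_assoc]; exact h2)
  have hcube : f (x ^ 3) = 1 := by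
    have h1 : (e.permCongr (f x)) ^ 3 = 1 := by
      apply perm_three_cube
      intro i hi
      apply hfix (e.symm i)
      have h2 : e (f x (e.symm i)) = i := hi
      exact (Equiv.eq_symm_apply e).2 h2
    rw [map_pow]
    have h2 : e.permCongrHom ((f x) ^ 3) = e.permCongrHom 1 := by
      rw [map_pow, map_one]
      exact h1
    exact e.permCongrHom.injective h2
  by_contra hne
  -- the order is coprime to three
  have hnd : ¬ orderOf x ∣ 3 := fun h => hne (orderOf_dvd_iff_pow_eq_one.1 h)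
  have hcop : Nat.Coprime 3 (orderOf x) := by
    rw [Nat.coprime_primes Nat.prime_three hx]
    intro h
    exact hnd (by rw [← h])
  obtain ⟨m, hm⟩ := exists_pow_eq_self_of_coprime hcop
  have h1 : f x = 1 := by
    rw [← hm, map_pow, hcube, one_pow]
  apply hfix (QuotientGroup.mk 1)
  rw [h1]
  rfl

end Cfsg.Agent.H907
end

-- part: H465/OEMain
section
/-!
# `PΩ⁺₈(q)`, `q = 2, 3, 5` (helper465)
-/

set_option autoImplicit false

namespace Cfsg.Agent.H465.OEight

open Module QuadraticMap Cfsg.Agent.LieClassical.OrthCore Cfsg.Agent.LieClassical.OrthTrans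
  Cfsg.Agent.ClassicalGeometry.OrthAut1 Cfsg.Agent.LieClassical.QuadForms Cfsg.Agent.ClassicalGeometry.TrialityOct
  Cfsg.Agent.ClassicalGeometry.Triality Cfsg.Agent.ClassicalGeometry.OrthSemi Cfsg.Agent.H198.TriAut

universe u

variable {F : Type u} [Field F] [Fintype F]

theorem exc_P8 (hq : Fintype.card F = 2 ∨ Fintype.card F = 3 ∨ Fintype.card F = 5) : H518.SU.Exc2 (P8 F) := by
  have hp : (Fintype.card F).Prime := by
    rcases hq with h | h | h <;> rw [h] <;> norm_num
  have hfp : Fact (Fintype.card F).Prime := ⟨hp⟩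
  have hchar : CharP F (Fintype.card F) := charP_of_card_eq_prime rfl
  have hr := H597.OECards.prime_r hq
  have hfr : Fact (Fintype.card F ^ 2 + Fintype.card F + 1).Prime := ⟨hr⟩
  have hfinV : Finite (V8 F ≃ₗ[F] V8 F) := finite_equiv
  have D : Dat F (Fintype.card F) (Fintype.card F ^ 2 + Fintype.card F + 1) := by
    refine ⟨AutOrth.Main.good_plus (by norm_num), hp, rfl, H597.OECards.not_sq_Gam hq, fun M hM => ?_⟩
    by_cases h2 : Fintype.card F = 2
    · refine cen_of_arith hr M fun t k ht htr htp htk hrt => ?_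
      have h3 : Fintype.card F ^ 2 + Fintype.card F + 1 = 7 := by rw [h2]; norm_num
      rw [h3] at htr hrt
      rw [h2] at htp
      exact H597.OECards.arith_two h2 t k ht htr htp (htk.trans (card_dvd_Gam hM)) hrt
    · refine cen_of_lin hr ?_ M
      rcases hq with h | h | h
      · exact absurd h h2
      · rw [h]; norm_num
      · rw [h]; norm_num
  have hs : IsSimpleGroup (P8 F) := H597.OECards.isSimpleGroup_P8
  have hfP := D.finite_P8
  have hfA : Finite (MulAut (P8 F)) := inferInstance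
  refine D.exc H597.OECards.center_P8 (H597.OECards.not_sq_card hq) (fun x hx hn => ?_)
    (H597.OECards.not_dvd_out hq)
  refine H907.pow_three _ ?_ hx hn
  have h3 := AutOrth.Final.index_plus_four (F := F)
  rw [AutOrth.Main.plusForm_eq] at h3
  exact h3

end Cfsg.Agent.H465.OEight
end

-- part: H518/SUHerm
section
/-!
# Hermitian planes over the field with four elements
-/

set_option autoImplicit false
set_option linter.unusedSectionVars false

namespace Cfsg.Agent.H518.SU

open Module Cfsg.Agent.H518.DghpFix Cfsg.Agent.H518.DghpPrim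

universe u v w w'

section

variable {F : Type u} [Field F] [Fintype F] {V : Type v} [AddCommGroup V] [Module F V] {B : V → V → F}

/-- A hermitian form over the field with four elements. -/
structure Hm (B : V → V → F) : Prop extends Frm B where
  herm : ∀ x y, B y x = B x y ^ 2
  cd : Fintype.card F = 4

theorem Hm.two (h : Hm B) : (2 : F) = 0 := by
  have h1 := FiniteField.cast_card_eq_zero F
  rw [h.cd] at h1
  have h2 : (2 : F) * 2 = 0 := by
    have : ((4 : ℕ) : F) = 2 * 2 := by norm_num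
    rw [← this, h1]
  exact mul_self_eq_zero.1 h2

theorem Hm.pow_four (h : Hm B) (x : F) : x ^ 4 = x := by
  have := FiniteField.pow_card x
  rwa [h.cd] at this

theorem Hm.add_sq (h : Hm B) (x y : F) : (x + y) ^ 2 = x ^ 2 + y ^ 2 := by
  linear_combination (x * y) * h.two

theorem Hm.addl (h : Hm B) (a b c : V) : B (a + b) c = B a c + B b c := by
  rw [h.herm c, h.add, h.add_sq, ← h.herm, ← h.herm]

theorem Hm.smull (h : Hm B) (t : F) (a b : V) : B (t • a) b = t ^ 2 * B a b := by
  rw [h.herm b, h.smul, mul_pow, ← h.herm]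

theorem Hm.zl (h : Hm B) (a : V) : B 0 a = 0 := by
  rw [h.herm a, h.toFrm.zero]
  norm_num

theorem Hm.suml (h : Hm B) {ι : Type*} (s : Finset ι) (f : ι → V) (x : V) :
    B (∑ i ∈ s, f i) x = ∑ i ∈ s, B (f i) x := by
  classical
  induction s using Finset.induction_on with
  | empty => simp [h.zl]
  | insert a s ha ih => rw [Finset.sum_insert ha, Finset.sum_insert ha, h.addl, ih]

/-- Prescribed values on a linearly independent family. -/
theorem Hm.exists_vec (h : Hm B) {k : ℕ} {w : Fin k → V}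
    (hw : LinearIndependent F w) (c : Fin k → F) : ∃ v, ∀ i, B (w i) v = c i := by
  let L : V →ₗ[F] (Fin k → F) :=
    { toFun := fun y i => B (w i) y
      map_add' := fun y z => by
        funext i
        exact h.add _ _ _
      map_smul' := fun c y => by
        funext i
        exact h.smul _ _ _ }
  have hL : LinearMap.range L = ⊤ := by
    by_contra hne
    obtain ⟨f, hf, hfL⟩ := Submodule.exists_le_ker_of_lt_top _ (lt_top_iff_ne_top.2 hne)
    apply hf
    have h1 : ∑ i, (f (Pi.single i 1) ^ 2) • w i = 0 := by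
      apply h.nondeg
      intro v
      rw [h.suml]
      have h2 : f (L v) = 0 := hfL ⟨v, rfl⟩
      have h3 : L v = ∑ i, B (w i) v • (Pi.single i 1 : Fin k → F) := by
        funext j
        simp only [Finset.sum_apply, Pi.single_apply, L, _root_.LinearMap.coe_mk, _root_.AddHom.coe_mk, _root_.Pi.smul_apply, _root_.smul_eq_mul, _root_.mul_ite, _root_.mul_one, _root_.MulZeroClass.mul_zero, _root_.Finset.sum_ite_eq, _root_.Finset.mem_univ, ↓ _root_.reduceIte]
      rw [h3, map_sum] at h2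
      rw [← h2]
      refine Finset.sum_congr rfl fun i _ => ?_
      rw [h.smull, map_smul, smul_eq_mul, mul_comm, ← pow_mul]
      norm_num
      rw [h.pow_four]
      simp
    have h2 := Fintype.linearIndependent_iff.1 hw _ h1
    apply LinearMap.pi_ext'
    intro i
    ext
    have h3 := h2 i
    have h4 : f (Pi.single i 1) = 0 := by
      rcases pow_eq_zero_iff (two_ne_zero) |>.1 h3 with h5
      exact h5
    simpa only [_root_.LinearMap.coe_comp, _root_.LinearMap.coe_single, _root_.Function.comp_apply, _root_.LinearMap.zero_comp, _root_.LinearMap.zero_apply] using h4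
  have h1 : c ∈ LinearMap.range L := by rw [hL]; trivial
  obtain ⟨v, hv⟩ := h1
  exact ⟨v, fun i => congrFun hv i⟩

variable [FiniteDimensional F V]

/-- Totally isotropic subspaces have at most half the dimension. -/
theorem Hm.two_mul_le (h : Hm B) {U : Submodule F V}
    (hU : ∀ u ∈ U, ∀ v ∈ U, B u v = 0) : 2 * finrank F U ≤ finrank F V := by
  let b := Module.finBasis F U
  let L : V →ₗ[F] (Fin (finrank F U) → F) :=
    { toFun := fun y i => B (b i) y
      map_add' := fun y z => by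
        funext i
        exact h.add _ _ _
      map_smul' := fun c y => by
        funext i
        exact h.smul _ _ _ }
  have hb : LinearIndependent F (fun i => ((b i : U) : V)) :=
    b.linearIndependent.map' U.subtype (Submodule.ker_subtype U)
  have hL : LinearMap.range L = ⊤ := by
    rw [LinearMap.range_eq_top]
    intro c
    obtain ⟨v, hv⟩ := h.exists_vec hb c
    exact ⟨v, funext hv⟩
  have h1 := LinearMap.finrank_range_add_finrank_ker L
  rw [hL, finrank_top, Module.finrank_fin_fun] at h1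
  have h2 : U ≤ LinearMap.ker L := by
    intro u hu
    rw [LinearMap.mem_ker]
    funext i
    exact hU _ (b i).2 _ hu
  have h3 := Submodule.finrank_mono h2
  omega

end

section

variable {F : Type u} [Field F] [Fintype F] {V : Type v} [AddCommGroup V] [Module F V]

/-- A hermitian frame: two bases of opposite totally isotropic planes. -/
structure Fr2 (B : V → V → F) (w1 w2 x y : V) : Prop where
  w11 : B w1 w1 = 0
  w12 : B w1 w2 = 0
  w22 : B w2 w2 = 0
  xx : B x x = 0
  xy : B x y = 0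
  yy : B y y = 0
  a11 : B w1 x = 1
  a12 : B w1 y = 0
  a21 : B w2 x = 0
  a22 : B w2 y = 1

/-- The plane spanned by two vectors. -/
def pln (F : Type u) [Field F] {V : Type v} [AddCommGroup V] [Module F V] (a b : V) : Submodule F V where
  carrier := {v | ∃ r s : F, v = r • a + s • b}
  zero_mem' := ⟨0, 0, by simp⟩
  add_mem' := by
    rintro _ _ ⟨r, s, rfl⟩ ⟨r', s', rfl⟩
    exact ⟨r + r', s + s', by module⟩
  smul_mem' := by
    rintro c _ ⟨r, s, rfl⟩
    exact ⟨c * r, c * s, by module⟩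

theorem mem_pln {a b v : V} : v ∈ pln F a b ↔ ∃ r s : F, v = r • a + s • b := Iff.rfl

/-- `z` of order five acts on the opposite totally isotropic planes `W`, `W'`. -/
structure GP2 (B : V → V → F) (z : V → V) (W W' : Submodule F V) : Prop where
  ti : TI B W
  ti' : TI B W'
  dim : finrank F W = 2
  dim' : finrank F W' = 2
  disj : W ⊓ W' = ⊥
  inv : ∀ v ∈ W, z v ∈ W
  inv' : ∀ v ∈ W', z v ∈ W'
  eq_or : ∀ U : Submodule F V, U ≠ ⊥ → TI B U → (∀ v ∈ U, z v ∈ U) → U = W ∨ U = W'

variable {B : V → V → F} [FiniteDimensional F V]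

theorem Fr2.coords {w1 w2 x y : V} (h : Fr2 B w1 w2 x y) (hB : Hm B) (a b c d : F) :
    B w1 (a • w1 + b • w2 + (c • x + d • y)) = c ∧ B w2 (a • w1 + b • w2 + (c • x + d • y)) = d ∧
    B x (a • w1 + b • w2 + (c • x + d • y)) = a ∧ B y (a • w1 + b • w2 + (c • x + d • y)) = b := by
  have w21 : B w2 w1 = 0 := by rw [hB.herm w1, h.w12]; norm_num
  have yx : B y x = 0 := by rw [hB.herm x, h.xy]; norm_num
  have x1 : B x w1 = 1 := by rw [hB.herm w1, h.a11]; norm_num
  have y1 : B y w1 = 0 := by rw [hB.herm w1, h.a12]; norm_num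
  have x2 : B x w2 = 0 := by rw [hB.herm w2, h.a21]; norm_num
  have y2 : B y w2 = 1 := by rw [hB.herm w2, h.a22]; norm_num
  refine ⟨?_, ?_, ?_, ?_⟩
  · simp only [hB.add, hB.smul, h.w11, h.w12, h.a11, h.a12]
    ring
  · simp only [hB.add, hB.smul, w21, h.w22, h.a21, h.a22]
    ring
  · simp only [hB.add, hB.smul, x1, x2, h.xx, h.xy]
    ring
  · simp only [hB.add, hB.smul, y1, y2, yx, h.yy]
    ring

/-- The coordinates. -/
theorem Fr2.exists_coords {w1 w2 x y : V} (h : Fr2 B w1 w2 x y) (hB : Hm B) (hV : finrank F V = 4) (v : V) :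
    v = B x v • w1 + B y v • w2 + (B w1 v • x + B w2 v • y) := by
  let L : (Fin 4 → F) →ₗ[F] V :=
    { toFun := fun t => t 0 • w1 + t 1 • w2 + (t 2 • x + t 3 • y)
      map_add' := fun s t => by
        simp only [Pi.add_apply]
        module
      map_smul' := fun c t => by
        simp only [Pi.smul_apply, smul_eq_mul, RingHom.id_apply]
        module }
  have hLapp : ∀ t, L t = t 0 • w1 + t 1 • w2 + (t 2 • x + t 3 • y) := fun _ => rfl
  have hinj : Function.Injective L := by
    rw [← LinearMap.ker_eq_bot, LinearMap.ker_eq_bot']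
    intro t ht
    have h1 := h.coords hB (t 0) (t 1) (t 2) (t 3)
    rw [hLapp] at ht
    rw [ht] at h1
    simp only [hB.toFrm.zero] at h1
    funext i
    fin_cases i
    · exact h1.2.2.1.symm
    · exact h1.2.2.2.symm
    · exact h1.1.symm
    · exact h1.2.1.symm
  have hsurj : Function.Surjective L :=
    (LinearMap.injective_iff_surjective_of_finrank_eq_finrank (by rw [Module.finrank_fin_fun, hV])).1 hinj
  obtain ⟨t, rfl⟩ := hsurj v
  have h1 := h.coords hB (t 0) (t 1) (t 2) (t 3)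
  rw [hLapp, h1.1, h1.2.1, h1.2.2.1, h1.2.2.2]

theorem finrank_pln {a b : V} (h : ∀ r s : F, r • a + s • b = 0 → r = 0 ∧ s = 0) : finrank F (pln F a b) = 2 := by
  let L : (Fin 2 → F) →ₗ[F] V :=
    { toFun := fun t => t 0 • a + t 1 • b
      map_add' := fun s t => by
        simp only [Pi.add_apply]
        module
      map_smul' := fun c t => by
        simp only [Pi.smul_apply, smul_eq_mul, RingHom.id_apply]
        module }
  have hLapp : ∀ t, L t = t 0 • a + t 1 • b := fun _ => rfl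
  have hinj : Function.Injective L := by
    rw [← LinearMap.ker_eq_bot, LinearMap.ker_eq_bot']
    intro t ht
    obtain ⟨h1, h2⟩ := h _ _ ht
    funext i
    fin_cases i
    · exact h1
    · exact h2
  have hr : LinearMap.range L = pln F a b := by
    ext v
    rw [mem_pln]
    constructor
    · rintro ⟨t, rfl⟩
      exact ⟨_, _, rfl⟩
    · rintro ⟨r, s, rfl⟩
      exact ⟨![r, s], rfl⟩
  rw [← hr, LinearMap.finrank_range_of_inj hinj, Module.finrank_fin_fun]

/-- **The element attached to a frame.** -/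
theorem Fr2.exists_gp {w1 w2 x y : V} (h : Fr2 B w1 w2 x y) (hB : Hm B) (hV : finrank F V = 4) {τ : F}
    (hτ : τ ^ 2 + τ + 1 = 0) :
    ∃ z : V →ₗ[F] V, z ^ 5 = 1 ∧ z ≠ 1 ∧ (∀ u v, B (z u) (z v) = B u v) ∧ GP2 B z (pln F w1 w2) (pln F x y) := by
  have h2 := hB.two
  have hc := h.coords hB
  have hco := h.exists_coords hB hV
  let z : V →ₗ[F] V :=
    { toFun := fun v => (τ * B x v + B y v) • w1 + B x v • w2 + (B w2 v • x + (B w1 v + τ ^ 2 * B w2 v) • y)
      map_add' := fun u v => by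
        simp only [hB.add]
        module
      map_smul' := fun c v => by
        simp only [hB.smul, RingHom.id_apply]
        module }
  have hz : ∀ a b c d : F, z (a • w1 + b • w2 + (c • x + d • y)) =
      (τ * a + b) • w1 + a • w2 + (d • x + (c + τ ^ 2 * d) • y) := by
    intro a b c d
    show (τ * B x _ + B y _) • w1 + B x _ • w2 + (B w2 _ • x + (B w1 _ + τ ^ 2 * B w2 _) • y) = _
    rw [(hc a b c d).1, (hc a b c d).2.1, (hc a b c d).2.2.1, (hc a b c d).2.2.2]
  -- the values of the form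
  have hval : ∀ a b c d a' b' c' d' : F, B (a • w1 + b • w2 + (c • x + d • y)) (a' • w1 + b' • w2 + (c' • x + d' • y)) =
      a ^ 2 * c' + b ^ 2 * d' + c ^ 2 * a' + d ^ 2 * b' := by
    intro a b c d a' b' c' d'
    have h3 := hc a' b' c' d'
    rw [hB.addl, hB.addl, hB.addl, hB.smull, hB.smull, hB.smull, hB.smull, h3.1, h3.2.1, h3.2.2.1, h3.2.2.2]
    ring
  have hunique : ∀ a b c d a' b' c' d' : F, a • w1 + b • w2 + (c • x + d • y) = a' • w1 + b' • w2 + (c' • x + d' • y) →
      a = a' ∧ b = b' ∧ c = c' ∧ d = d' := by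
    intro a b c d a' b' c' d' heq
    have h3 := hc a b c d
    have h4 := hc a' b' c' d'
    rw [heq] at h3
    exact ⟨h3.2.2.1.symm.trans h4.2.2.1, h3.2.2.2.symm.trans h4.2.2.2, h3.1.symm.trans h4.1, h3.2.1.symm.trans h4.2.1⟩
  have h4 : orderOf ((4 : ℕ) : ZMod 5) = 2 :=
    orderOf_eq_of (by norm_num) (by norm_num) (by norm_num) fun i h1 h2 => by
      interval_cases i
      norm_num
  -- powers of `z`
  have hz2 : ∀ a b c d : F, z (z (a • w1 + b • w2 + (c • x + d • y))) =
      (τ * a + τ * b) • w1 + (τ * a + b) • w2 + ((c + τ ^ 2 * d) • x + (τ ^ 2 * c + τ ^ 2 * d) • y) := by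
    intro a b c d
    have e1 : τ * (τ * a + b) + a = τ * a + τ * b := by linear_combination a * hτ - τ * a * h2
    have e2 : d + τ ^ 2 * (c + τ ^ 2 * d) = τ ^ 2 * c + τ ^ 2 * d := by
      linear_combination d * (τ ^ 2 - τ + 1) * hτ - d * τ ^ 2 * h2
    rw [hz, hz, e1, e2]
  have hz3 : ∀ a b c d : F, z (z (z (a • w1 + b • w2 + (c • x + d • y)))) =
      (a + τ * b) • w1 + (τ * a + τ * b) • w2 + ((τ ^ 2 * c + τ ^ 2 * d) • x + (τ ^ 2 * c + d) • y) := by
    intro a b c d
    have e1 : τ * (τ * a + τ * b) + (τ * a + b) = a + τ * b := by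
      linear_combination (a + b) * hτ - (a + τ * b) * h2
    have e2 : c + τ ^ 2 * d + τ ^ 2 * (τ ^ 2 * c + τ ^ 2 * d) = τ ^ 2 * c + d := by
      linear_combination (c + d) * (τ ^ 2 - τ + 1) * hτ - (c * τ ^ 2 + d) * h2
    rw [hz2, hz, e1, e2]
  have hz5' : ∀ a b c d : F, z (z (z (z (z (a • w1 + b • w2 + (c • x + d • y)))))) =
      a • w1 + b • w2 + (c • x + d • y) := by
    intro a b c d
    have e1 : τ * (a + τ * b) + τ * (τ * a + τ * b) = a := by
      linear_combination a * hτ + (τ ^ 2 * b - a) * h2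
    have e2 : τ * (a + τ * b) + (τ * a + τ * b) = b := by
      linear_combination b * hτ + (τ * a - b) * h2
    have e3 : τ ^ 2 * c + τ ^ 2 * d + τ ^ 2 * (τ ^ 2 * c + d) = c := by
      linear_combination c * (τ ^ 2 - τ + 1) * hτ + (τ ^ 2 * d - c) * h2
    have e4 : τ ^ 2 * (τ ^ 2 * c + τ ^ 2 * d) + τ ^ 2 * (τ ^ 2 * c + d) = d := by
      linear_combination d * (τ ^ 2 - τ + 1) * hτ + (τ ^ 4 * c - d) * h2
    rw [hz3, hz2, e1, e2, e3, e4]
  have hz5 : ∀ v, z (z (z (z (z v)))) = v := by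
    intro v
    conv_rhs => rw [hco v]
    conv_lhs => rw [hco v]
    exact hz5' _ _ _ _
  have hpow : z ^ 5 = 1 := by
    ext v
    exact hz5 v
  have hT : ∀ a b c d : F, z (z (a • w1 + b • w2 + (c • x + d • y))) + τ • z (a • w1 + b • w2 + (c • x + d • y)) +
      (a • w1 + b • w2 + (c • x + d • y)) = z (c • x + d • y) := by
    intro a b c d
    have h0 : c • x + d • y = (0 : F) • w1 + (0 : F) • w2 + (c • x + d • y) := by
      rw [zero_smul, zero_smul, zero_add, zero_add]
    have e0 : z (c • x + d • y) = (0 : F) • w1 + (0 : F) • w2 + (d • x + (c + τ ^ 2 * d) • y) := by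
      rw [h0, hz, mul_zero, zero_add]
    rw [e0, hz2, hz]
    have e1 : τ * a + τ * b + τ * (τ * a + b) + a = 0 := by linear_combination a * hτ + τ * b * h2
    have e2 : τ * a + b + τ * a + b = 0 := by linear_combination (τ * a + b) * h2
    have e3 : c + τ ^ 2 * d + τ * d + c = d := by linear_combination d * hτ + (c - d) * h2
    have e4 : τ ^ 2 * c + τ ^ 2 * d + τ * (c + τ ^ 2 * d) + d = c + τ ^ 2 * d := by
      linear_combination (c + (τ - 1) * d) * hτ + (-c + d) * h2
    calc _ = (τ * a + τ * b + τ * (τ * a + b) + a) • w1 + (τ * a + b + τ * a + b) • w2 +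
          ((c + τ ^ 2 * d + τ * d + c) • x + (τ ^ 2 * c + τ ^ 2 * d + τ * (c + τ ^ 2 * d) + d) • y) := by module
      _ = _ := by rw [e1, e2, e3, e4]
  have hτ0 : τ ≠ 0 := by
    rintro rfl
    norm_num at hτ
  -- no fixed vectors
  have hfix : fixS z = ⊥ := by
    rw [eq_bot_iff]
    intro v hv
    rw [mem_fixS] at hv
    rw [hco v, hz] at hv
    obtain ⟨f1, f2, f3, f4⟩ := hunique _ _ _ _ _ _ _ _ hv
    have g1 : τ * B x v = 0 := by
      rw [← f2] at f1
      exact left_eq_add.1 (by rw [add_comm]; exact f1.symm)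
    have g2 : B x v = 0 := (mul_eq_zero.1 g1).resolve_left hτ0
    have g3 : B y v = 0 := by rw [← f2, g2]
    have g4 : τ ^ 2 * B w2 v = 0 := by
      rw [← f3] at f4
      exact left_eq_add.1 f4.symm
    have g5 : B w2 v = 0 := (mul_eq_zero.1 g4).resolve_left (pow_ne_zero 2 hτ0)
    have g6 : B w1 v = 0 := by rw [← f3, g5]
    rw [Submodule.mem_bot, hco v, g2, g3, g5, g6]
    simp
  have hd1 : finrank F (pln F w1 w2) = 2 := finrank_pln fun r s hrs => by
    have h3 := hunique r s 0 0 0 0 0 0 (by rw [hrs]; simp)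
    exact ⟨h3.1, h3.2.1⟩
  have hd2 : finrank F (pln F x y) = 2 := finrank_pln fun r s hrs => by
    have h3 := hunique 0 0 r s 0 0 0 0 (by rw [hrs]; simp)
    exact ⟨h3.2.2.1, h3.2.2.2⟩
  have hinv1 : ∀ v ∈ pln F w1 w2, z v ∈ pln F w1 w2 := by
    rintro _ ⟨r, s, rfl⟩
    refine ⟨τ * r + s, r, ?_⟩
    have h3 := hz r s 0 0
    simpa only [_root_.map_add, _root_.map_smul, _root_.zero_smul, _root_.add_zero, _root_.MulZeroClass.mul_zero] using h3
  have hinv2 : ∀ v ∈ pln F x y, z v ∈ pln F x y := by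
    rintro _ ⟨r, s, rfl⟩
    refine ⟨s, r + τ ^ 2 * s, ?_⟩
    have h3 := hz 0 0 r s
    simpa only [_root_.map_add, _root_.map_smul, _root_.zero_smul, _root_.add_zero, _root_.zero_add, _root_.MulZeroClass.mul_zero] using h3
  have hdiv : ∀ T T' : Submodule F V, finrank F T = 2 → (∀ v ∈ T, z v ∈ T) → (∀ v ∈ T', z v ∈ T') →
      T' ⊓ T = ⊥ ∨ T' ⊓ T = T := by
    intro T T' hT hTz hT'z
    have h5 := finrank_fix (r := 5) (k := 1) (by norm_num) (by rw [hB.cd]; norm_num) (by rw [pow_one]; exact hpow)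
      (T' ⊓ T) (fun v hv => ⟨hT'z v hv.1, hTz v hv.2⟩)
    rw [hfix, inf_bot_eq, finrank_bot, Nat.sub_zero, hB.cd, h4] at h5
    have h6 : finrank F ↥(T' ⊓ T) ≤ 2 := hT ▸ Submodule.finrank_mono inf_le_right
    rcases Nat.eq_zero_or_pos (finrank F ↥(T' ⊓ T)) with h7 | h7
    · exact Or.inl (Submodule.finrank_eq_zero.1 h7)
    · right
      have := Nat.le_of_dvd h7 h5
      exact Submodule.eq_of_le_of_finrank_eq inf_le_right (by omega)
  have hti1 : TI B (pln F w1 w2) := by
    rintro _ ⟨r, s, rfl⟩ _ ⟨r', s', rfl⟩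
    have h3 := hval r s 0 0 r' s' 0 0
    simpa using h3
  have hti2 : TI B (pln F x y) := by
    rintro _ ⟨r, s, rfl⟩ _ ⟨r', s', rfl⟩
    have h3 := hval 0 0 r s 0 0 r' s'
    simpa using h3
  refine ⟨z, hpow, ?_, ?_, hti1, hti2, hd1, hd2, ?_, hinv1, hinv2, ?_⟩
  · intro h1
    have h3 : fixS z = ⊤ := fixS_eq_top_iff.2 h1
    rw [hfix] at h3
    have h5 : finrank F (⊤ : Submodule F V) = 4 := by rw [finrank_top, hV]
    rw [← h3, finrank_bot] at h5
    omega
  · intro u v
    conv_rhs => rw [hco u, hco v]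
    conv_lhs => rw [hco u, hco v]
    rw [hz, hz, hval, hval]
    generalize B x u = a
    generalize B y u = b
    generalize B w1 u = c
    generalize B w2 u = d
    generalize B x v = a'
    generalize B y v = b'
    generalize B w1 v = c'
    generalize B w2 v = d'
    linear_combination (a * b * τ * d' + a ^ 2 * τ ^ 2 * d' + c * d * τ ^ 2 * a' + τ * d ^ 2 * a') * h2 +
      ((τ ^ 2 - τ) * d ^ 2 * a' ) * hτ
  · rw [eq_bot_iff]
    rintro _ ⟨⟨r, s, rfl⟩, ⟨r', s', h3⟩⟩
    have h5 := hunique r s 0 0 0 0 r' s' (by simpa only [_root_.zero_smul, _root_.add_zero, _root_.zero_add] using h3)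
    rw [h5.1, h5.2.1]
    simp
  · intro U hU hTI hUz
    have hpart : ∀ u ∈ U, B w1 u • x + B w2 u • y ∈ U := by
      intro u hu
      have h3 : z (z u) + τ • z u + u ∈ U :=
        U.add_mem (U.add_mem (hUz _ (hUz _ hu)) (U.smul_mem _ (hUz _ hu))) hu
      have h5 := hT (B x u) (B y u) (B w1 u) (B w2 u)
      rw [← hco u] at h5
      rw [h5] at h3
      have h6 := hUz _ (hUz _ (hUz _ (hUz _ h3)))
      rwa [hz5] at h6
    have hpart' : ∀ u ∈ U, B x u • w1 + B y u • w2 ∈ U := by
      intro u hu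
      have h3 := U.sub_mem hu (hpart u hu)
      have h5 : B x u • w1 + B y u • w2 = u - (B w1 u • x + B w2 u • y) := by
        conv_rhs => rw [hco u]
        rw [(hc _ _ _ _).1, (hc _ _ _ _).2.1]
        abel
      rwa [h5]
    rcases hdiv _ U hd1 hinv1 hUz with h3 | h3 <;> rcases hdiv _ U hd2 hinv2 hUz with h5 | h5
    · exfalso
      apply hU
      rw [eq_bot_iff]
      intro u hu
      have h6 : B x u • w1 + B y u • w2 ∈ U ⊓ pln F w1 w2 := ⟨hpart' u hu, _, _, rfl⟩
      have h7 : B w1 u • x + B w2 u • y ∈ U ⊓ pln F x y := ⟨hpart u hu, _, _, rfl⟩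
      rw [h3, Submodule.mem_bot] at h6
      rw [h5, Submodule.mem_bot] at h7
      rw [Submodule.mem_bot, hco u, h6, h7, add_zero]
    · right
      apply le_antisymm
      · intro u hu
        have h6 : B x u • w1 + B y u • w2 ∈ U ⊓ pln F w1 w2 := ⟨hpart' u hu, _, _, rfl⟩
        rw [h3, Submodule.mem_bot] at h6
        rw [hco u, h6, zero_add]
        exact ⟨_, _, rfl⟩
      · rw [← h5]
        exact inf_le_left
    · left
      apply le_antisymm
      · intro u hu
        have h7 : B w1 u • x + B w2 u • y ∈ U ⊓ pln F x y := ⟨hpart u hu, _, _, rfl⟩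
        rw [h5, Submodule.mem_bot] at h7
        rw [hco u, h7, add_zero]
        exact ⟨_, _, rfl⟩
      · rw [← h3]
        exact inf_le_left
    · exfalso
      have h6 : w1 ∈ U := by
        have : w1 ∈ pln F w1 w2 := ⟨1, 0, by simp⟩
        rw [← h3] at this
        exact this.1
      have h7 : x ∈ U := by
        have : x ∈ pln F x y := ⟨1, 0, by simp⟩
        rw [← h5] at this
        exact this.1
      have h8 := hTI w1 h6 x h7
      rw [h.a11] at h8
      exact one_ne_zero h8

/-- **Frames avoiding a subspace.** -/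
theorem exists_frame2 (hB : Hm B) (hV : finrank F V = 4) {τ : F} (hτ : τ ^ 2 + τ + 1 = 0) {W : Submodule F V}
    (hTI : TI B W) (hW : finrank F W = 2) {x : V} (hxx : B x x = 0) (hx : x ∉ W) (A₁ : Submodule F V) :
    ∃ w1 w2 y : V, Fr2 B w1 w2 x y ∧ pln F w1 w2 = W ∧ pln F x y ≠ A₁ := by
  have h2 := hB.two
  have hneg : ∀ t : F, -t = t := fun t => by linear_combination (-t) * h2
  let g : W →ₗ[F] F :=
    { toFun := fun w => B x w
      map_add' := fun a b => hB.add _ _ _
      map_smul' := fun c a => hB.smul _ _ _ }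
  have hg : g ≠ 0 := by
    intro hg0
    have hxW : ∀ w ∈ W, B x w = 0 := fun w hw => by
      have : g ⟨w, hw⟩ = 0 := by rw [hg0]; rfl
      exact this
    have hWx : ∀ w ∈ W, B w x = 0 := fun w hw => by
      rw [hB.herm x, hxW w hw]
      norm_num
    have hxne : x ≠ 0 := by
      rintro rfl
      exact hx W.zero_mem
    have h1 : ∀ u ∈ W ⊔ (F ∙ x), ∀ v ∈ W ⊔ (F ∙ x), B u v = 0 := by
      intro u hu v hv
      obtain ⟨a, ha, b, hb, rfl⟩ := Submodule.mem_sup.1 hu
      obtain ⟨c, hc, d, hd, rfl⟩ := Submodule.mem_sup.1 hv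
      obtain ⟨s, rfl⟩ := Submodule.mem_span_singleton.1 hb
      obtain ⟨t, rfl⟩ := Submodule.mem_span_singleton.1 hd
      rw [hB.add, hB.addl, hB.addl, hB.smul, hB.smul, hB.smull, hB.smull, hTI a ha c hc, hxW c hc, hWx a ha, hxx]
      ring
    have h3 := hB.two_mul_le h1
    have h4 := Submodule.finrank_sup_add_finrank_inf_eq W (F ∙ x)
    have h5 : W ⊓ (F ∙ x) = ⊥ := by
      rw [eq_bot_iff]
      rintro u ⟨hu, hu'⟩
      obtain ⟨c, rfl⟩ := Submodule.mem_span_singleton.1 hu'
      have hc : c = 0 := by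
        by_contra hc
        apply hx
        have := W.smul_mem c⁻¹ hu
        rwa [smul_smul, inv_mul_cancel₀ hc, one_smul] at this
      rw [hc, zero_smul]
      exact Submodule.zero_mem _
    rw [h5, finrank_bot, hW, finrank_span_singleton hxne] at h4
    omega
  obtain ⟨w1, hw1⟩ : ∃ w : W, g w = 1 := by
    obtain ⟨w, hw⟩ : ∃ w, g w ≠ 0 := by
      by_contra hcon
      push Not at hcon
      exact hg (LinearMap.ext hcon)
    exact ⟨(g w)⁻¹ • w, by rw [map_smul, smul_eq_mul, inv_mul_cancel₀ hw]⟩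
  obtain ⟨w2, hw2, hw20⟩ : ∃ w : W, g w = 0 ∧ w ≠ 0 := by
    have h1 := LinearMap.finrank_range_add_finrank_ker g
    have h3 : finrank F (LinearMap.range g) ≤ 1 := by
      have := Submodule.finrank_le (LinearMap.range g)
      rwa [finrank_self] at this
    have h4 : LinearMap.ker g ≠ ⊥ := by
      intro h4
      rw [h4, finrank_bot, hW] at h1
      omega
    obtain ⟨w, hw, hw0⟩ := (Submodule.ne_bot_iff _).1 h4
    exact ⟨w, hw, hw0⟩
  set v1 : V := (w1 : V) with hv1
  set v2 : V := (w2 : V) with hv2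
  have hv1W : v1 ∈ W := w1.2
  have hv2W : v2 ∈ W := w2.2
  have x1 : B x v1 = 1 := hw1
  have x2 : B x v2 = 0 := hw2
  have x1' : B v1 x = 1 := by rw [hB.herm x, x1]; norm_num
  have x2' : B v2 x = 0 := by rw [hB.herm x, x2]; norm_num
  have hv20 : v2 ≠ 0 := fun h => hw20 (Subtype.ext h)
  have hli : ∀ r s : F, r • v1 + s • v2 = 0 → r = 0 ∧ s = 0 := by
    intro r s h
    have hr : r = 0 := by
      have h1 : B x (r • v1 + s • v2) = 0 := by rw [h, hB.toFrm.zero]
      rw [hB.add, hB.smul, hB.smul, x1, x2] at h1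
      simpa using h1
    rw [hr, zero_smul, zero_add] at h
    exact ⟨hr, (smul_eq_zero.1 h).resolve_right hv20⟩
  have hrange : pln F v1 v2 = W := by
    apply Submodule.eq_of_le_of_finrank_eq
    · rintro _ ⟨r, s, rfl⟩
      exact W.add_mem (W.smul_mem _ hv1W) (W.smul_mem _ hv2W)
    · rw [finrank_pln hli, hW]
  have hli3 : LinearIndependent F ![v1, v2, x] := by
    rw [Fintype.linearIndependent_iff]
    intro c hc
    rw [Fin.sum_univ_three] at hc
    have hc' : c 0 • v1 + c 1 • v2 + c 2 • x = 0 := hc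
    have h4 : c 2 = 0 := by
      by_contra h4
      apply hx
      have h5 : c 2 • x = -(c 0 • v1 + c 1 • v2) := by
        rw [eq_neg_iff_add_eq_zero, add_comm]
        exact hc'
      have h6 : c 2 • x ∈ W := by
        rw [h5]
        exact W.neg_mem (W.add_mem (W.smul_mem _ hv1W) (W.smul_mem _ hv2W))
      have := W.smul_mem (c 2)⁻¹ h6
      rwa [smul_smul, inv_mul_cancel₀ h4, one_smul] at this
    rw [h4, zero_smul, add_zero] at hc'
    obtain ⟨h1, h5⟩ := hli _ _ hc'
    intro i
    fin_cases i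
    · exact h1
    · exact h5
    · exact h4
  obtain ⟨f, hf⟩ := hB.exists_vec hli3 ![0, 1, 0]
  have f1 : B v1 f = 0 := hf 0
  have f2 : B v2 f = 1 := hf 1
  have fx : B x f = 0 := hf 2
  have f2' : B f v2 = 1 := by rw [hB.herm v2, f2]; norm_num
  set N := B f f with hN
  have hNN : N ^ 2 = N := (hB.herm f f).symm
  have w11 : B v1 v1 = 0 := hTI _ hv1W _ hv1W
  have w12 : B v1 v2 = 0 := hTI _ hv1W _ hv2W
  have w22 : B v2 v2 = 0 := hTI _ hv2W _ hv2W
  have key : ∀ s : F, s ^ 2 + s = N → Fr2 B v1 v2 x (f + s • v2) := by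
    intro s hs
    refine ⟨w11, w12, w22, hxx, ?_, ?_, x1', ?_, x2', ?_⟩
    · rw [hB.add, hB.smul, fx, x2]
      ring
    · rw [hB.add, hB.addl, hB.addl, hB.smul, hB.smul, hB.smull, hB.smull, ← hN, f2, f2', w22]
      linear_combination (-1 : F) * hs + (s ^ 2 + s) * h2
    · rw [hB.add, hB.smul, f1, w12]
      ring
    · rw [hB.add, hB.smul, f2, w22]
      ring
  have hs1 : (N * τ) ^ 2 + N * τ = N := by
    linear_combination τ ^ 2 * hNN + N * hτ - N * h2
  have hs2 : (N * τ + 1) ^ 2 + (N * τ + 1) = N := by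
    linear_combination τ ^ 2 * hNN + N * hτ + (1 + N * τ - N) * h2
  have hne : pln F x (f + (N * τ) • v2) ≠ pln F x (f + (N * τ + 1) • v2) := by
    intro heq
    have h3 : f + (N * τ) • v2 ∈ pln F x (f + (N * τ + 1) • v2) := by
      rw [← heq]
      exact ⟨0, 1, by simp⟩
    obtain ⟨r, s, hrs⟩ := h3
    have e1 := congrArg (B v1) hrs
    have e2 := congrArg (B v2) hrs
    simp only [hB.add, hB.smul, f1, w12, x1', mul_zero, add_zero, mul_one] at e1
    simp only [hB.add, hB.smul, f2, w22, x2', mul_zero, add_zero, mul_one, zero_add] at e2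
    subst e1
    subst e2
    rw [zero_smul, zero_add, one_smul, add_smul, one_smul, ← add_assoc] at hrs
    exact hv20 (left_eq_add.1 hrs)
  by_cases h3 : pln F x (f + (N * τ) • v2) = A₁
  · exact ⟨v1, v2, f + (N * τ + 1) • v2, key _ hs2, hrange, fun h4 => hne (h3.trans h4.symm)⟩
  · exact ⟨v1, v2, f + (N * τ) • v2, key _ hs1, hrange, h3⟩

end

end Cfsg.Agent.H518.SU
end

-- part: H518/SUHermFin
section
/-!
# `PSU_4(2)`
-/

set_option autoImplicit false
set_option linter.unusedSectionVars false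

namespace Cfsg.Agent.H518.SU

open Module Cfsg.Agent.H518.DghpFix Cfsg.Agent.H518.DghpPrim

universe u v w w'

section

variable {F : Type u} [Field F] [Fintype F] {V : Type v} [AddCommGroup V] [Module F V]

/-- The image of a subspace under a semilinear bijection. -/
def sm (b : V ≃+ V) (σ : F ≃+* F) (hb : ∀ (c : F) (v : V), b (c • v) = σ c • b v) (W : Submodule F V) :
    Submodule F V where
  carrier := {v | b.symm v ∈ W}
  zero_mem' := by
    show b.symm 0 ∈ W
    rw [map_zero]
    exact W.zero_mem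
  add_mem' := by
    intro x y hx hy
    show b.symm (x + y) ∈ W
    rw [map_add]
    exact W.add_mem hx hy
  smul_mem' := by
    intro c x hx
    show b.symm (c • x) ∈ W
    have h1 : b.symm (c • x) = σ.symm c • b.symm x := by
      apply b.injective
      rw [b.apply_symm_apply, hb, b.apply_symm_apply, RingEquiv.apply_symm_apply]
    rw [h1]
    exact W.smul_mem _ hx

variable {b : V ≃+ V} {σ : F ≃+* F} {hb : ∀ (c : F) (v : V), b (c • v) = σ c • b v}

theorem mem_sm {W : Submodule F V} {v : V} : v ∈ sm b σ hb W ↔ b.symm v ∈ W := Iff.rfl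

theorem apply_mem_sm {W : Submodule F V} {v : V} : b v ∈ sm b σ hb W ↔ v ∈ W := by
  rw [mem_sm, b.symm_apply_apply]

variable [FiniteDimensional F V]

theorem finrank_sm (W : Submodule F V) : finrank F (sm b σ hb W) = finrank F W := by
  have hfin : Finite V := Module.finite_of_finite F
  have h1 : Nat.card (sm b σ hb W) = Nat.card W := Nat.card_congr
    { toFun := fun v => ⟨b.symm v.1, v.2⟩
      invFun := fun v => ⟨b v.1, apply_mem_sm.2 v.2⟩
      left_inv := fun v => Subtype.ext (b.apply_symm_apply _)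
      right_inv := fun v => Subtype.ext (b.symm_apply_apply _) }
  have h2 : ∀ T : Submodule F V, Nat.card T = Nat.card F ^ finrank F T := fun T =>
    Module.natCard_eq_pow_finrank
  rw [h2, h2, Nat.card_eq_fintype_card] at h1
  exact Nat.pow_right_injective Fintype.one_lt_card h1

theorem sm_inj {W W' : Submodule F V} (h : sm b σ hb W = sm b σ hb W') : W = W' := by
  ext v
  rw [← apply_mem_sm (b := b) (σ := σ) (hb := hb), h, apply_mem_sm]

variable {B : V → V → F}

/-- Conjugation. -/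
theorem GP2.conj {z y : V → V} {W W' : Submodule F V} (h : GP2 B z W W')
    (hbB : ∀ u v, B (b u) (b v) = σ (B u v)) (hy : ∀ v, y (b v) = b (z v)) :
    GP2 B y (sm b σ hb W) (sm b σ hb W') := by
  have hti : ∀ U : Submodule F V, TI B U → TI B (sm b σ hb U) := by
    intro U hU u hu v hv
    have h1 := hbB (b.symm u) (b.symm v)
    rw [b.apply_symm_apply, b.apply_symm_apply, hU _ hu _ hv, map_zero] at h1
    exact h1
  have hinv : ∀ U : Submodule F V, (∀ v ∈ U, z v ∈ U) → ∀ v ∈ sm b σ hb U, y v ∈ sm b σ hb U := by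
    intro U hU v hv
    have h1 := hy (b.symm v)
    rw [b.apply_symm_apply] at h1
    rw [h1, apply_mem_sm]
    exact hU _ hv
  refine ⟨hti _ h.ti, hti _ h.ti', by rw [finrank_sm, h.dim], by rw [finrank_sm, h.dim'], ?_, hinv _ h.inv,
    hinv _ h.inv', ?_⟩
  · rw [eq_bot_iff]
    rintro v ⟨h1, h2⟩
    have h3 : b.symm v ∈ W ⊓ W' := ⟨h1, h2⟩
    rw [h.disj, Submodule.mem_bot] at h3
    rw [Submodule.mem_bot, ← b.apply_symm_apply v, h3, map_zero]
  · intro U hU hTI hUy
    -- the preimage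
    let U₀ : Submodule F V :=
      { carrier := {v | b v ∈ U}
        zero_mem' := by
          show b 0 ∈ U
          rw [map_zero]
          exact U.zero_mem
        add_mem' := by
          intro x y hx hy
          show b (x + y) ∈ U
          rw [map_add]
          exact U.add_mem hx hy
        smul_mem' := by
          intro c x hx
          show b (c • x) ∈ U
          rw [hb]
          exact U.smul_mem _ hx }
    have hU₀ : ∀ v, v ∈ U₀ ↔ b v ∈ U := fun _ => Iff.rfl
    have hsm : sm b σ hb U₀ = U := by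
      ext v
      rw [mem_sm, hU₀, b.apply_symm_apply]
    have h1 : U₀ ≠ ⊥ := by
      intro h1
      apply hU
      rw [eq_bot_iff]
      intro v hv
      have h2 : b.symm v ∈ U₀ := by rwa [hU₀, b.apply_symm_apply]
      rw [h1, Submodule.mem_bot] at h2
      rw [Submodule.mem_bot, ← b.apply_symm_apply v, h2, map_zero]
    have h2 : TI B U₀ := by
      intro u hu v hv
      have h3 := hbB u v
      rw [hTI _ hu _ hv] at h3
      exact (map_eq_zero σ).1 h3.symm
    have h3 : ∀ v ∈ U₀, z v ∈ U₀ := by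
      intro v hv
      rw [hU₀, ← hy]
      exact hUy _ hv
    rcases h.eq_or U₀ h1 h2 h3 with h4 | h4
    · left
      rw [← hsm, h4]
    · right
      rw [← hsm, h4]

variable {G : Type w} [Group G] [Finite G]

/-- The data. -/
structure Dat2 (φ : G →* (V →ₗ[F] V)) (B : V → V → F) : Prop where
  inj : Function.Injective φ
  hm : Hm B
  isom : ∀ g u v, B (φ g u) (φ g v) = B u v
  not_sq : ¬ 5 ^ 2 ∣ Nat.card G
  dim : finrank F V = 4
  all : ∀ z : V →ₗ[F] V, z ^ 5 = 1 → (∀ u v, B (z u) (z v) = B u v) → ∃ g : G, φ g = z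

theorem Dat2.exists_elt {φ : G →* (V →ₗ[F] V)} (D : Dat2 φ B) {τ : F} (hτ : τ ^ 2 + τ + 1 = 0) {W : Submodule F V}
    (hTI : TI B W) (hW : finrank F W = 2) {x : V} (hxx : B x x = 0) (hx : x ∉ W) (A₁ : Submodule F V) :
    ∃ z : G, orderOf z = 5 ∧ ∃ W', GP2 B (φ z) W W' ∧ x ∈ W' ∧ W' ≠ A₁ := by
  obtain ⟨w1, w2, y, hfr, hw, hne⟩ := exists_frame2 D.hm D.dim hτ hTI hW hxx hx A₁
  obtain ⟨z, hz5, hz1, hiso, hgp⟩ := hfr.exists_gp D.hm D.dim hτ
  obtain ⟨g, hg⟩ := D.all z hz5 hiso
  have : Fact (Nat.Prime 5) := ⟨by norm_num⟩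
  refine ⟨g, orderOf_eq_prime ?_ ?_, pln F x y, ?_, ⟨1, 0, by simp⟩, hne⟩
  · apply D.inj
    rw [map_pow, hg, hz5, map_one]
  · rintro rfl
    rw [map_one] at hg
    exact hz1 hg.symm
  · rw [hg, ← hw]
    exact hgp

theorem pair_false2 {φ : G →* (V →ₗ[F] V)} (D : Dat2 φ B) {x y : G} (hx : orderOf x = 5)
    (hy : orderOf y = 5) {W W' A A' : Submodule F V} (hxp : GP2 B (φ x) W W') (hyp : GP2 B (φ y) A A')
    (h1 : W ≠ A) (h2 : W ≠ A') (h3 : W' ≠ A) (h4 : W' ≠ A') {M : Subgroup G} (hM : Group.IsSolvable M)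
    (hxM : x ∈ M) (hyM : y ∈ M) : False := by
  have key : ∀ U : Submodule F V, U ≠ ⊥ → TI B U → (∀ v ∈ U, φ x v ∈ U) → (∀ v ∈ U, φ y v ∈ U) → False := by
    intro U hU hTI hUx hUy
    rcases hxp.eq_or U hU hTI hUx with h5 | h5 <;> rcases hyp.eq_or U hU hTI hUy with h6 | h6
    · exact h1 (h5.symm.trans h6)
    · exact h2 (h5.symm.trans h6)
    · exact h3 (h5.symm.trans h6)
    · exact h4 (h5.symm.trans h6)
  have hp5 : Nat.Prime 5 := by norm_num
  rcases share_pair φ D.inj D.hm.toFrm D.isom hp5 (by norm_num) D.not_sq (by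
      rw [D.dim, D.hm.cd]
      exact Or.inr ⟨rfl, rfl, Or.inl (by norm_num)⟩) hx hy hM hxM hyM with h | ⟨U, hU, hTI, hUM⟩
  · -- `A` is invariant under `x`
    have h5 : x ∈ Subgroup.zpowers y := mem_zpowers_symm hp5 hy hx h
    obtain ⟨k, hk⟩ : ∃ k : ℕ, y ^ k = x := mem_powers_iff_mem_zpowers.2 h5
    have hA0 : A ≠ ⊥ := by
      intro h0
      have h6 := hyp.dim
      rw [h0, finrank_bot] at h6
      omega
    refine key A hA0 hyp.ti ?_ hyp.inv
    rw [← hk, map_pow]
    clear hk
    intro v hv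
    induction k with
    | zero => exact hv
    | succ k ih =>
      rw [pow_succ', Module.End.mul_apply]
      exact hyp.inv _ ih
  · exact key U hU hTI (hUM x hxM) (hUM y hyM)

/-- **The abstract theorem.** -/
theorem herm_exc {φ : G →* (V →ₗ[F] V)} (D : Dat2 φ B) {τ : F} (hτ : τ ^ 2 + τ + 1 = 0)
    {K : Type w'} [Group K] [IsSimpleGroup K]
    (π : G →* K) (hπ : Function.Surjective π) (hker : Group.IsSolvable π.ker) (hkr : ¬ 5 ∣ Nat.card π.ker)
    {W₀ : Submodule F V} (hW₀ : TI B W₀) (hW₀d : finrank F W₀ = 2) {x₀ : V} (hx₀ : B x₀ x₀ = 0) (hx₀W : x₀ ∉ W₀)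
    {β : MulAut K} (hβ : β ≠ 1) (γ : MulAut G) (hγ : ∀ g, π (γ g) = β (π g)) (b : V ≃+ V) (σ : F ≃+* F)
    (hb : ∀ (c : F) (v : V), b (c • v) = σ c • b v) (hbB : ∀ u v, B (b u) (b v) = σ (B u v))
    (hφb : ∀ g v, φ (γ g) (b v) = b (φ g v)) :
    ∃ y : K, orderOf y = 5 ∧ ¬ Group.IsSolvable (Subgroup.closure ({y, β y} : Set K)) := by
  have hp5 : Nat.Prime 5 := by norm_num
  have : Fact (Nat.Prime 5) := ⟨hp5⟩
  obtain ⟨z₀, hz₀, W₀', hGP₀, hx₀W', -⟩ := D.exists_elt hτ hW₀ hW₀d hx₀ hx₀W ⊥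
  have hmapG : ∀ (g : G) (W₁ : Submodule F V), TI B W₁ → finrank F W₁ = 2 →
      TI B (W₁.map (φ g)) ∧ finrank F (W₁.map (φ g)) = 2 := by
    intro g W₁ hTI h3
    have hinj : Function.Injective (φ g) := by
      intro a b hab
      have h1 : φ g⁻¹ (φ g a) = φ g⁻¹ (φ g b) := by rw [hab]
      rw [← Module.End.mul_apply, ← Module.End.mul_apply, ← map_mul, inv_mul_cancel, map_one] at h1
      exact h1
    refine ⟨?_, ?_⟩
    · rintro _ ⟨u, hu, rfl⟩ _ ⟨v, hv, rfl⟩
      rw [D.isom]
      exact hTI u hu v hv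
    · rw [← h3]
      exact (LinearEquiv.finrank_eq (Submodule.equivMapOfInjective (φ g) hinj W₁)).symm
  have hinvφ : ∀ (g : G) (v : V), φ g⁻¹ (φ g v) = v := by
    intro g v
    rw [← Module.End.mul_apply, ← map_mul, inv_mul_cancel, map_one]
    rfl
  have hφinv : ∀ (g : G) (v : V), φ g (φ g⁻¹ v) = v := by
    intro g v
    rw [← Module.End.mul_apply, ← map_mul, mul_inv_cancel, map_one]
    rfl
  -- a moved subspace
  obtain ⟨W₁, hTI, h3, hmove⟩ : ∃ W₁ : Submodule F V, TI B W₁ ∧ finrank F W₁ = 2 ∧ sm b σ hb W₁ ≠ W₁ := by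
    by_contra hcon
    push Not at hcon
    let N : Subgroup G :=
      { carrier := {g | ∀ W₁ : Submodule F V, TI B W₁ → finrank F W₁ = 2 →
          (∀ v ∈ W₁, φ g v ∈ W₁) ∧ (∀ v ∈ W₁, φ g⁻¹ v ∈ W₁)}
        one_mem' := fun W₁ _ _ => ⟨fun v hv => by rw [map_one]; exact hv, fun v hv => by
          rw [inv_one, map_one]
          exact hv⟩
        mul_mem' := fun {g h} hg hh W₁ h1 h2 => ⟨fun v hv => by
          rw [map_mul, Module.End.mul_apply]
          exact (hg W₁ h1 h2).1 _ ((hh W₁ h1 h2).1 v hv), fun v hv => by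
          rw [mul_inv_rev, map_mul, Module.End.mul_apply]
          exact (hh W₁ h1 h2).2 _ ((hg W₁ h1 h2).2 v hv)⟩
        inv_mem' := fun {g} hg W₁ h1 h2 => ⟨(hg W₁ h1 h2).2, by rw [inv_inv]; exact (hg W₁ h1 h2).1⟩ }
    have hNn : N.Normal := by
      constructor
      intro n hn g W₁ h1 h2
      obtain ⟨h4, h5⟩ := hmapG g⁻¹ W₁ h1 h2
      have h6 := hn _ h4 h5
      have hback : ∀ u ∈ W₁.map (φ g⁻¹), φ g u ∈ W₁ := by
        rintro _ ⟨u, hu, rfl⟩
        rw [hφinv]
        exact hu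
      refine ⟨fun v hv => ?_, fun v hv => ?_⟩
      · rw [map_mul, map_mul, Module.End.mul_apply, Module.End.mul_apply]
        exact hback _ (h6.1 _ ⟨v, hv, rfl⟩)
      · have e : (g * n * g⁻¹)⁻¹ = g * n⁻¹ * g⁻¹ := by group
        rw [e, map_mul, map_mul, Module.End.mul_apply, Module.End.mul_apply]
        exact hback _ (h6.2 _ ⟨v, hv, rfl⟩)
    have hNγ : ∀ g : G, g⁻¹ * γ g ∈ N := by
      intro g W₁ h1 h2
      obtain ⟨h4, h5⟩ := hmapG g W₁ h1 h2
      have hb1 := hcon W₁ h1 h2
      have hb2 := hcon _ h4 h5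
      refine ⟨fun v hv => ?_, fun v hv => ?_⟩
      · rw [← hb1] at hv
        have hv' : b.symm v ∈ W₁ := hv
        have h6 : φ (γ g) v ∈ W₁.map (φ g) := by
          have h7 := hφb g (b.symm v)
          rw [b.apply_symm_apply] at h7
          rw [h7, ← hb2, apply_mem_sm]
          exact ⟨_, hv', rfl⟩
        obtain ⟨w, hw, hw'⟩ := h6
        rw [map_mul, Module.End.mul_apply]
        rw [← hw', hinvφ]
        exact hw
      · have e : (g⁻¹ * γ g)⁻¹ = γ g⁻¹ * g := by rw [map_inv]; group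
        rw [e, map_mul, Module.End.mul_apply]
        have h6 : φ g v ∈ W₁.map (φ g) := ⟨v, hv, rfl⟩
        rw [← hb2] at h6
        obtain ⟨w, hw, hw'⟩ : b.symm (φ g v) ∈ W₁.map (φ g) := h6
        have h7 : φ g v = b (φ g w) := by rw [hw', b.apply_symm_apply]
        rw [h7, hφb, hinvφ, ← hb1, apply_mem_sm]
        exact hw
    have hNπ : (N.map π).Normal := hNn.map π hπ
    rcases hNπ.eq_bot_or_eq_top with h1 | h1
    · apply hβ
      ext k
      obtain ⟨g, rfl⟩ := hπ k
      have h2 : π (g⁻¹ * γ g) ∈ N.map π := ⟨_, hNγ g, rfl⟩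
      rw [h1, Subgroup.mem_bot, map_mul, map_inv, hγ] at h2
      exact (inv_mul_eq_one.1 h2).symm
    · -- `z₀ ∈ N`
      have h2 : π z₀ ∈ N.map π := by rw [h1]; trivial
      obtain ⟨n, hn, hn'⟩ := h2
      have h4 : orderOf (π z₀) = 5 := by
        have := orderOf_map (a := 1) hp5 (by rw [hz₀, pow_one]) π hkr
        rwa [pow_one] at this
      have h5 : 5 ∣ orderOf n := by
        rw [← h4, ← hn']
        exact orderOf_map_dvd π n
      have h6 : orderOf (n ^ (orderOf n / 5)) = 5 := by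
        rw [orderOf_pow_of_dvd (Nat.div_pos (Nat.le_of_dvd (orderOf_pos n) h5) hp5.pos).ne' (Nat.div_dvd_of_dvd h5),
          Nat.div_div_self h5 (orderOf_pos n).ne']
      obtain ⟨g, hg⟩ := exists_conj_zpowers hp5 D.not_sq h6 hz₀
      have h7 : z₀ ∈ N := by
        refine (Subgroup.zpowers_le.2 ?_) hg
        exact hNn.conj_mem _ (N.pow_mem hn _) g
      -- contradiction
      obtain ⟨z, -, W', hz', hxW', hA1⟩ := D.exists_elt hτ hW₀ hW₀d hx₀ hx₀W W₀'
      have hW'0 : W' ≠ ⊥ := by
        intro h0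
        have h8 := hz'.dim'
        rw [h0, finrank_bot] at h8
        omega
      rcases hGP₀.eq_or W' hW'0 hz'.ti' (h7 W' hz'.ti' hz'.dim').1 with h8 | h8
      · rw [h8] at hxW'
        exact hx₀W hxW'
      · exact hA1 h8
  -- the preimage of `W₁`
  let S' : Submodule F V :=
    { carrier := {v | b v ∈ W₁}
      zero_mem' := by
        show b 0 ∈ W₁
        rw [map_zero]
        exact W₁.zero_mem
      add_mem' := by
        intro x y hx hy
        show b (x + y) ∈ W₁
        rw [map_add]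
        exact W₁.add_mem hx hy
      smul_mem' := by
        intro c x hx
        show b (c • x) ∈ W₁
        rw [hb]
        exact W₁.smul_mem _ hx }
  have hS' : ∀ v, v ∈ S' ↔ b v ∈ W₁ := fun _ => Iff.rfl
  have hsmS' : sm b σ hb S' = W₁ := by
    ext v
    rw [mem_sm, hS', b.apply_symm_apply]
  have hdS' : finrank F S' = 2 := by rw [← h3, ← hsmS', finrank_sm]
  have hdS : finrank F (sm b σ hb W₁) = 2 := by rw [finrank_sm, h3]
  -- the vector
  obtain ⟨x, hxS, hxW, hxS'⟩ : ∃ x ∈ sm b σ hb W₁, x ∉ W₁ ∧ (x ∉ S' ∨ S' = sm b σ hb W₁) := by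
    obtain ⟨s1, hs1, hs1'⟩ : ∃ x ∈ sm b σ hb W₁, x ∉ W₁ := by
      by_contra hcon
      push Not at hcon
      exact hmove (Submodule.eq_of_le_of_finrank_eq hcon (by rw [hdS, h3]))
    by_cases heq : S' = sm b σ hb W₁
    · exact ⟨s1, hs1, hs1', Or.inr heq⟩
    obtain ⟨s2, hs2, hs2'⟩ : ∃ x ∈ sm b σ hb W₁, x ∉ S' := by
      by_contra hcon
      push Not at hcon
      exact heq (Submodule.eq_of_le_of_finrank_eq hcon (by rw [hdS, hdS'])).symm
    by_cases h4 : s1 ∈ S'
    · by_cases h5 : s2 ∈ W₁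
      · refine ⟨s1 + s2, Submodule.add_mem _ hs1 hs2, fun h6 => hs1' ?_, Or.inl fun h6 => hs2' ?_⟩
        · have := W₁.sub_mem h6 h5
          rwa [add_sub_cancel_right] at this
        · have := S'.sub_mem h6 h4
          rwa [add_sub_cancel_left] at this
      · exact ⟨s2, hs2, h5, Or.inl hs2'⟩
    · exact ⟨s1, hs1, hs1', Or.inl h4⟩
  have hxx : B x x = 0 := by
    have h4 := hbB (b.symm x) (b.symm x)
    rw [b.apply_symm_apply, hTI _ hxS _ hxS, map_zero] at h4
    exact h4
  obtain ⟨z, hz, W', hzW, hxW', hA1⟩ := D.exists_elt hτ hTI h3 hxx hxW (sm b σ hb W₁)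
  refine ⟨π z, ?_, fun hs => ?_⟩
  · have := orderOf_map (a := 1) hp5 (by rw [hz, pow_one]) π hkr
    rwa [pow_one] at this
  · have h4 : (Subgroup.closure ({z, γ z} : Set G)).map π = Subgroup.closure ({π z, β (π z)} : Set K) := by
      rw [MonoidHom.map_closure, Set.image_pair, hγ]
    have h5 : Group.IsSolvable (Subgroup.closure ({z, γ z} : Set G)) := by
      apply solvable_of_map π hker
      rw [h4]
      exact hs
    have h6 : GP2 B (φ (γ z)) (sm b σ hb W₁) (sm b σ hb W') := hzW.conj hbB (fun v => hφb z v)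
    refine pair_false2 D hz (by rw [MulEquiv.orderOf_eq, hz]) hzW h6 hmove.symm ?_ hA1 ?_ h5
      (Subgroup.subset_closure (by simp)) (Subgroup.subset_closure (by simp))
    · intro h7
      have h8 : S' = W' := sm_inj (b := b) (σ := σ) (hb := hb) (by rw [hsmS', ← h7])
      rcases hxS' with h9 | h9
      · apply h9
        rw [h8]
        exact hxW'
      · exact hA1 (h8.symm.trans h9)
    · intro h7
      have h8 : b.symm x ∈ W' := by
        have h9 : x ∈ sm b σ hb W' := by rw [← h7]; exact hxW'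
        exact h9
      have h10 : b.symm x ∈ W₁ ⊓ W' := ⟨hxS, h8⟩
      rw [hzW.disj, Submodule.mem_bot] at h10
      have h11 : x = 0 := by rw [← b.apply_symm_apply x, h10, map_zero]
      rw [h11] at hxW
      exact hxW W₁.zero_mem

end

end Cfsg.Agent.H518.SU
end

-- part: H518/SUPsuFour
section
/-!
# `PSU_4(2)` and `PSp_4(3)`
-/

set_option autoImplicit false
set_option linter.unusedSectionVars false

namespace Cfsg.Agent.H518.SU

open Module Cfsg.Agent.H518.DghpFix Cfsg.Agent.H518.DghpPrim Cfsg.Agent.H518.DghpMat Matrix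
open Cfsg.Agent.ClassicalGeometry Cfsg.Agent.ClassicalGeometry.PSUAutCount Cfsg.Agent.LieClassical.HermSiegel

universe u v w w'

variable {F : Type} [Field F] [Fintype F]

/-- The form. -/
def hB4 (F : Type) [Field F] (x y : Fin 4 → F) : F := Cfsg.hermForm 4 F 2 y x

theorem hm4 (hF : Fintype.card F = 4) : Hm (hB4 F) where
  toFrm := frm_herm (n := 4) (q := 2) (by rw [hF]; norm_num)
  herm x y := by
    have hF' : Fintype.card F = 2 ^ 2 := by rw [hF]; norm_num
    show Cfsg.hermForm 4 F 2 x y = (Cfsg.hermForm 4 F 2 y x) ^ 2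
    simp only [Cfsg.hermForm]
    rw [Cfsg.Agent.LieClassical.HermBasic.sum_pow_q hF']
    refine Finset.sum_congr rfl fun i _ => ?_
    rw [mul_pow, Cfsg.Agent.LieClassical.HermBasic.pow_q_pow_q hF', mul_comm]
  cd := hF

theorem exc_psu_four (hF : Fintype.card F = 4) (hsimp : IsSimpleGroup (Cfsg.PSU 4 F 2))
    (hZ : Subgroup.center (Cfsg.PSU 4 F 2) = ⊥) : Exc1 (Cfsg.PSU 4 F 2) := by
  have hF' : Fintype.card F = 2 ^ 2 := by rw [hF]; norm_num
  have hH := hm4 hF
  have h2 : (2 : F) = 0 := hH.two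
  have hp5 : Nat.Prime 5 := by norm_num
  have hpf : Fact (Nat.Prime 2) := ⟨Nat.prime_two⟩
  have hcSU : Nat.card (Cfsg.SU 4 F 2) = 25920 := by
    rw [card_SU_succ hF']
    simp only [Finset.prod_range_succ, Finset.prod_range_zero]
    norm_num [Nat.even_iff]
  have hcZ : Nat.card (Subgroup.center (Cfsg.SU 4 F 2)) = 1 := by
    rw [Cfsg.Agent.S0279.result hF' 4 (by norm_num)]
    norm_num
  have hcK : Nat.card (Cfsg.PSU 4 F 2) = 25920 := by
    have h6 : Nat.card (Cfsg.SU 4 F 2) = Nat.card (Cfsg.PSU 4 F 2) * Nat.card (Subgroup.center (Cfsg.SU 4 F 2)) :=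
      Subgroup.card_eq_card_quotient_mul_card_subgroup _
    rw [hcZ, hcSU, mul_one] at h6
    exact h6.symm
  have hout : Nat.card (Cfsg.Out (Cfsg.PSU 4 F 2)) = 2 := by
    rw [H163.PG.card_out_psu (p := 2) (f := 1) Nat.prime_two le_rfl (by norm_num) hF' (by norm_num) (by norm_num) hZ]
    norm_num
  have hd : finrank F (Fin 4 → F) = 4 := by rw [Module.finrank_fin_fun]
  have hker : (QuotientGroup.mk' (Subgroup.center (Cfsg.SU 4 F 2))).ker =
      Subgroup.center (Cfsg.SU 4 F 2) := QuotientGroup.ker_mk' _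
  obtain ⟨τ, hτ⟩ : ∃ τ : F, τ ^ 2 + τ + 1 = 0 := by
    obtain ⟨τ, h0, h1⟩ : ∃ τ : F, τ ≠ 0 ∧ τ ≠ 1 := by
      by_contra hcon
      push Not at hcon
      have h3 : Fintype.card F ≤ 2 := by
        classical
        have h4 : (Finset.univ : Finset F) ⊆ {0, 1} := by
          intro t _
          by_cases ht : t = 0
          · simp only [ht, _root_.Finset.mem_insert, _root_.Finset.mem_singleton, _root_.zero_ne_one, _root_.or_false]
          · simp only [hcon t ht, _root_.Finset.mem_insert, _root_.one_ne_zero, _root_.Finset.mem_singleton, _root_.or_true]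
        exact (Finset.card_le_card h4).trans Finset.card_le_two
      omega
    refine ⟨τ, ?_⟩
    have h3 : τ * ((τ - 1) * (τ ^ 2 + τ + 1)) = 0 := by
      linear_combination hH.pow_four τ
    exact ((mul_eq_zero.1 h3).resolve_left h0 |> mul_eq_zero.1).resolve_left (sub_ne_zero.2 h1)
  have D : Dat2 (matRep (suHom 4 F 2)) (hB4 F) :=
    { inj := matRep_injective (suHom_injective _ _ _)
      hm := hH
      isom := fun g u v => g.2 v u
      not_sq := by rw [hcSU]; norm_num
      dim := hd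
      all := by
        intro z hz hiso
        classical
        have hA : ∀ v, LinearMap.toMatrix' z *ᵥ v = z v := fun v => by
          rw [LinearMap.toMatrix'_mulVec]
        have hpow : (LinearMap.toMatrix' z) ^ 5 = 1 := by
          have h3 : LinearMap.toMatrixAlgEquiv' (z ^ 5) = (LinearMap.toMatrixAlgEquiv' z) ^ 5 := map_pow _ _ _
          rw [hz, map_one] at h3
          exact h3.symm
        have hdet5 : (LinearMap.toMatrix' z).det ^ 5 = 1 := by rw [← det_pow, hpow, det_one]
        have hdet : (LinearMap.toMatrix' z).det = 1 := by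
          have h4 := hH.pow_four (LinearMap.toMatrix' z).det
          have h5 : (LinearMap.toMatrix' z).det * (LinearMap.toMatrix' z).det = 1 := by
            calc _ = (LinearMap.toMatrix' z).det ^ 4 * (LinearMap.toMatrix' z).det := by rw [h4]
              _ = 1 := by rw [← pow_succ, hdet5]
          have h6 : ((LinearMap.toMatrix' z).det - 1) ^ 2 = 0 := by
            linear_combination h5 + (1 - (LinearMap.toMatrix' z).det) * h2
          exact sub_eq_zero.1 (pow_eq_zero_iff (two_ne_zero) |>.1 h6)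
        refine ⟨⟨⟨LinearMap.toMatrix' z, hdet⟩, (LieClassical.SUBasic.mem_SU_iff _).2 fun u v => ?_⟩, ?_⟩
        · show Cfsg.hermForm 4 F 2 (LinearMap.toMatrix' z *ᵥ u) (LinearMap.toMatrix' z *ᵥ v) = _
          rw [hA, hA]
          exact hiso v u
        · rw [matRep_apply]
          show Matrix.toLin' (LinearMap.toMatrix' z) = z
          rw [Matrix.toLin'_toMatrix'] }
  -- the plane
  have hplane : ∀ r s : F, r • (![1, 1, 0, 0] : Fin 4 → F) + s • ![0, 0, 1, 1] = ![r, r, s, s] := by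
    intro r s
    funext i
    (revert i; simp only [_root_.Fin.forall_fin_succ, _root_.Nat.succ_eq_add_one, Nat.reduceAdd, _root_.Matrix.smul_cons, _root_.smul_eq_mul, _root_.mul_one, _root_.MulZeroClass.mul_zero, _root_.Matrix.smul_empty, _root_.Pi.add_apply, Fin.isValue, _root_.Matrix.cons_val_zero, _root_.add_zero, _root_.Matrix.cons_val_succ, _root_.add_eq_right, _root_.Matrix.cons_val_fin_one, _root_.implies_true, _root_.and_self])
  refine Exc1.of hp5 (by norm_num) (by rw [hout]; norm_num) (by rw [hcK]; norm_num) (by rw [hcK]; norm_num)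
    fun β hβ => ?_
  obtain ⟨A, ρ, rfl⟩ := PSUAutMain.exists_toAut hF' (by norm_num) (by norm_num) β
  let b : (Fin 4 → F) ≃+ (Fin 4 → F) :=
    { toFun := fun v => gm A *ᵥ fun i => ρ (v i)
      invFun := fun v => fun i => ρ.symm ((gm A⁻¹ *ᵥ v) i)
      left_inv := fun v => by
        funext i
        show ρ.symm ((gm A⁻¹ *ᵥ (gm A *ᵥ fun i => ρ (v i))) i) = v i
        rw [gm_inv_mulVec, RingEquiv.symm_apply_apply]
      right_inv := fun v => by
        show gm A *ᵥ (fun i => ρ (ρ.symm ((gm A⁻¹ *ᵥ v) i))) = v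
        simp only [RingEquiv.apply_symm_apply]
        exact gm_mulVec_inv A v
      map_add' := fun u v => by
        rw [← mulVec_add]
        congr 1
        funext i
        exact map_add ρ _ _ }
  refine herm_exc D hτ (QuotientGroup.mk' (Subgroup.center (Cfsg.SU 4 F 2)))
    (QuotientGroup.mk'_surjective _) ?_ ?_ (W₀ := pln F ![1, 1, 0, 0] ![0, 0, 1, 1]) ?_ ?_ (x₀ := ![1, 0, 1, 0]) ?_ ?_
    hβ (semiConj A ρ) (fun g => rfl) b ρ ?_ ?_ ?_
  · rw [hker]
    exact Group.isSolvable_of_comm fun a b => Subtype.ext ((Subgroup.mem_center_iff.1 b.2) a)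
  · rw [hker, hcZ]
    norm_num
  · rintro _ ⟨r, s, rfl⟩ _ ⟨r', s', rfl⟩
    rw [hplane, hplane]
    show Cfsg.hermForm 4 F 2 _ _ = 0
    simp only [Cfsg.hermForm, Fin.sum_univ_four]
    show r' * r ^ 2 + r' * r ^ 2 + s' * s ^ 2 + s' * s ^ 2 = 0
    linear_combination (r' * r ^ 2 + s' * s ^ 2) * h2
  · refine finrank_pln fun r s hrs => ?_
    rw [hplane] at hrs
    exact ⟨congrFun hrs 0, congrFun hrs 2⟩
  · show Cfsg.hermForm 4 F 2 _ _ = 0
    simp only [Cfsg.hermForm, Fin.sum_univ_four]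
    show (1 : F) * 1 ^ 2 + 0 * 0 ^ 2 + 1 * 1 ^ 2 + 0 * 0 ^ 2 = 0
    linear_combination h2
  · rintro ⟨r, s, hrs⟩
    rw [hplane] at hrs
    have h3 : (1 : F) = r := congrFun hrs 0
    have h4 : (0 : F) = r := congrFun hrs 1
    exact one_ne_zero (h3.trans h4.symm)
  · intro c v
    show gm A *ᵥ (fun i => ρ ((c • v) i)) = ρ c • (gm A *ᵥ fun i => ρ (v i))
    rw [← mulVec_smul]
    congr 1
    funext i
    exact map_mul ρ _ _
  · intro u v
    exact herm_semi A ρ v u
  · intro g v
    exact act_semiConj A ρ g v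

end Cfsg.Agent.H518.SU
end

-- part: H518/SUExcAll
section
/-!
# The exceptional classical groups, except `PΩ⁺₈(q)`
-/

set_option autoImplicit false

namespace Cfsg.Agent.H518.SU

universe u v w

theorem exc_psp_four {F : Type} [Field F] [Fintype F] (hF : Fintype.card F = 3) (hsimp : IsSimpleGroup (Cfsg.PSp 2 F))
    (hZ : Subgroup.center (Cfsg.PSp 2 F) = ⊥) : Exc1 (Cfsg.PSp 2 F) := by
  have : Fact (Nat.Prime 2) := ⟨Nat.prime_two⟩
  have : Fintype (GaloisField 2 2) := Fintype.ofFinite _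
  have h4 : Fintype.card (GaloisField 2 2) = 4 := by
    rw [← Nat.card_eq_fintype_card, GaloisField.card 2 2 (by norm_num)]
    norm_num
  obtain ⟨e⟩ := Cfsg.Agent.S0822.result (F := GaloisField 2 2) (K := F) h4 hF
  have hs : IsSimpleGroup (Cfsg.PSU 4 (GaloisField 2 2) 2) := e.isSimpleGroup
  exact (exc_psu_four h4 hs (center_eq_bot_of e.symm hZ)).congr e

/-- **The exceptional classical groups**, except `PΩ⁺₈(q)`. -/
theorem exc1_of_exceptions {K : Type u} [Group K] [IsSimpleGroup K] (hZ : Subgroup.center K = ⊥)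
    (h : Exceptions K) : Exc1 K ∨ ∃ (F : Type) (_ : Field F) (_ : Fintype F),
      (Fintype.card F = 2 ∨ Fintype.card F = 3 ∨ Fintype.card F = 5) ∧
      Nonempty (K ≃* Cfsg.POmega F (Cfsg.quadFormPlus 4 F)) := by
  obtain ⟨F, iF, iF', h⟩ := h
  rcases h with ⟨hF, ⟨e⟩⟩ | ⟨hF, ⟨e⟩⟩ | ⟨hF, ⟨e⟩⟩ | ⟨hF, ⟨e⟩⟩ | ⟨hF, ⟨e⟩⟩ | ⟨hF, ⟨e⟩⟩ | ⟨hF, ⟨e⟩⟩ | ⟨hF, ⟨e⟩⟩ |
    ⟨hF, ⟨e⟩⟩ | ⟨hF, ⟨e⟩⟩
  · exact Or.inl ((exc_psl_six hF (center_eq_bot_of e hZ)).congr e.symm)
  · exact Or.inl ((exc_psl_four hF (center_eq_bot_of e hZ)).congr e.symm)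
  · have : IsSimpleGroup (Cfsg.PSp 3 F) := e.symm.isSimpleGroup
    exact Or.inl ((exc_psp_six hF (center_eq_bot_of e hZ) this).congr e.symm)
  · have : IsSimpleGroup (Cfsg.PSp 2 F) := e.symm.isSimpleGroup
    exact Or.inl ((exc_psp_four hF this (center_eq_bot_of e hZ)).congr e.symm)
  · have : IsSimpleGroup (Cfsg.PSU 4 F 2) := e.symm.isSimpleGroup
    exact Or.inl ((exc_psu_four hF this (center_eq_bot_of e hZ)).congr e.symm)
  · exact Or.inl ((exc_odd_seven_three hF (center_eq_bot_of e hZ)).congr e.symm)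
  · exact Or.inl ((exc_odd_seven_five hF (center_eq_bot_of e hZ)).congr e.symm)
  · exact Or.inr ⟨F, iF, iF', Or.inl hF, ⟨e⟩⟩
  · exact Or.inr ⟨F, iF, iF', Or.inr (Or.inl hF), ⟨e⟩⟩
  · exact Or.inr ⟨F, iF, iF', Or.inr (Or.inr hF), ⟨e⟩⟩

end Cfsg.Agent.H518.SU
end

private theorem dce_b72d18d86ebf : _root_.True := by
  try have : _root_.True := by simp only [_root_.Cfsg.Agent.H518.SU.sm.congr_simp]
  exact _root_.True.intro
end
end
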