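import Cfsg.Agent.H465.PETable
import Cfsg.Agent.H821.SpB
import Cfsg.Agent.H465.OEMain_mg
import Cfsg.Agent.H965.SUTwD4Two
import Cfsg.Agent.H833.SpFi22
import Cfsg.Agent.H965.SURow_m3
import Cfsg.Agent.FastGrp
import Cfsg.Agent.Prune
set_option linter.all false
prune_inst 0x7f00000000000000000000000000000000000000000000000000000000000000000000000000000000000000000000000000000000000000000000000000000000000000000000000000000000000000003fffffffffffffffffffffffffffbeffbdffffffff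
open scoped Cfsg.Agent.FastGrp

/-!
# S3853: `PE K` for all known simple groups (helper465)
-/

set_option autoImplicit false

namespace Cfsg.Agent.H465.PEFin

open Subgroup Cfsg Cfsg.Agent.H465.SU Cfsg.Agent.H465.Red Cfsg.Agent.H518.SU

universe u v

theorem P2.of_Exc1 {K : Type u} [Group K] (h : Exc1 K) : P2 K := by
  obtain ⟨r, hr, h5, -, -, y, hy, hall⟩ := h
  intro x hx
  obtain ⟨g, hg⟩ := hall x hx
  refine ⟨g * y * g⁻¹, ⟨r, 1, hr, by omega, ?_⟩, hg⟩
  rw [pow_one, ← hy]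
  exact MulEquiv.orderOf_eq (MulAut.conj g) y

theorem conj_injective {K : Type u} [Group K] (hZ : center K = ⊥) :
    Function.Injective (MulAut.conj : K →* MulAut K) := by
  rw [← MonoidHom.ker_eq_bot_iff, eq_bot_iff, ← hZ]
  intro z hz
  rw [mem_center_iff]
  intro l
  have h1 : MulAut.conj z l = l := by rw [MonoidHom.mem_ker.1 hz]; rfl
  rw [MulAut.conj_apply] at h1
  calc l * z = (z * l * z⁻¹) * z := by rw [h1]
    _ = z * l := by group

theorem PE.of_Exc2 {K : Type u} [Group K] [Finite K] (hZ : center K = ⊥) (h : Exc2 K) : PE K := by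
  obtain ⟨r, hr, h5, -, -, y, hy, hall⟩ := h
  have hinj := conj_injective hZ
  have hord : ∀ g : K, orderOf (g * y * g⁻¹) = r := fun g => by
    rw [← hy]
    exact MulEquiv.orderOf_eq (MulAut.conj g) y
  constructor
  · intro x hx
    have hx1 : orderOf x ≠ 1 := fun h1 => hx (orderOf_eq_one_iff.1 h1)
    obtain ⟨ℓ, hℓ, hℓd⟩ := Nat.exists_prime_and_dvd hx1
    have hpos : 0 < orderOf x := orderOf_pos x
    have ho : orderOf (x ^ (orderOf x / ℓ)) = ℓ := orderOf_pow_orderOf_div hpos.ne' hℓd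
    obtain ⟨g, hg⟩ := hall (x ^ (orderOf x / ℓ)) (by rw [ho]; exact hℓ)
    refine ⟨g * y * g⁻¹, ⟨r, 1, hr, by omega, by rw [pow_one, hord]⟩, fun hs => hg ?_⟩
    have hle : closure ({MulAut.conj (g * y * g⁻¹), x ^ (orderOf x / ℓ)} : Set (MulAut K)) ≤
        closure ({x, MulAut.conj (g * y * g⁻¹)} : Set (MulAut K)) := by
      rw [closure_le]
      rintro z (rfl | rfl)
      · exact subset_closure (by simp)
      · exact pow_mem (subset_closure (by simp)) _
    exact Group.isSolvable_of_isSolvable_injective (f := Subgroup.inclusion hle) (Subgroup.inclusion_injective hle)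
  · obtain ⟨g, hg⟩ := hall (MulAut.conj y) (by rw [orderOf_injective _ hinj, hy]; exact hr)
    refine ⟨r, hr, by omega, g * y * g⁻¹, y, ⟨1, by rw [pow_one, hord]⟩, ⟨1, by rw [pow_one, hy]⟩, fun hs => hg ?_⟩
    have h1 : (closure ({g * y * g⁻¹, y} : Set K)).map (MulAut.conj : K →* MulAut K) =
        closure ({MulAut.conj (g * y * g⁻¹), MulAut.conj y} : Set (MulAut K)) := by
      rw [MonoidHom.map_closure, Set.image_pair]
    rw [← h1]
    exact Group.isSolvable_of_surjective (f := (MulAut.conj : K →* MulAut K).subgroupMap _)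
      ((MulAut.conj : K →* MulAut K).subgroupMap_surjective _)

variable {K : Type u} [Group K] [Finite K] [IsSimpleGroup K]

theorem PE.of_Exc1_congr {L : Type v} [Group L] (hK : ¬ IsMulCommutative K) (e : K ≃* L) (h : Exc1 L) : PE K :=
  PE.of_P2 hK (P2.of_Exc1 (h.congr e.symm))

/-- the two isomorphic groups left -/
def Left (K : Type u) [Group K] : Prop :=
  ∃ (F : Type) (_ : Field F) (_ : Fintype F),
    (Fintype.card F = 3 ∧ Nonempty (K ≃* Cfsg.PSp 2 F)) ∨ (Fintype.card F = 4 ∧ Nonempty (K ≃* Cfsg.PSU 4 F 2))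

theorem exceptions (hK : ¬ IsMulCommutative K) (h : Exceptions K) : PE K ∨ Left K := by
  have hZ := PETable.center_eq_bot hK
  obtain ⟨F, _, _, h⟩ := h
  rcases h with ⟨hF, ⟨e⟩⟩ | ⟨hF, ⟨e⟩⟩ | ⟨hF, ⟨e⟩⟩ | ⟨hF, ⟨e⟩⟩ | ⟨hF, ⟨e⟩⟩ | ⟨hF, ⟨e⟩⟩ | ⟨hF, ⟨e⟩⟩ | ⟨hF, ⟨e⟩⟩ |
    ⟨hF, ⟨e⟩⟩ | ⟨hF, ⟨e⟩⟩
  · exact Or.inl (PE.of_Exc1_congr hK e (exc_psl_six hF (center_eq_bot_of e hZ)))
  · exact Or.inl (PE.of_Exc1_congr hK e (exc_psl_four hF (center_eq_bot_of e hZ)))
  · have hs : IsSimpleGroup (Cfsg.PSp 3 F) := e.symm.isSimpleGroup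
    exact Or.inl (PE.of_Exc1_congr hK e (exc_psp_six hF (center_eq_bot_of e hZ) hs))
  · exact Or.inr ⟨F, _, _, Or.inl ⟨hF, ⟨e⟩⟩⟩
  · exact Or.inr ⟨F, _, _, Or.inr ⟨hF, ⟨e⟩⟩⟩
  · exact Or.inl (PE.of_Exc1_congr hK e (exc_odd_seven_three hF (center_eq_bot_of e hZ)))
  · exact Or.inl (PE.of_Exc1_congr hK e (exc_odd_seven_five hF (center_eq_bot_of e hZ)))
  all_goals
    left
    have h8 := OEight.exc_P8 (F := F) (by omega)
    have hfin : Finite (Cfsg.POmega F (Cfsg.quadFormPlus 4 F)) := Finite.of_equiv K e.toEquiv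
    have hfin' := Finite.of_equiv _ (H597.OECards.pe8 (F := F)).toEquiv
    exact PE.congr ((H597.OECards.pe8 (F := F)).symm.trans e.symm) (PE.of_Exc2 H597.OECards.center_P8 h8)

/-- **All known simple groups have the property `PE`.** -/
theorem final (hK : ¬ IsMulCommutative K) (h : IsKnownSimple' K)
    (IH : ∀ (L : Type u) [Group L] [Finite L] [IsSimpleGroup L], ¬ IsMulCommutative L → Nat.card L < Nat.card K →
      PE L) : PE K ∨ Left K := by
  rcases PETable.table hK h with h | h | h | ⟨F, _, _, hF, ⟨e⟩⟩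
  · exact Or.inl h
  · exact exceptions hK h
  · exact Or.inl (H833.SpFi22.fi22 hK h IH)
  · obtain ⟨p, a, y, hy⟩ := H965.SU.row_twD4_two K (by rw [hF]; norm_num) e
    exact Or.inl (PETable.PE.of_HasSU hK hy.hasSU)

end Cfsg.Agent.H465.PEFin
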