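import Mathlib
import Cfsg.Prelude.Def_LieTwisted
import Cfsg.Prelude.Def_Sz
import Cfsg.Agent.H465.SULin_m3
import Cfsg.Agent.H479.GoodPSLTwoB
import Cfsg.Agent.H478.SporCore_m3
import Cfsg.Agent.Lib.Zsigmondy
import Cfsg.Agent.OddCyclic.ClaimC.SzIso
import Cfsg.Agent.S0331
import Cfsg.Agent.S0324
import Cfsg.Agent.S1158
import Cfsg.Agent.S1069
import Cfsg.Agent.H465.LTwo_m3
import Cfsg.Agent.H845.CopTits
import Cfsg.Agent.H867.TitsOut
import Cfsg.Agent.KFacts.J2.Basic
import Cfsg.Agent.H379.J2Orders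
import Cfsg.Agent.H603.SporElim
import Cfsg.Agent.Mrg.Omega.CoTwoK.Normal
import Cfsg.Agent.H393.Iso.Co2
import Cfsg.Agent.H898.RowCo0
import Cfsg.Agent.H440.MinimalAction
import Cfsg.Agent.H851.P1
import Cfsg.Agent.OddOrderLocal.ExtraspecialCycle
import Cfsg.Agent.BpSpor.MBigCo
import Cfsg.Agent.H794.LeechPP
import Cfsg.Agent.H813.SuzQuot
import Cfsg.Agent.H821.SpB
import Cfsg.Agent.H465.AltPE
import Cfsg.Agent.H60.SpMcL
import Cfsg.Agent.H465.SpFi23
import Cfsg.Agent.H965.SURow_m3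
import Cfsg.Agent.H585.SuG2_mg_m3
import Cfsg.Agent.H585.SuE6
import Cfsg.Agent.H585.SuE7
import Cfsg.Agent.H185.NFTd
import Cfsg.Agent.H679.SpHe
import Cfsg.Agent.FastGrp
import Cfsg.Agent.Prune
set_option linter.all false

section
prune_inst 0x7ffefefceba8bfffffff7e3ffffcdffc33acafffefdff943ffe4efbf9bdf0b028bc5fbaf0de050fe0ed6e23c10b87b53fbffeeffe06fdc7ffffd5ff41ffbee1ff7ff350971dd9cbe0ffc6ffe93f07f8e7f3fffffffffffffffffffffffffffbeffffffffffff

-- part: H465/SzRee
section
prune_inst 0x101001015400000000040000100038852500000000230000800400400809c3028000070022a010020040228000000040011000300000000000000400000400000880000020300c00100010800004000000000000000000000000000000000000000000000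
set_option linter.all false
open scoped Cfsg.Agent.FastGrp

/-!
# Solvably unique elements of the Suzuki and Ree groups (helper465)
-/

set_option autoImplicit false

namespace Cfsg.Agent.H465.SzRee

open Subgroup Cfsg.Agent.H465.SU

/-- the natural representation of a general linear group -/
noncomputable def glRep (ι F : Type*) [Fintype ι] [DecidableEq ι] [Field F] :
    GL ι F →* ((ι → F) ≃ₗ[F] (ι → F)) :=
  (LinearMap.GeneralLinearGroup.generalLinearEquiv F (ι → F)).toMonoidHom.comp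
    (Matrix.GeneralLinearGroup.toLin (n := ι) (R := F)).toMonoidHom

theorem glRep_injective (ι F : Type*) [Fintype ι] [DecidableEq ι] [Field F] :
    Function.Injective (glRep ι F) :=
  (LinearMap.GeneralLinearGroup.generalLinearEquiv F (ι → F)).injective.comp
    (Matrix.GeneralLinearGroup.toLin (n := ι) (R := F)).injective

/-- an element of prime order `p`, the order of the characteristic `r` modulo `p` exceeds the exponent of `r` in `|G|` -/
theorem SUel.of_ord {G : Type*} [Group G] [Finite G] {F V : Type*} [Field F] [AddCommGroup V] [Module F V]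
    [FiniteDimensional F V] (ρ : G →* (V ≃ₗ[F] V)) (hinj : Function.Injective ρ) {r N p : ℕ} [CharP F r]
    (hr : r.Prime) (hp : p.Prime) (hp2 : p ≠ 2) (hpr : r ≠ p) (hN : ¬ r ^ (N + 1) ∣ Nat.card G)
    (hord : N < orderOf ((r : ℕ) : ZMod p)) (hcyc : ∀ P : Sylow p G, IsCyclic P) (hdim : Module.finrank F V + 1 < p)
    {y : G} (hy : orderOf y = p) : SUel p y := by
  have : Fact p.Prime := ⟨hp⟩
  refine SUel.of_linear ρ hinj hp hp2 (a := 1) (le_refl 1) (by rw [hy, pow_one]) hcyc (Or.inl (by simpa using hdim)) ?_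
  intro t ht htp h0 T hT hyT u hu
  have htr : t = r := by
    have h2 := (CharP.cast_eq_zero_iff F r t).1 h0
    exact ((Nat.prime_dvd_prime_iff_eq hr ht).1 h2).symm
  subst htr
  have : Fact t.Prime := ⟨ht⟩
  obtain ⟨k, hk⟩ := IsPGroup.iff_card.1 hT
  obtain ⟨j, hjk, hj, hdvd⟩ := card_fixed hp ht hpr hy hk hyT
  have hj0 : j = 0 := by
    by_contra hj0
    have h1 : orderOf ((t : ℕ) : ZMod p) ∣ j := (Lib.Zsigmondy.dvd_pow_sub_one_iff ht.one_lt.le j).1 hdvd
    have h2 := Nat.le_of_dvd (Nat.pos_of_ne_zero hj0) h1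
    apply hN
    refine (pow_dvd_pow t (by omega : N + 1 ≤ k)).trans ?_
    rw [← hk]
    exact card_subgroup_dvd_card T
  rw [hj0, Nat.sub_zero, ← hk] at hj
  have h2 : T ⊓ centralizer ({y} : Set G) = T := eq_of_le_of_card_ge inf_le_left hj.ge
  have h3 : u ∈ T ⊓ centralizer ({y} : Set G) := by rw [h2]; exact hu
  rw [Nat.sub_self, pow_zero, pow_one]
  exact (mem_centralizer_singleton_iff.1 h3.2).symm

theorem not_dvd_of_ord {a p n j : ℕ} (ha : 2 ≤ a) (h : orderOf (a : ZMod p) = n) (hj : ¬ n ∣ j) : ¬ p ∣ a ^ j - 1 := by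
  rw [Lib.Zsigmondy.dvd_pow_sub_one_iff (by omega), h]
  exact hj

/-- a solvably unique element generating a Sylow `p`-subgroup -/
def HasSUS (G : Type*) [Group G] : Prop :=
  ∃ (p a : ℕ) (y : G), p.Prime ∧ 5 ≤ p ∧ 1 ≤ a ∧ orderOf y = p ^ a ∧ ¬ p ^ (a + 1) ∣ Nat.card G ∧ SUel p y

theorem HasSUS.hasSU {G : Type*} [Group G] (h : HasSUS G) : HasSU G := by
  obtain ⟨p, a, y, hp, hp5, -, -, -, h⟩ := h
  exact ⟨p, hp, by omega, y, h⟩

theorem HasSUS.of_one {G : Type*} [Group G] (h : HasSU1 G) : HasSUS G := by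
  obtain ⟨p, y, hp, hp5, h1, h2, h⟩ := h
  exact ⟨p, 1, y, hp, hp5, le_rfl, by rw [pow_one, h1], h2, h⟩

theorem HasSUS.congr {G H : Type*} [Group G] [Group H] (e : G ≃* H) (h : HasSUS G) : HasSUS H := by
  obtain ⟨p, a, y, hp, hp5, ha, h1, h2, h⟩ := h
  exact ⟨p, a, e y, hp, hp5, ha, by rw [MulEquiv.orderOf_eq, h1], by rwa [← Nat.card_congr e.toEquiv], h.congr e⟩

/-- passing to a generator of a cyclic Sylow subgroup -/
theorem HasSUS.of_cyclic {G : Type*} [Group G] [Finite G] {p : ℕ} (hp : p.Prime) (hp5 : 5 ≤ p)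
    (hcyc : ∀ P : Sylow p G, IsCyclic P) {y : G} (h : SUel p y) : HasSUS G := by
  have : Fact p.Prime := ⟨hp⟩
  obtain ⟨hy1, ⟨k, hk⟩, hu⟩ := h
  have hz : IsPGroup p (zpowers y) := IsPGroup.of_card (n := k) (by rw [Nat.card_zpowers, hk])
  obtain ⟨P, hP⟩ := hz.exists_le_sylow
  obtain ⟨g, hg⟩ := (hcyc P).exists_generator
  have hgo : orderOf (g : G) = p ^ (Nat.card G).factorization p := by
    rw [orderOf_coe, orderOf_eq_card_of_forall_mem_zpowers hg, P.card_eq_multiplicity]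
  have hyg : y ∈ zpowers (g : G) := by
    have h1 : y ∈ (P : Subgroup G) := hP (mem_zpowers y)
    obtain ⟨i, hi⟩ := mem_zpowers_iff.1 (hg ⟨y, h1⟩)
    refine mem_zpowers_iff.2 ⟨i, ?_⟩
    rw [← SubgroupClass.coe_zpow, hi]
  refine ⟨p, (Nat.card G).factorization p, g, hp, hp5, ?_, hgo, ?_, ?_, ⟨_, hgo⟩, ?_⟩
  · by_contra h0
    have h1 : (Nat.card G).factorization p = 0 := by omega
    rw [h1, pow_zero, orderOf_eq_one_iff] at hgo
    rw [hgo, zpowers_one_eq_bot, mem_bot] at hyg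
    exact hy1 hyg
  · exact Nat.pow_succ_factorization_not_dvd Nat.card_pos.ne' hp
  · intro h0
    rw [h0, zpowers_one_eq_bot, mem_bot] at hyg
    exact hy1 hyg
  · intro M hM hgM A B hA hB hAc hBc
    exact hu M hM ((zpowers_le.2 hgM) hyg) A B hA hB hAc hBc

/-- **the Suzuki groups** -/
theorem row_sz {F : Type*} [Field F] [Fintype F] {m : ℕ} (hm : 1 ≤ m) (hF : Fintype.card F = 2 ^ (2 * m + 1)) :
    ∃ (p : ℕ) (y : Cfsg.Sz F m), p.Prime ∧ 13 ≤ p ∧ orderOf ((2 : ℕ) : ZMod p) = 4 * (2 * m + 1) ∧ orderOf y = p ∧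
      SUel p y := by
  obtain ⟨p, hp, hord⟩ := Lib.Zsigmondy.exists_prime_orderOf (a := 2) (n := 4 * (2 * m + 1)) le_rfl (by omega)
    (by omega) (by omega)
  have : Fact p.Prime := ⟨hp⟩
  have hcard := Cfsg.Agent.S0324.result hm hF
  set q := 2 ^ (2 * m + 1) with hq
  have hq8 : 8 ≤ q := by
    have : 2 ^ 3 ≤ 2 ^ (2 * m + 1) := Nat.pow_le_pow_right (by norm_num) (by omega)
    omega
  have hp2' : ¬ p ∣ 2 := by
    intro h
    have h2 : p = 2 := (Nat.prime_dvd_prime_iff_eq hp Nat.prime_two).1 h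
    subst h2
    have h3 : ((2 : ℕ) : ZMod 2) = 0 := ZMod.natCast_self 2
    rw [h3] at hord
    have h4 : orderOf (0 : ZMod 2) = 0 := by
      rw [orderOf_eq_zero_iff']
      intro n hn h5
      rw [zero_pow hn.ne'] at h5
      exact zero_ne_one h5
    omega
  have hp2 : p ≠ 2 := fun h => hp2' (h ▸ dvd_rfl)
  have hp13 : 13 ≤ p := by
    have h1 := Lib.Zsigmondy.orderOf_dvd_pred hp hp2'
    rw [hord] at h1
    have h2 := Nat.le_of_dvd (by have := hp.two_le; omega) h1
    omega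
  have hfin : Finite (Cfsg.Sz F m) := by
    apply Nat.finite_of_card_ne_zero
    rw [hcard]
    have : q - 1 ≠ 0 := by omega
    (clear * - this; positivity)
  -- `p ∣ q² + 1`
  have hpq : p ∣ q ^ 2 + 1 := by
    have h1 : p ∣ 2 ^ (4 * (2 * m + 1)) - 1 := (Lib.Zsigmondy.dvd_pow_sub_one_iff (by norm_num) _).2 (by rw [hord])
    have h2 : 2 ^ (4 * (2 * m + 1)) - 1 = (q ^ 2 + 1) * (2 ^ (2 * (2 * m + 1)) - 1) := by
      have e1 : 2 ^ (4 * (2 * m + 1)) = (q ^ 2) ^ 2 := by rw [hq]; ring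
      have e2 : 2 ^ (2 * (2 * m + 1)) = q ^ 2 := by rw [hq]; ring
      rw [e1, e2]
      have := Nat.sq_sub_sq (q ^ 2) 1
      rwa [one_pow] at this
    rw [h2] at h1
    rcases (hp.dvd_mul).1 h1 with h3 | h3
    · exact h3
    · exact absurd h3 (not_dvd_of_ord le_rfl hord (fun h4 => by
        have := Nat.le_of_dvd (by omega) h4
        omega))
  obtain ⟨y, hy⟩ := exists_prime_orderOf_dvd_card' (G := Cfsg.Sz F m) p (by
    rw [hcard]
    exact (hpq.mul_left _).mul_right _)
  refine ⟨p, y, hp, hp13, hord, hy, ?_⟩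
  have hchar : CharP F 2 := by
    have h1 : ringChar F = 2 := by
      by_contra h
      have h2 := FiniteField.odd_card_of_char_ne_two h
      rw [hF, hq] at h2
      have h3 : 2 ∣ 2 ^ (2 * m + 1) := dvd_pow_self 2 (by omega)
      omega
    exact ringChar.of_eq h1
  have hcyc : ∀ P : Sylow p (Cfsg.Sz F m), IsCyclic P := fun P => S0331.result hm hF hp2 P
  refine SUel.of_ord (F := F) (r := 2) (N := 2 * (2 * m + 1)) (V := Fin 4 → F)
    ((Matrix.SpecialLinearGroup.toLin' (n := Fin 4) (R := F)).comp (Cfsg.Sz F m).subtype)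
    (Matrix.SpecialLinearGroup.toLin'_injective.comp (Cfsg.Sz F m).subtype_injective) Nat.prime_two hp hp2 hp2.symm
    ?_ ?_ hcyc ?_ hy
  · -- the 2-part of the order
    rw [hcard]
    intro h
    have hodd : Nat.Coprime (2 ^ (2 * (2 * m + 1) + 1)) ((q ^ 2 + 1) * (q - 1)) := by
      apply Nat.Coprime.pow_left
      have h2 : 2 ∣ q := by rw [hq]; exact dvd_pow_self 2 (by omega)
      apply Nat.Coprime.mul_right
      · rw [Nat.coprime_two_left, Nat.odd_iff]
        have : 2 ∣ q ^ 2 := h2.trans (dvd_pow_self q (by norm_num))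
        omega
      · rw [Nat.coprime_two_left, Nat.odd_iff]
        omega
    have h3 : 2 ^ (2 * (2 * m + 1) + 1) ∣ q ^ 2 := by
      refine hodd.dvd_of_dvd_mul_right ?_
      convert h using 1
      ring
    have h4 : q ^ 2 = 2 ^ (2 * (2 * m + 1)) := by rw [hq]; ring
    rw [h4, Nat.pow_dvd_pow_iff_le_right (by norm_num)] at h3
    omega
  · rw [hord]; omega
  · rw [Module.finrank_fintype_fun_eq_card, Fintype.card_fin]
    omega

theorem hasSUS_sz {G : Type*} [Group G] [Finite G] (h : Cfsg.Lie.IsoSuzuki G) : HasSUS G := by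
  obtain ⟨F, _, _, m, hm, hF, ⟨e⟩⟩ := h
  obtain ⟨p, y, hp, hp13, hord, hy, hSU⟩ := row_sz hm hF
  have : Fact p.Prime := ⟨hp⟩
  obtain ⟨e'⟩ := Cfsg.Agent.OddCyclic.ClaimC.SzIso.iso (F := F) hm hF
  have f : Cfsg.Sz F m ≃* G := e'.trans e.symm
  have : Finite (Cfsg.Sz F m) := Finite.of_equiv G f.symm.toEquiv
  exact (HasSUS.of_cyclic hp (by omega) (fun P => S0331.result hm hF (by omega) P) hSU).congr f

/-! ### the Ree groups -/

/-- Sylow subgroups contained in a conjugate of a cyclic subgroup -/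
theorem cyclic_of_hall {G : Type*} [Group G] [Finite G] {p : ℕ} [Fact p.Prime] {A : Subgroup G} (hA : IsCyclic A)
    (hind : ¬ p ∣ A.index) (P : Sylow p G) : IsCyclic P := by
  obtain ⟨g, hg⟩ := H728.DghpSyl.exists_conj_le Fact.out hind P.2
  have h1 : IsCyclic ((P : Subgroup G).map (MulAut.conj g).toMonoidHom) :=
    isCyclic_of_injective (inclusion hg) (inclusion_injective hg)
  exact isCyclic_of_surjective
    ((P : Subgroup G).equivMapOfInjective (MulAut.conj g).toMonoidHom (MulAut.conj g).injective).symm.toMonoidHom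
    (MulEquiv.surjective _)

theorem row_ree {K : Type*} [Field K] [Fintype K] {m : ℕ} (hm : 1 ≤ m) (hK : Fintype.card K = 3 ^ (2 * m + 1)) :
    HasSUS (Cfsg.Lie.twistedG2 K (3 ^ m)) := by
  obtain ⟨p, hp, hord⟩ := Lib.Zsigmondy.exists_prime_orderOf (a := 3) (n := 6 * (2 * m + 1)) (by norm_num) (by omega)
    (by omega) (by omega)
  have : Fact p.Prime := ⟨hp⟩
  have hcard := Cfsg.Agent.S1069.result (K := K) hK
  have hS := Cfsg.Agent.S1158.result hm hK
  set q := 3 ^ (2 * m + 1) with hq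
  set t := 3 ^ (m + 1) with ht
  have hq27 : 27 ≤ q := by
    have : 3 ^ 3 ≤ 3 ^ (2 * m + 1) := Nat.pow_le_pow_right (by norm_num) (by omega)
    omega
  have htq : t ≤ q := Nat.pow_le_pow_right (by norm_num) (by omega)
  have htt : t ^ 2 = 3 * q := by
    rw [ht, hq]
    ring
  have hp3' : ¬ p ∣ 3 := by
    intro h
    have h2 : p = 3 := (Nat.prime_dvd_prime_iff_eq hp Nat.prime_three).1 h
    subst h2
    have h3 : ((3 : ℕ) : ZMod 3) = 0 := ZMod.natCast_self 3
    rw [h3] at hord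
    have h4 : orderOf (0 : ZMod 3) = 0 := by
      rw [orderOf_eq_zero_iff']
      intro n hn h5
      rw [zero_pow hn.ne'] at h5
      exact zero_ne_one h5
    omega
  have hp3 : p ≠ 3 := fun h => hp3' (h ▸ dvd_rfl)
  have hp19 : 19 ≤ p := by
    have h1 := Lib.Zsigmondy.orderOf_dvd_pred hp hp3'
    rw [hord] at h1
    have h2 := Nat.le_of_dvd (by have := hp.two_le; omega) h1
    omega
  have hprod : q ^ 3 + 1 = (q + 1) * ((q + t + 1) * (q - t + 1)) := by
    have : (t : ℤ) ^ 2 = 3 * q := by exact_mod_cast htt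
    zify [htq]
    linear_combination (q + 1 : ℤ) * this
  have hfin : Finite ↥(Cfsg.Lie.twistedG2 K (3 ^ m)) := by
    apply Nat.finite_of_card_ne_zero
    rw [hcard]
    have : q - 1 ≠ 0 := by omega
    (clear * - this; positivity)
  have hn1 : ¬ p ∣ q - 1 := by
    have h1 := not_dvd_of_ord (a := 3) (j := 2 * m + 1) (by norm_num) hord (fun h => by
      have := Nat.le_of_dvd (by omega) h
      omega)
    exact h1
  have hn2 : ¬ p ∣ q ^ 2 - 1 := by
    have h1 := not_dvd_of_ord (a := 3) (j := 2 * (2 * m + 1)) (by norm_num) hord (fun h => by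
      have := Nat.le_of_dvd (by omega) h
      omega)
    have e : 3 ^ (2 * (2 * m + 1)) = q ^ 2 := by rw [hq]; ring
    rwa [e] at h1
  have hn3 : ¬ p ∣ q + 1 := by
    intro h
    apply hn2
    have : q ^ 2 - 1 = (q + 1) * (q - 1) := by
      have := Nat.sq_sub_sq q 1
      rwa [one_pow] at this
    rw [this]
    exact h.mul_right _
  -- `p ∣ q³ + 1`
  have hpq : p ∣ q ^ 3 + 1 := by
    have h1 : p ∣ 3 ^ (6 * (2 * m + 1)) - 1 := (Lib.Zsigmondy.dvd_pow_sub_one_iff (by norm_num) _).2 (by rw [hord])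
    have h2 : 3 ^ (6 * (2 * m + 1)) - 1 = (q ^ 3 + 1) * (3 ^ (3 * (2 * m + 1)) - 1) := by
      have e1 : 3 ^ (6 * (2 * m + 1)) = (q ^ 3) ^ 2 := by rw [hq]; ring
      have e2 : 3 ^ (3 * (2 * m + 1)) = q ^ 3 := by rw [hq]; ring
      rw [e1, e2]
      have := Nat.sq_sub_sq (q ^ 3) 1
      rwa [one_pow] at this
    rw [h2] at h1
    rcases (hp.dvd_mul).1 h1 with h3 | h3
    · exact h3
    · exact absurd h3 (not_dvd_of_ord (by norm_num) hord (fun h4 => by
        have := Nat.le_of_dvd (by omega) h4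
        omega))
  -- cyclic Sylow subgroups
  have hcyc : ∀ P : Sylow p ↥(Cfsg.Lie.twistedG2 K (3 ^ m)), IsCyclic P := by
    intro P
    have hpt : p ∣ q + t + 1 ∨ p ∣ q - t + 1 := by
      rw [hprod] at hpq
      rcases (hp.dvd_mul).1 hpq with h | h
      · exact absurd h hn3
      · exact (hp.dvd_mul).1 h
    have hpq0 : ¬ p ∣ q := fun h => hp3' (hp.dvd_of_dvd_pow (hq ▸ h))
    have hboth : ¬ (p ∣ q + t + 1 ∧ p ∣ q - t + 1) := by
      rintro ⟨ha, hb⟩
      have h3 : p ∣ (q + t + 1) - (q - t + 1) := Nat.dvd_sub ha hb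
      have h4 : (q + t + 1) - (q - t + 1) = 2 * t := by (clear * - htq; omega)
      rw [h4] at h3
      rcases (hp.dvd_mul).1 h3 with h5 | h5
      · have := Nat.le_of_dvd (by norm_num) h5
        omega
      · exact hp3' (hp.dvd_of_dvd_pow (ht ▸ h5))
    rcases hpt with h | h
    · obtain ⟨A, hAc, hAn, hAN, hAC⟩ := hS (q + t + 1, 6 * (q + t + 1)) (by simp only [_root_.Set.mem_insert_iff, _root_.Prod.mk.injEq, _root_.mul_eq_mul_left_iff, _root_.Nat.add_right_cancel_iff, _root_.Nat.add_eq_left, _root_.OfNat.ofNat_ne_zero, _root_.or_false, _root_.and_self, _root_.Set.mem_singleton_iff, _root_.or_true])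
      refine cyclic_of_hall hAc ?_ P
      have hc1 : Nat.card ↥(Cfsg.Lie.twistedG2 K (3 ^ m)) = (q + t + 1) * (q ^ 3 * (q - 1) * (q + 1) * (q - t + 1)) := by
        rw [hcard, hprod]; ring
      have h3 := Subgroup.card_mul_index A
      rw [hAn, hc1] at h3
      rw [Nat.eq_of_mul_eq_mul_left (by omega) h3]
      intro h4
      rcases (hp.dvd_mul).1 h4 with h4 | h4
      · rcases (hp.dvd_mul).1 h4 with h4 | h4
        · rcases (hp.dvd_mul).1 h4 with h4 | h4
          · exact hpq0 (hp.dvd_of_dvd_pow h4)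
          · exact hn1 h4
        · exact hn3 h4
      · exact hboth ⟨h, h4⟩
    · obtain ⟨A, hAc, hAn, hAN, hAC⟩ := hS (q - t + 1, 6 * (q - t + 1)) (by simp only [_root_.Set.mem_insert_iff, _root_.Prod.mk.injEq, _root_.mul_eq_mul_left_iff, _root_.Nat.add_right_cancel_iff, _root_.OfNat.ofNat_ne_zero, _root_.or_false, _root_.Set.mem_singleton_iff, _root_.and_self, _root_.true_or, _root_.or_true])
      refine cyclic_of_hall hAc ?_ P
      have hc1 : Nat.card ↥(Cfsg.Lie.twistedG2 K (3 ^ m)) = (q - t + 1) * (q ^ 3 * (q - 1) * (q + 1) * (q + t + 1)) := by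
        rw [hcard, hprod]; ring
      have h3 := Subgroup.card_mul_index A
      rw [hAn, hc1] at h3
      rw [Nat.eq_of_mul_eq_mul_left (by omega) h3]
      intro h4
      rcases (hp.dvd_mul).1 h4 with h4 | h4
      · rcases (hp.dvd_mul).1 h4 with h4 | h4
        · rcases (hp.dvd_mul).1 h4 with h4 | h4
          · exact hpq0 (hp.dvd_of_dvd_pow h4)
          · exact hn1 h4
        · exact hn3 h4
      · exact hboth ⟨h4, h⟩
  obtain ⟨y, hy⟩ := exists_prime_orderOf_dvd_card' (G := ↥(Cfsg.Lie.twistedG2 K (3 ^ m))) p (by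
    rw [hcard]
    exact hpq.mul_left _)
  refine HasSUS.of_cyclic hp (by omega) hcyc (y := y) ?_
  have hchar : CharP K 3 := by
    obtain ⟨r, hr⟩ := CharP.exists K
    have hrp : r.Prime := (CharP.char_is_prime_or_zero K r).resolve_right (CharP.char_ne_zero_of_finite K r)
    have : Fact r.Prime := ⟨hrp⟩
    obtain ⟨n, -, hn⟩ := FiniteField.card K r
    rw [hK, hq] at hn
    have h1 : r ∣ 3 ^ (2 * m + 1) := by rw [hn]; exact dvd_pow_self r n.ne_zero
    have h2 : r = 3 := (Nat.prime_dvd_prime_iff_eq hrp Nat.prime_three).1 (hrp.dvd_of_dvd_pow h1)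
    rwa [h2] at hr
  refine SUel.of_ord (F := K) (r := 3) (N := 3 * (2 * m + 1))
    ((glRep _ K).comp (Cfsg.Lie.twistedG2 K (3 ^ m)).subtype)
    ((glRep_injective _ K).comp (Cfsg.Lie.twistedG2 K (3 ^ m)).subtype_injective) Nat.prime_three hp (by omega)
    hp3.symm ?_ ?_ hcyc ?_ hy
  · -- the 3-part of the order
    rw [hcard]
    intro h
    have h3q : 3 ∣ q := by rw [hq]; exact dvd_pow_self 3 (by omega)
    have hco : Nat.Coprime (3 ^ (3 * (2 * m + 1) + 1)) ((q - 1) * (q ^ 3 + 1)) := by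
      apply Nat.Coprime.pow_left
      apply Nat.Coprime.mul_right
      · rw [Nat.Prime.coprime_iff_not_dvd Nat.prime_three]
        (clear * - hq27; omega)
      · rw [Nat.Prime.coprime_iff_not_dvd Nat.prime_three]
        intro h4
        have h5 : 3 ∣ q ^ 3 := h3q.trans (dvd_pow_self q (by norm_num))
        omega
    have h3 : 3 ^ (3 * (2 * m + 1) + 1) ∣ q ^ 3 := by
      refine hco.dvd_of_dvd_mul_right ?_
      convert h using 1
      ring
    have h4 : q ^ 3 = 3 ^ (3 * (2 * m + 1)) := by rw [hq]; ring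
    rw [h4, Nat.pow_dvd_pow_iff_le_right (by norm_num)] at h3
    omega
  · rw [hord]; omega
  · rw [Module.finrank_fintype_fun_eq_card]
    have : Fintype.card Cfsg.Lie.chevG2.Idx = 14 := by decide
    omega

theorem hasSUS_ree {G : Type*} [Group G] [Finite G] (h : Cfsg.Lie.IsoRee G) : HasSUS G := by
  obtain ⟨K, _, _, m, hm, hK, ⟨e⟩⟩ := h
  exact (row_ree hm hK).congr e.symm

end Cfsg.Agent.H465.SzRee
end

-- part: H465/PETable
section
prune_inst 0x30040000000000000000000000400000000000000000000002020202140000000000080009000008000000000000000000800000000000000000000000000000000200000000200000001000000000000000000000000000000000041000000000000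
set_option linter.all false
open scoped Cfsg.Agent.FastGrp

-- part: H965/SUTits
section
/-!
# Solvably unique elements of the Tits group (helper965)
-/

set_option autoImplicit false

namespace Cfsg.Agent.H965.SU

open Subgroup Cfsg.Agent.H465.SU Cfsg.Agent.H568 Cfsg.Agent.H87.TitsAbs

universe u

theorem dat_of_iso {S T : Type*} [Group S] [Group T] (e : S ≃* T) (D : Dat S) : Nonempty (Dat T) := by
  have hc : ∀ {a b : S}, IsConj a b → IsConj (e a) (e b) := fun {a b} h => by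
    rw [isConj_iff] at h ⊢
    obtain ⟨c, hc⟩ := h
    exact ⟨e c, by rw [← hc]; simp only [_root_.map_mul, _root_.map_inv]⟩
  exact ⟨{
    x := e D.x
    t := e D.t
    s := e D.s
    z := e D.z
    x13 := by rw [← map_pow, D.x13, map_one]
    x1 := fun h => D.x1 (e.injective (by rw [h, map_one]))
    txt := by rw [← map_mul, ← map_inv, ← map_mul, D.txt, map_pow]
    t1 := fun h => D.t1 (e.injective (by rw [h, map_one]))
    t3 := by rw [← map_pow, D.t3, map_one]
    s3 := by rw [← map_pow, D.s3, map_one]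
    z3 := by rw [← map_pow, D.z3, map_one]
    zt := by rw [← map_mul, D.zt, map_mul]
    zs := by rw [← map_mul, D.zs, map_mul]
    ts := by rw [← map_mul, D.ts, map_mul, map_mul]
    conj := fun a ha b hb c hc' h => by
      have := hc (D.conj a ha b hb c hc' h)
      simpa only [_root_.isConj_iff, _root_.map_mul, _root_.map_pow] using this }⟩

theorem dat_aux {X : Type*} [Group X] (C : Subgroup X) {G : Type*} [Group G] (e : Nonempty (G ≃* commutator C))
    (h : Nonempty (Dat (commutator C))) : Nonempty (Dat G) := by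
  obtain ⟨e⟩ := e
  obtain ⟨D⟩ := h
  exact dat_of_iso e.symm D

/-- **The row of the Tits group.** -/
theorem row_tits (K : Type u) [Group K] [Finite K] (h : Cfsg.Lie.IsoTits K) :
    ∃ (p a : ℕ) (y : K), SURow K p a y := by
  have hcard : Nat.card K = 17971200 := Cfsg.Agent.NotCT.Orders.tits h
  obtain ⟨D⟩ : Nonempty (Dat K) := dat_aux _ h Cfsg.Agent.H87.TitsData.dat_tits
  have hc := Cfsg.Agent.H845.CopTits.card_cent_x h D
  have h13 : Nat.Prime 13 := by norm_num
  have : Fact (Nat.Prime 13) := ⟨h13⟩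
  have hx : orderOf D.x = 13 := orderOf_eq_prime D.x13 D.x1
  have hfull : ¬ 13 ^ 2 ∣ Nat.card K := by rw [hcard]; norm_num
  have hz1 : D.z ≠ 1 := by
    intro h0
    have h1 := D.conj 0 (by norm_num) 0 (by norm_num) 1 (by norm_num) (by norm_num)
    rw [pow_zero, pow_zero, pow_one, one_mul, one_mul, h0] at h1
    exact D.t1 (isConj_one_right.1 h1)
  have hts : D.t * D.s ≠ D.s * D.t := by
    intro h0
    have h1 := D.ts
    rw [h0] at h1
    exact hz1 (mul_eq_right.1 h1.symm)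
  refine ⟨13, 1, D.x, h13, by norm_num, le_rfl, by rw [hx, pow_one], ?_, hfull, ?_⟩
  · refine suel_of_noNorm h13 hx hfull fun t ht htl htd => ?_
    have h0 : (17971200 : ℕ) = 2 ^ 11 * 3 ^ 3 * 5 ^ 2 * 13 := by norm_num
    have ht' : t = 2 ∨ t = 3 ∨ t = 5 := by
      rw [hcard, h0] at htd
      rcases (Nat.Prime.dvd_mul ht).1 htd with h1 | h1
      · rcases (Nat.Prime.dvd_mul ht).1 h1 with h1 | h1
        · rcases (Nat.Prime.dvd_mul ht).1 h1 with h1 | h1
          · exact Or.inl ((Nat.prime_dvd_prime_iff_eq ht Nat.prime_two).1 (ht.dvd_of_dvd_pow h1))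
          · exact Or.inr (Or.inl ((Nat.prime_dvd_prime_iff_eq ht Nat.prime_three).1 (ht.dvd_of_dvd_pow h1)))
        · exact Or.inr (Or.inr ((Nat.prime_dvd_prime_iff_eq ht (by norm_num)).1 (ht.dvd_of_dvd_pow h1)))
      · exact absurd ((Nat.prime_dvd_prime_iff_eq ht h13).1 h1) htl
    refine noNorm_of_num h13 ht htl hx hc fun k hk hkd hkl => ?_
    have hk13 : k ≤ 24 := by
      by_contra h1
      have h2 : t ^ 25 ∣ Nat.card K := (pow_dvd_pow t (by omega)).trans hkd
      have h3 : 2 ^ 25 ≤ t ^ 25 := Nat.pow_le_pow_left ht.two_le 25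
      have h4 := Nat.le_of_dvd Nat.card_pos h2
      rw [hcard] at h4
      omega
    rw [hcard] at hkd
    rcases ht' with rfl | rfl | rfl
    · exfalso
      interval_cases k <;> revert hkd hkl <;> norm_num
    · have hk3 : k = 3 := by
        interval_cases k <;> revert hkd hkl <;> norm_num
      subst hk3
      refine ⟨fun j hj1 hj3 hj => ?_, fun Q hQ _ => ?_⟩
      · interval_cases j <;> revert hj <;> norm_num
      · have : Fact (Nat.Prime 3) := ⟨Nat.prime_three⟩
        refine nonab_of_pair (t := 3) (k := 3) (Q0 := D.R) (IsPGroup.of_card (n := 3) (by rw [D.card_R]; norm_num))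
          ⟨1, 0, 0, ?_⟩ ⟨0, 1, 0, ?_⟩ hts (by rw [hcard]; norm_num) Q hQ
        · show D.t ^ 1 * D.s ^ 0 * D.z ^ 0 = D.t
          rw [pow_one, pow_zero, pow_zero, mul_one, mul_one]
        · show D.t ^ 0 * D.s ^ 1 * D.z ^ 0 = D.s
          rw [pow_one, pow_zero, pow_zero, mul_one, one_mul]
    · exfalso
      interval_cases k <;> revert hkd hkl <;> norm_num
  · refine inner_of_card h13 fun hd => ?_
    have h1 := Cfsg.Agent.H867.TitsOut.card_out_le h
    have h2 := Nat.le_of_dvd Nat.card_pos hd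
    omega

end Cfsg.Agent.H965.SU
end

-- part: H679/SpJ2
section
/-!
# A solvably unique element of order 7 in the Hall–Janko group (helper679)

`j2 : Spor.IsoJ2 G → HasSU1 G`.  A 2-subgroup `E ≥ 8`, elementary abelian, normalised by `y` of order 7: if `E`
contains a conjugate `t` of the 2-central class, the conjugates of `t` under `y` are seven commuting involutions
in `O₂(C(t)) = 2^{1+4}`; otherwise `E` embeds in `C(t) / O₂(C(t)) ≅ A₅`.
-/

set_option autoImplicit false

namespace Cfsg.Agent.H679.SpJ2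

open Cfsg Subgroup Cfsg.Agent.KFacts.J2.Basic Cfsg.Agent.J2Type.Model Cfsg.Agent.J2Type.CStruct
  Cfsg.Agent.J3Type.OneClass Cfsg.Agent.KFacts.QMinus Cfsg.Agent.H465.SU

variable {X : Type*} [Group X] {t u : X} {Q : Subgroup (centralizer ({t} : Set X))}
  {v : Fin 5 → centralizer ({t} : Set X)} {ρ : centralizer ({t} : Set X) →* SP}

/-- powers of `y` do not commute with `t` -/
theorem not_comm_pow {y : X} (hy : y ^ 7 = 1) (hyt : y * t ≠ t * y) {k m : ℕ} (hkm : k * m % 7 = 1) :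
    y ^ k * t ≠ t * y ^ k := by
  intro h
  apply hyt
  have h1 : Commute (y ^ k) t := h
  have h2 := h1.pow_left m
  rw [← pow_mul] at h2
  have h3 : y ^ (k * m) = y := by
    have h4 : k * m = 7 * (k * m / 7) + 1 := by omega
    rw [h4, pow_add, pow_mul, hy, one_pow, one_mul, pow_one]
  rw [h3] at h2
  exact h2

theorem caseA (D : Dat t u Q v ρ) {y : X} (hy : y ^ 7 = 1) (hyt : y * t ≠ t * y) {E : Subgroup X}
    (hE : ∀ a ∈ E, ∀ b ∈ E, a * b = b * a) (hyE : ∀ a ∈ E, y * a * y⁻¹ ∈ E) (ht : t ∈ E) : False := by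
  -- the conjugates of `t`
  have hmem : ∀ i : ℕ, y ^ i * t * (y ^ i)⁻¹ ∈ E := by
    intro i
    induction i with
    | zero => simpa using ht
    | succ i ih =>
      have h1 := hyE _ ih
      have h2 : y * (y ^ i * t * (y ^ i)⁻¹) * y⁻¹ = y ^ (i + 1) * t * (y ^ (i + 1))⁻¹ := by
        rw [pow_succ']; group
      rwa [h2] at h1
  have key : ∀ i m : ℕ, i * m % 7 = 1 → ∃ (a : ZMod 2) (j : Fin 5),
      y ^ i * t * (y ^ i)⁻¹ = ((zp (zc t) a * v j : centralizer ({t} : Set X)) : X) := by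
    intro i m hm
    have h1 : y ^ i * t * (y ^ i)⁻¹ ∈ centralizer ({t} : Set X) :=
      mem_centralizer_singleton_iff.2 (hE _ (hmem i) _ ht)
    have h2 : (⟨_, h1⟩ : centralizer ({t} : Set X)) ∈ Q := D.mem_Q_of_isConj (isConj_iff.2 ⟨y ^ i, rfl⟩)
    have h3 : (⟨_, h1⟩ : centralizer ({t} : Set X)) * ⟨_, h1⟩ = 1 := by
      apply Subtype.ext
      show y ^ i * t * (y ^ i)⁻¹ * (y ^ i * t * (y ^ i)⁻¹) = 1
      calc y ^ i * t * (y ^ i)⁻¹ * (y ^ i * t * (y ^ i)⁻¹) = y ^ i * (t * t) * (y ^ i)⁻¹ := by group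
        _ = 1 := by rw [D.tt]; group
    have h4 : (⟨_, h1⟩ : centralizer ({t} : Set X)) ≠ 1 := by
      intro h
      apply D.t_ne
      have h5 : y ^ i * t * (y ^ i)⁻¹ = 1 := congrArg Subtype.val h
      calc t = (y ^ i)⁻¹ * (y ^ i * t * (y ^ i)⁻¹) * y ^ i := by group
        _ = 1 := by rw [h5]; group
    rcases invol_Q D.M h2 h3 h4 with h | ⟨a, j, h⟩
    · exfalso
      have h5 : y ^ i * t * (y ^ i)⁻¹ = t := congrArg Subtype.val h
      exact not_comm_pow hy hyt hm (mul_inv_eq_iff_eq_mul.1 h5)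
    · exact ⟨a, j, congrArg Subtype.val h⟩
  obtain ⟨a1, j1, h1⟩ := key 1 1 rfl
  obtain ⟨a2, j2, h2⟩ := key 2 4 rfl
  obtain ⟨a3, j3, h3⟩ := key 3 5 rfl
  have hj : ∀ {i k : ℕ} {a b : ZMod 2} {j l : Fin 5},
      y ^ i * t * (y ^ i)⁻¹ = ((zp (zc t) a * v j : centralizer ({t} : Set X)) : X) →
      y ^ k * t * (y ^ k)⁻¹ = ((zp (zc t) b * v l : centralizer ({t} : Set X)) : X) → j = l := by
    intro i k a b j l h h'
    rw [← zv_comm_iff D.M a b]
    apply Subtype.ext
    show ((zp (zc t) a * v j : centralizer ({t} : Set X)) : X) * ((zp (zc t) b * v l : centralizer ({t} : Set X)) : X)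
      = ((zp (zc t) b * v l : centralizer ({t} : Set X)) : X) * ((zp (zc t) a * v j : centralizer ({t} : Set X)) : X)
    rw [← h, ← h']
    exact hE _ (hmem i) _ (hmem k)
  -- two of them equal
  have hne : ∀ {i k m : ℕ}, k * m % 7 = 1 → y ^ i * t * (y ^ i)⁻¹ ≠ y ^ (i + k) * t * (y ^ (i + k))⁻¹ := by
    intro i k m hm h
    refine not_comm_pow hy hyt hm ?_
    have h5 : y ^ k * t * (y ^ k)⁻¹ = t := by
      calc y ^ k * t * (y ^ k)⁻¹ = (y ^ i)⁻¹ * (y ^ (i + k) * t * (y ^ (i + k))⁻¹) * y ^ i := by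
            rw [pow_add]; group
        _ = (y ^ i)⁻¹ * (y ^ i * t * (y ^ i)⁻¹) * y ^ i := by rw [h]
        _ = t := by group
    exact mul_inv_eq_iff_eq_mul.1 h5
  have e12 := hj h1 h2
  have e13 := hj h1 h3
  subst e12 e13
  have h3cases : a1 = a2 ∨ a2 = a3 ∨ a1 = a3 := by
    clear h1 h2 h3
    revert a1 a2 a3
    decide
  rcases h3cases with h | h | h
  · subst h
    exact hne (i := 1) (k := 1) (m := 1) rfl (h1.trans h2.symm)
  · subst h
    exact hne (i := 2) (k := 1) (m := 1) rfl (h2.trans h3.symm)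
  · subst h
    exact hne (i := 1) (k := 2) (m := 4) rfl (h1.trans h3.symm)

theorem caseB [Finite X] (D : Dat t u Q v ρ) {E : Subgroup X} (hE2 : ∀ a ∈ E, a ^ 2 = 1)
    (h8 : 8 ∣ Nat.card E) (hno : ∀ a ∈ E, ¬ IsConj t a) : False := by
  have : Fact (Nat.Prime 2) := ⟨Nat.prime_two⟩
  have hp : IsPGroup 2 E := fun a => ⟨1, by rw [pow_one]; exact Subtype.ext (hE2 a a.2)⟩
  -- a fixed coset
  have hfix : (MulAction.fixedPoints E (X ⧸ centralizer ({t} : Set X))).Nonempty := by
    refine hp.nonempty_fixed_point_of_prime_not_dvd_card _ ?_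
    have := D.index
    rw [Subgroup.index] at this
    rw [this]
    norm_num
  obtain ⟨q, hq⟩ := hfix
  obtain ⟨g, rfl⟩ := QuotientGroup.mk_surjective q
  have hmem : ∀ a ∈ E, g⁻¹ * a * g ∈ centralizer ({t} : Set X) := by
    intro a ha
    have h1 : ((a * g : X) : X ⧸ centralizer ({t} : Set X)) = (g : X ⧸ centralizer ({t} : Set X)) := hq ⟨a, ha⟩
    have h2 := QuotientGroup.eq.1 h1.symm
    rwa [← mul_assoc] at h2
  let f : E →* centralizer ({t} : Set X) :=
    { toFun := fun a => ⟨g⁻¹ * a * g, hmem a a.2⟩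
      map_one' := Subtype.ext (by show g⁻¹ * (1 : X) * g = 1; group)
      map_mul' := fun a b => Subtype.ext (by
        show g⁻¹ * ((a : X) * b) * g = (g⁻¹ * a * g) * (g⁻¹ * b * g)
        group) }
  have hinj : Function.Injective ((permHom ρ).comp f) := by
    rw [injective_iff_map_eq_one]
    intro a ha
    have h1 : f a ∈ Q := by
      rw [← ker_permHom D.M]
      exact ha
    by_contra ha1
    have h2 : f a ≠ 1 := by
      intro h
      apply ha1
      apply Subtype.ext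
      have h3 : g⁻¹ * (a : X) * g = 1 := congrArg Subtype.val h
      calc (a : X) = g * (g⁻¹ * (a : X) * g) * g⁻¹ := by group
        _ = 1 := by rw [h3]; group
    have h4 : f a * f a = 1 := by
      rw [← map_mul]
      have : a * a = 1 := Subtype.ext (by rw [← pow_two]; exact hE2 a a.2)
      rw [this, map_one]
    have h5 := D.isConj_of_mem_Q h1 h4 h2
    refine hno a a.2 (h5.trans ?_)
    refine isConj_iff.2 ⟨g, ?_⟩
    show g * (g⁻¹ * (a : X) * g) * g⁻¹ = a
    group
  have h1 : Nat.card E ∣ Nat.card (permHom ρ).range := by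
    have h2 : ((permHom ρ).comp f).range ≤ (permHom ρ).range := by
      rintro _ ⟨a, rfl⟩
      exact ⟨f a, rfl⟩
    rw [Nat.card_congr (MonoidHom.ofInjective hinj).toEquiv]
    exact card_dvd_of_le h2
  rw [range_permHom D.M, card_A5] at h1
  have h2 := h8.trans h1
  revert h2
  norm_num

theorem no_E [Finite X] (D : Dat t u Q v ρ) {y : X} (hy : orderOf y = 7) {E : Subgroup X}
    (hE2 : ∀ a ∈ E, a ^ 2 = 1) (hE : ∀ a ∈ E, ∀ b ∈ E, a * b = b * a) (hyE : ∀ a ∈ E, y * a * y⁻¹ ∈ E)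
    (h8 : 8 ∣ Nat.card E) : False := by
  by_cases h : ∃ s ∈ E, IsConj t s
  · obtain ⟨s, hs, hts⟩ := h
    obtain ⟨g, hg⟩ := isConj_iff.1 hts
    -- conjugate by `g⁻¹`
    have hm : ∀ a, a ∈ E.map (MulAut.conj g⁻¹).toMonoidHom ↔ g * a * g⁻¹ ∈ E := by
      intro a
      constructor
      · rintro ⟨b, hb, rfl⟩
        have : g * (MulAut.conj g⁻¹).toMonoidHom b * g⁻¹ = b := by
          show g * (g⁻¹ * b * g⁻¹⁻¹) * g⁻¹ = b
          group
        rwa [this]
      · intro h
        refine ⟨_, h, ?_⟩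
        show g⁻¹ * (g * a * g⁻¹) * g⁻¹⁻¹ = a
        group
    refine caseA D (y := g⁻¹ * y * g) (E := E.map (MulAut.conj g⁻¹).toMonoidHom) ?_ ?_ ?_ ?_ ?_
    · have h1 : g⁻¹ * y * g = MulAut.conj g⁻¹ y := by
        show g⁻¹ * y * g = g⁻¹ * y * g⁻¹⁻¹
        group
      rw [h1, ← map_pow, ← hy, pow_orderOf_eq_one, map_one]
    · intro hc
      have hc1 : y * s = s * y := by
        rw [← hg]
        calc y * (g * t * g⁻¹) = g * ((g⁻¹ * y * g) * t) * g⁻¹ := by group
          _ = g * (t * (g⁻¹ * y * g)) * g⁻¹ := by rw [hc]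
          _ = _ := by group
      have hs2 : orderOf s = 2 := by
        rw [← hg]
        have : orderOf (MulAut.conj g t) = orderOf t := (MulAut.conj g).orderOf_eq t
        rw [← D.orderOf_t]
        exact this
      have h14 : orderOf (y * s) = 7 * 2 := by
        have h1 : Commute y s := hc1
        rw [h1.orderOf_mul_eq_mul_orderOf_of_coprime (by rw [hy, hs2]; norm_num), hy, hs2]
      exact Cfsg.Agent.H379.J2Orders.not_ord_7 D.F (y * s) Nat.prime_two (Or.inl rfl) h14
    · intro a ha b hb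
      rw [hm] at ha hb
      have h1 := hE _ ha _ hb
      calc a * b = g⁻¹ * ((g * a * g⁻¹) * (g * b * g⁻¹)) * g := by group
        _ = g⁻¹ * ((g * b * g⁻¹) * (g * a * g⁻¹)) * g := by rw [h1]
        _ = b * a := by group
    · intro a ha
      rw [hm] at ha ⊢
      have h1 := hyE _ ha
      have h2 : g * (g⁻¹ * y * g * a * (g⁻¹ * y * g)⁻¹) * g⁻¹ = y * (g * a * g⁻¹) * y⁻¹ := by group
      rwa [h2]
    · rw [hm, hg]
      exact hs
  · push Not at h
    exact caseB D hE2 h8 h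

theorem j2 {G : Type*} [Group G] [Finite G] (h : Spor.IsoJ2 G) : HasSU1 G := by
  have hN := NotCT.Orders.j2 h
  obtain ⟨e⟩ := h
  have : Finite Cfsg.Spor.J2 := Finite.of_equiv _ e.toEquiv
  obtain ⟨t, u, Q, v, ρ, D⟩ := Cfsg.Agent.KFacts.J2.Basic.exists_dat
  have : Fact (Nat.Prime 7) := ⟨by norm_num⟩
  obtain ⟨y, hy⟩ := exists_prime_orderOf_dvd_card' (G := G) 7 (by rw [hN]; norm_num)
  have h1 : ¬ 7 ^ 2 ∣ Nat.card G := by rw [hN]; norm_num
  refine ⟨7, y, by norm_num, by norm_num, hy, h1, SUel.of_elem (by norm_num) h1 hy ?_ ?_⟩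
  · intro w hw hw7 hc
    have hd : orderOf w ∣ 604800 := hN ▸ _root_.orderOf_dvd_natCard w
    have h235 : orderOf w = 2 ∨ orderOf w = 3 ∨ orderOf w = 5 := by
      have h2 : orderOf w ∣ 2 ^ 7 * 3 ^ 3 * 5 ^ 2 * 7 := by
        have : (2 ^ 7 * 3 ^ 3 * 5 ^ 2 * 7 : ℕ) = 604800 := by norm_num
        rw [this]; exact hd
      rcases (Nat.Prime.dvd_mul hw).1 h2 with h2 | h2
      · rcases (Nat.Prime.dvd_mul hw).1 h2 with h2 | h2
        · rcases (Nat.Prime.dvd_mul hw).1 h2 with h2 | h2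
          · exact Or.inl ((Nat.prime_dvd_prime_iff_eq hw Nat.prime_two).1 (hw.dvd_of_dvd_pow h2))
          · exact Or.inr (Or.inl ((Nat.prime_dvd_prime_iff_eq hw Nat.prime_three).1 (hw.dvd_of_dvd_pow h2)))
        · exact Or.inr (Or.inr ((Nat.prime_dvd_prime_iff_eq hw Nat.prime_five).1 (hw.dvd_of_dvd_pow h2)))
      · exact absurd ((Nat.prime_dvd_prime_iff_eq hw (by norm_num)).1 h2) hw7
    have h14 : orderOf (y * w) = 7 * orderOf w := by
      have h1 : Commute y w := hc
      rw [h1.orderOf_mul_eq_mul_orderOf_of_coprime (by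
        rw [hy]; exact (Nat.coprime_primes (by norm_num) hw).2 (Ne.symm hw7)), hy]
    refine Cfsg.Agent.H379.J2Orders.not_ord_7 D.F (e (y * w)) hw h235 ?_
    rw [MulEquiv.orderOf_eq, h14]
  · intro s k E hs hs7 hk hcard hdvd hp hE2 hE hyE
    -- `s = 2`, `k ≥ 3`
    have hs2 : s = 2 ∧ 3 ≤ k := by
      have hsd : s ∣ 604800 := by
        rw [← hN]
        exact (dvd_pow_self s hk.ne').trans hdvd
      have h235 : s = 2 ∨ s = 3 ∨ s = 5 := by
        have h2 : s ∣ 2 ^ 7 * 3 ^ 3 * 5 ^ 2 * 7 := by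
          have : (2 ^ 7 * 3 ^ 3 * 5 ^ 2 * 7 : ℕ) = 604800 := by norm_num
          rw [this]; exact hsd
        rcases (Nat.Prime.dvd_mul hs).1 h2 with h2 | h2
        · rcases (Nat.Prime.dvd_mul hs).1 h2 with h2 | h2
          · rcases (Nat.Prime.dvd_mul hs).1 h2 with h2 | h2
            · exact Or.inl ((Nat.prime_dvd_prime_iff_eq hs Nat.prime_two).1 (hs.dvd_of_dvd_pow h2))
            · exact Or.inr (Or.inl ((Nat.prime_dvd_prime_iff_eq hs Nat.prime_three).1 (hs.dvd_of_dvd_pow h2)))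
          · exact Or.inr (Or.inr ((Nat.prime_dvd_prime_iff_eq hs Nat.prime_five).1 (hs.dvd_of_dvd_pow h2)))
        · exact absurd ((Nat.prime_dvd_prime_iff_eq hs (by norm_num)).1 h2) hs7
      rw [hN] at hdvd
      rcases h235 with rfl | rfl | rfl
      · refine ⟨rfl, ?_⟩
        by_contra hk3
        have : k = 1 ∨ k = 2 := by omega
        rcases this with rfl | rfl <;> revert hp <;> norm_num
      · exfalso
        have hk3 : k ≤ 3 := by
          by_contra hk3
          have h4 : (3 : ℕ) ^ 4 ∣ 604800 := (pow_dvd_pow 3 (by omega)).trans hdvd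
          revert h4; norm_num
        have : k = 1 ∨ k = 2 ∨ k = 3 := by omega
        rcases this with rfl | rfl | rfl <;> revert hp <;> norm_num
      · exfalso
        have hk3 : k ≤ 2 := by
          by_contra hk3
          have h4 : (5 : ℕ) ^ 3 ∣ 604800 := (pow_dvd_pow 5 (by omega)).trans hdvd
          revert h4; norm_num
        have : k = 1 ∨ k = 2 := by omega
        rcases this with rfl | rfl <;> revert hp <;> norm_num
    obtain ⟨rfl, hk3⟩ := hs2
    refine no_E D (y := e y) (E := E.map e.toMonoidHom) (by rw [MulEquiv.orderOf_eq, hy]) ?_ ?_ ?_ ?_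
    · rintro _ ⟨a, ha, rfl⟩
      show (e a) ^ 2 = 1
      rw [← map_pow, hE2 a ha, map_one]
    · rintro _ ⟨a, ha, rfl⟩ _ ⟨b, hb, rfl⟩
      show e a * e b = e b * e a
      rw [← map_mul, hE a ha b hb, map_mul]
    · rintro _ ⟨a, ha, rfl⟩
      refine ⟨_, hyE a ha, ?_⟩
      show e (y * a * y⁻¹) = e y * e a * (e y)⁻¹
      rw [map_mul, map_mul, map_inv]
    · rw [Nat.card_congr (E.equivMapOfInjective _ e.injective).toEquiv.symm, hcard]
      exact pow_dvd_pow 2 hk3

end Cfsg.Agent.H679.SpJ2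
end

-- part: H821/SpCo2
section
/-!
# A solvably unique element of `Co2` (helper821)

`p = 23`: `23` is self-centralising and the elementary abelian 2-subgroups have order `≤ 2 ^ 10`.
-/

set_option autoImplicit false

namespace Cfsg.Agent.H821.SpCo2

open Cfsg Cfsg.Agent.H465.SU

/-- no element of prime order `≠ 23` commutes with an element of order 23 -/
theorem not_comm {y u : Spor.Co2} (hy : orderOf y = 23) (hu : (orderOf u).Prime) (hu3 : orderOf u ≠ 23)
    (hle : orderOf u ≤ 23) : y * u ≠ u * y := by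
  intro hc
  by_cases h2 : orderOf u = 2
  · exact Cfsg.Agent.H393.Iso.na_co2_model y u hy h2 hc
  · refine Cfsg.Agent.H898.RowCo0.not_comm_23 (g := Cfsg.Agent.Co2Type.Mono.toCo0 u) (h := Cfsg.Agent.Co2Type.Mono.toCo0 y)
      hu ?_ (lt_of_le_of_ne hle hu3) ?_ ?_ ?_
    · have := hu.two_le
      omega
    · exact orderOf_injective _ Cfsg.Agent.Co2Type.Mono.toCo0_injective u
    · rw [orderOf_injective _ Cfsg.Agent.Co2Type.Mono.toCo0_injective y, hy]
    · show _ * _ = _ * _
      rw [← map_mul, ← map_mul, hc]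

theorem co2 {G : Type*} [Group G] [Finite G] (h : Spor.IsoCo2 G) : HasSU1 G := by
  have hcard := Cfsg.Agent.NotCT.Orders.co2 h
  obtain ⟨e⟩ := h
  have hfin : Finite Spor.Co2 := Finite.of_equiv G e.toEquiv
  have : Fact (Nat.Prime 23) := ⟨by norm_num⟩
  have hp : Nat.Prime 23 := by norm_num
  have hnd : ¬ 23 ^ 2 ∣ Nat.card G := by rw [hcard]; norm_num
  obtain ⟨y, hy⟩ := exists_prime_orderOf_dvd_card' (G := G) 23 (by rw [hcard]; norm_num)
  refine ⟨23, y, hp, by norm_num, hy, hnd, SUel.of_elem hp hnd hy ?_ ?_⟩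
  · intro u hu hu23 hc
    refine not_comm (y := e y) (u := e u) ?_ ?_ ?_ ?_ ?_
    · rw [MulEquiv.orderOf_eq, hy]
    · rw [MulEquiv.orderOf_eq]; exact hu
    · rw [MulEquiv.orderOf_eq]; exact hu23
    · rw [MulEquiv.orderOf_eq]
      have h1 : orderOf u ∣ 2 ^ 18 * 3 ^ 6 * 5 ^ 3 * 7 * 11 * 23 := by
        have h2 := orderOf_dvd_natCard u
        rw [hcard] at h2
        norm_num
        exact h2
      rw [hu.dvd_mul, hu.dvd_mul, hu.dvd_mul, hu.dvd_mul, hu.dvd_mul] at h1
      rcases h1 with ((((h1 | h1) | h1) | h1) | h1) | h1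
      · exact (Nat.le_of_dvd (by norm_num) (hu.dvd_of_dvd_pow h1)).trans (by norm_num)
      · exact (Nat.le_of_dvd (by norm_num) (hu.dvd_of_dvd_pow h1)).trans (by norm_num)
      · exact (Nat.le_of_dvd (by norm_num) (hu.dvd_of_dvd_pow h1)).trans (by norm_num)
      · exact (Nat.le_of_dvd (by norm_num) h1).trans (by norm_num)
      · exact (Nat.le_of_dvd (by norm_num) h1).trans (by norm_num)
      · exact Nat.le_of_dvd (by norm_num) h1
    · rw [← map_mul, ← map_mul, hc]
  · intro t k E ht htp hk hE hdvd h23 hexp hcomm _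
    by_cases ht2 : t = 2
    · subst ht2
      have hk18 : k ≤ 18 := by
        by_contra hcon
        have h1 : 2 ^ 19 ∣ Nat.card G := (pow_dvd_pow 2 (by omega)).trans hdvd
        rw [hcard] at h1
        norm_num at h1
      have hk11 : 11 ≤ k := by
        by_contra hcon
        push Not at hcon
        interval_cases k <;> norm_num at h23
      -- transport
      have h1 := Cfsg.Agent.Omega.CoTwoK.RankCo2.card_le (A := E.map e.toMonoidHom) (by
        rintro _ ⟨a, ha, rfl⟩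
        rw [← map_mul, ← pow_two, hexp a ha, map_one])
      rw [Nat.card_congr (E.equivMapOfInjective e.toMonoidHom e.injective).toEquiv.symm, hE] at h1
      exact absurd h1 (not_le.2 (Nat.pow_lt_pow_right (by norm_num) (by omega)))
    · have h1 : t ^ k ∣ 23 * ([(3, 6), (5, 3), (7, 1), (11, 1)].map fun x : ℕ × ℕ => x.1 ^ x.2).prod := by
        have h2 : t ^ k ∣ 2 ^ 18 * (23 * ([(3, 6), (5, 3), (7, 1), (11, 1)].map fun x : ℕ × ℕ => x.1 ^ x.2).prod) := by
          rw [hcard] at hdvd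
          convert hdvd using 1
          decide +kernel
        exact (Nat.Coprime.pow k 18 ((Nat.coprime_primes ht Nat.prime_two).2 ht2)).dvd_of_dvd_mul_left h2
      exact arith_of_list (p := 23) [(3, 6), (5, 3), (7, 1), (11, 1)] (by norm_num) rfl hp (by decide +kernel)
        (by decide +kernel) t k ht htp hk h1 h23

end Cfsg.Agent.H821.SpCo2
end

-- part: H322/SU/NoFix
section
/-!
# An element of prime order without fixed vectors centralises the invariant `t`-subgroups (helper322)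

`comm_of_noFix`: `ρ` a faithful representation over `ℂ` of a finite group, `x` of prime order `e` without nonzero
fixed vectors, `e ≠ t ^ m + 1` for prime powers `t ^ m`.  Then `x` centralises every `x`-invariant `t`-subgroup,
`t ≠ e` prime.
-/

set_option autoImplicit false
set_option linter.unusedSectionVars false

namespace Cfsg.Agent.H322.NoFix

open Subgroup Cfsg.Agent.H440 Cfsg.Agent.H465.SU
open scoped commutatorElement

variable {Γ V : Type*} [Group Γ] [Finite Γ] [AddCommGroup V] [Module ℂ V]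

/-- powers of `x` -/
theorem noFix_sum (ρ : Representation ℂ Γ V) {e : ℕ} {x : Γ} (hx : x ^ e = 1)
    (hfix : ∀ v, ρ x v = v → v = 0) : ∑ i ∈ Finset.range e, ρ (x ^ i) = 0 := by
  ext v
  rw [LinearMap.zero_apply]
  apply hfix
  have h1 : (∑ i ∈ Finset.range e, ρ x ^ i) * (ρ x - 1) = 0 := by
    rw [geom_sum_mul, ← map_pow, hx, map_one, sub_self]
  have h2 : (ρ x - 1) * (∑ i ∈ Finset.range e, ρ x ^ i) = 0 := by
    rw [← h1]
    exact ((Commute.sub_left (Commute.sum_right _ _ _ fun i _ => Commute.pow_right rfl i)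
      (Commute.one_left _)) : Commute _ _).eq
  have h3 : (∑ i ∈ Finset.range e, ρ (x ^ i)) = ∑ i ∈ Finset.range e, ρ x ^ i :=
    Finset.sum_congr rfl fun i _ => map_pow ρ x i
  rw [h3]
  have h4 := LinearMap.congr_fun h2 v
  rw [Module.End.mul_apply, LinearMap.sub_apply, LinearMap.zero_apply, sub_eq_zero] at h4
  exact h4

/-- `x` acting fixed-point-freely on `T`: `T` acts trivially -/
theorem trivial_of_fpf (ρ : Representation ℂ Γ V) {e : ℕ} (he : e.Prime) {x : Γ} (hx : orderOf x = e)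
    (hfix : ∀ v, ρ x v = v → v = 0) (T : Subgroup Γ) (hxT : ∀ u ∈ T, x * u * x⁻¹ ∈ T)
    (hC : ∀ u ∈ T, x * u = u * x → u = 1) : ∀ s ∈ T, ρ s = 1 := by
  classical
  have hft : Fintype T := Fintype.ofFinite T
  have hxe : x ^ e = 1 := by rw [← hx, pow_orderOf_eq_one]
  have hxT' : ∀ (i : ℕ), ∀ u ∈ T, x ^ i * u * (x ^ i)⁻¹ ∈ T := by
    intro i
    induction i with
    | zero => intro u hu; simpa using hu
    | succ i ih =>
      intro u hu
      have h1 := hxT _ (ih u hu)
      have h2 : x * (x ^ i * u * (x ^ i)⁻¹) * x⁻¹ = x ^ (i + 1) * u * (x ^ (i + 1))⁻¹ := by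
        rw [pow_succ']; group
      rwa [h2] at h1
  -- the bijection
  have key : ∀ i : ℕ, 0 < i → i < e → ∑ t : T, ρ ((t : Γ) * x ^ i * (t : Γ)⁻¹) =
      (∑ t : T, ρ (t : Γ)) * ρ (x ^ i) := by
    intro i hi hie
    let f : T → T := fun t => t * ⟨x ^ i * (t : Γ)⁻¹ * (x ^ i)⁻¹, hxT' i _ (T.inv_mem t.2)⟩
    have hf : Function.Injective f := by
      intro s t hst
      have h1 : (s : Γ) * (x ^ i * (s : Γ)⁻¹ * (x ^ i)⁻¹) = (t : Γ) * (x ^ i * (t : Γ)⁻¹ * (x ^ i)⁻¹) :=
        congrArg Subtype.val hst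
      have h2 : Commute (x ^ i) ((t : Γ)⁻¹ * (s : Γ)) := by
        have h3 : (s : Γ) * (x ^ i * (s : Γ)⁻¹) = (t : Γ) * (x ^ i * (t : Γ)⁻¹) := by
          have := congrArg (· * x ^ i) h1
          simpa only [mul_assoc, _root_.inv_mul_cancel, _root_.mul_one] using this
        show x ^ i * ((t : Γ)⁻¹ * (s : Γ)) = ((t : Γ)⁻¹ * (s : Γ)) * x ^ i
        calc x ^ i * ((t : Γ)⁻¹ * (s : Γ)) = (t : Γ)⁻¹ * ((t : Γ) * (x ^ i * (t : Γ)⁻¹)) * s := by group
          _ = (t : Γ)⁻¹ * ((s : Γ) * (x ^ i * (s : Γ)⁻¹)) * s := by rw [h3]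
          _ = ((t : Γ)⁻¹ * (s : Γ)) * x ^ i := by group
      have h4 : Commute x ((t : Γ)⁻¹ * (s : Γ)) := by
        have h5 : Nat.Coprime i (orderOf x) := by
          rw [hx]
          exact (Nat.coprime_of_lt_prime hi.ne' hie he).symm
        obtain ⟨m, hm⟩ := exists_pow_eq_self_of_coprime h5
        rw [← hm]
        exact h2.pow_left m
      have h6 := hC _ (T.mul_mem (T.inv_mem t.2) s.2) h4.eq
      apply Subtype.ext
      exact (inv_mul_eq_one.1 h6).symm
    have hf' : Function.Bijective f := Finite.injective_iff_bijective.1 hf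
    rw [Finset.sum_mul]
    rw [← Function.Bijective.sum_comp hf' (fun t : T => ρ (t : Γ) * ρ (x ^ i))]
    refine Finset.sum_congr rfl fun t _ => ?_
    rw [← map_mul]
    congr 1
    show (t : Γ) * x ^ i * (t : Γ)⁻¹ = (t : Γ) * (x ^ i * (t : Γ)⁻¹ * (x ^ i)⁻¹) * x ^ i
    group
  -- summing up
  have h0 : ∑ t : T, ρ (t : Γ) * (∑ i ∈ Finset.range e, ρ (x ^ i)) * ρ ((t : Γ)⁻¹) = 0 := by
    rw [noFix_sum ρ hxe hfix]
    simp only [_root_.MulZeroClass.mul_zero, _root_.MulZeroClass.zero_mul, _root_.Finset.sum_const_zero]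
  have h1 : ∑ t : T, ρ (t : Γ) * (∑ i ∈ Finset.range e, ρ (x ^ i)) * ρ ((t : Γ)⁻¹) =
      ∑ i ∈ Finset.range e, ∑ t : T, ρ ((t : Γ) * x ^ i * (t : Γ)⁻¹) := by
    rw [Finset.sum_comm]
    refine Finset.sum_congr rfl fun t _ => ?_
    rw [Finset.mul_sum, Finset.sum_mul]
    refine Finset.sum_congr rfl fun i _ => ?_
    rw [map_mul, map_mul]
  obtain ⟨n, rfl⟩ : ∃ n, e = n + 1 := ⟨e - 1, by have := he.one_lt; omega⟩
  have h2 : ∑ i ∈ Finset.range (n + 1), ∑ t : T, ρ ((t : Γ) * x ^ i * (t : Γ)⁻¹) =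
      (∑ t : T, ρ (t : Γ)) * (∑ i ∈ Finset.range (n + 1), ρ (x ^ i)) - (∑ t : T, ρ (t : Γ)) +
        (Fintype.card T : ℂ) • 1 := by
    rw [Finset.sum_range_succ' (fun i => ∑ t : T, ρ ((t : Γ) * x ^ i * (t : Γ)⁻¹)),
      Finset.sum_range_succ' (fun i => ρ (x ^ i)), mul_add, Finset.mul_sum]
    have h3 : ∀ i ∈ Finset.range n, ∑ t : T, ρ ((t : Γ) * x ^ (i + 1) * (t : Γ)⁻¹) =
        (∑ t : T, ρ (t : Γ)) * ρ (x ^ (i + 1)) := fun i hi =>
      key (i + 1) (Nat.succ_pos i) (by have := Finset.mem_range.1 hi; omega)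
    rw [Finset.sum_congr rfl h3]
    have h4 : ∑ t : T, ρ ((t : Γ) * x ^ 0 * (t : Γ)⁻¹) = (Fintype.card T : ℂ) • 1 := by
      have : ∀ t : T, ρ ((t : Γ) * x ^ 0 * (t : Γ)⁻¹) = 1 := by
        intro t
        rw [pow_zero, mul_one, mul_inv_cancel, map_one]
      rw [Finset.sum_congr rfl fun t _ => this t, Finset.sum_const, Finset.card_univ, Nat.cast_smul_eq_nsmul]
    rw [h4, pow_zero, map_one, mul_one]
    abel
  rw [noFix_sum ρ hxe hfix, mul_zero, zero_sub, ← h1, h0] at h2
  have hS : (∑ t : T, ρ (t : Γ)) = (Fintype.card T : ℂ) • 1 := by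
    have := h2.symm
    rwa [neg_add_eq_zero] at this
  intro s hs
  have h5 : ρ s * (∑ t : T, ρ (t : Γ)) = ∑ t : T, ρ (t : Γ) := by
    rw [Finset.mul_sum]
    refine Fintype.sum_bijective (fun t : T => ⟨s, hs⟩ * t) (Group.mulLeft_bijective _) _ _ fun t => ?_
    rw [← map_mul]
    rfl
  rw [hS, mul_smul_comm, mul_one] at h5
  have h6 : (Fintype.card T : ℂ) ≠ 0 := Nat.cast_ne_zero.2 Fintype.card_ne_zero
  exact smul_right_injective _ h6 h5

theorem normalizes {x : Γ} (T : Subgroup Γ) (hxT : ∀ u ∈ T, x * u * x⁻¹ ∈ T) :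
    zpowers x ≤ normalizer (T : Set Γ) := by
  rw [zpowers_le, mem_normalizer_iff_map_conj_eq]
  refine eq_of_le_of_card_ge ?_ (le_of_eq (card_map_of_injective (MulAut.conj x).injective).symm)
  rintro _ ⟨u, hu, rfl⟩
  exact hxT u hu

theorem comm_bot_iff (T : Subgroup Γ) (x : Γ) : ⁅T, zpowers x⁆ = ⊥ ↔ ∀ u ∈ T, x * u = u * x := by
  rw [commutator_eq_bot_iff_le_centralizer]
  constructor
  · intro h u hu
    exact (mem_centralizer_iff.1 (h hu) x (mem_zpowers x))
  · intro h u hu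
    rw [mem_centralizer_iff]
    rintro _ ⟨i, rfl⟩
    exact ((show Commute x u from h u hu).zpow_left i).eq

/-- the special case -/
theorem special_case [FiniteDimensional ℂ V] (ρ : Representation ℂ Γ V) (hρ : ∀ g, ρ g = 1 → g = 1) {e : ℕ}
    (he : e.Prime) (hF : ∀ t m : ℕ, t.Prime → t ^ m + 1 ≠ e) {x : Γ} (hx : orderOf x = e)
    (hfix : ∀ v, ρ x v = v → v = 0) {t : ℕ} (ht : t.Prime) (hte : t ≠ e) (T : Subgroup Γ) (hT : IsPGroup t T)
    (hxT : ∀ u ∈ T, x * u * x⁻¹ ∈ T) (Z : Subgroup Γ) (hZT : Z < T) (hxZ : ∀ u ∈ Z, x * u * x⁻¹ ∈ Z)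
    (hTT : ⁅T, T⁆ ≤ Z) (hZc : ∀ z ∈ Z, ∀ u ∈ T, z * u = u * z) (hxZc : ∀ z ∈ Z, x * z = z * x)
    (hZfix : ∀ u ∈ T, u⁻¹ * (x * u * x⁻¹) ∈ Z → u ∈ Z)
    (hirr : ∀ R : Subgroup Γ, Z ≤ R → R ≤ T → (∀ u ∈ R, x * u * x⁻¹ ∈ R) → R = Z ∨ R = T)
    (hna : ¬ ∀ u ∈ T, ∀ v ∈ T, u * v = v * u) : False := by
  have hft : Fact t.Prime := ⟨ht⟩
  push Not at hna
  obtain ⟨a, ha, b, hb, hab⟩ := hna
  set z0 := a * b * a⁻¹ * b⁻¹ with hz0
  have hz0T : z0 ∈ Z := hTT (commutator_mem_commutator ha hb)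
  have hz01 : z0 ≠ 1 := by
    intro h
    apply hab
    have h1 : a * b * a⁻¹ = b := by
      rw [hz0, mul_inv_eq_one] at h
      exact h
    exact mul_inv_eq_iff_eq_mul.1 h1
  have hN : Nat.card Γ ≠ 0 := Nat.card_pos.ne'
  have hxe : x ^ e = 1 := by rw [← hx, pow_orderOf_eq_one]
  -- an eigenvalue of `z0`
  obtain ⟨c, hc1, hc⟩ := OddOrderLocal.ExtraspecialCycle.exists_eigenvalue_ne_one (K := ℂ) (p := Nat.card Γ)
    (Nat.cast_ne_zero.2 hN) (ρ z0) (by rw [← map_pow, pow_card_eq_one', map_one]) (fun h => hz01 (hρ z0 h))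
  -- a minimal invariant subspace of the eigenspace
  let P : Submodule ℂ V → Prop := fun W => W ≠ ⊥ ∧ W ≤ Module.End.eigenspace (ρ z0) c ∧
    (∀ u ∈ T, ∀ w ∈ W, ρ u w ∈ W) ∧ ∀ w ∈ W, ρ x w ∈ W
  have hcommE : ∀ g : Γ, z0 * g = g * z0 → ∀ w ∈ Module.End.eigenspace (ρ z0) c,
      ρ g w ∈ Module.End.eigenspace (ρ z0) c := by
    intro g hg w hw
    rw [Module.End.mem_eigenspace_iff] at hw ⊢
    rw [← Module.End.mul_apply, ← map_mul, hg, map_mul, Module.End.mul_apply, hw, map_smul]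
  obtain ⟨W, hW, hmin⟩ := (wellFounded_lt (α := Submodule ℂ V)).has_min {W | P W}
    ⟨_, hc, le_refl _, fun u hu => hcommE u (hZc z0 hz0T u hu), hcommE x (hxZc z0 hz0T).symm⟩
  obtain ⟨hW0, hWE, hTW, hxW⟩ := hW
  -- elements of `Z` act by scalars
  have hscalZ : ∀ z ∈ Z, ∃ d : ℂ, ∀ w ∈ W, ρ z w = d • w := by
    intro z hz
    have hzW : ∀ w ∈ W, ρ z w ∈ W := hTW z (hZT.le hz)
    have hnt : Nontrivial W := Submodule.nontrivial_iff_ne_bot.2 hW0
    obtain ⟨d, hd⟩ := Module.End.exists_eigenvalue ((ρ z).restrict hzW)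
    obtain ⟨⟨v, hv⟩, hvr, hv0⟩ := hd.exists_hasEigenvector
    rw [Module.End.mem_eigenspace_iff] at hvr
    have hvr' : ρ z v = d • v := congrArg Subtype.val hvr
    have hv0' : v ≠ 0 := fun h => hv0 (Subtype.ext h)
    refine ⟨d, ?_⟩
    let W' : Submodule ℂ V := W ⊓ Module.End.eigenspace (ρ z) d
    have hcomm' : ∀ g : Γ, z * g = g * z → (∀ w ∈ W, ρ g w ∈ W) → ∀ w ∈ W', ρ g w ∈ W' := by
      intro g hg hgW w hw
      refine ⟨hgW w hw.1, ?_⟩
      have hw2 := hw.2
      rw [SetLike.mem_coe, Module.End.mem_eigenspace_iff] at hw2 ⊢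
      rw [← Module.End.mul_apply, ← map_mul, hg, map_mul, Module.End.mul_apply, hw2, map_smul]
    have hW' : P W' := by
      refine ⟨?_, inf_le_left.trans hWE, fun u hu => hcomm' u (hZc z hz u hu) (hTW u hu),
        hcomm' x (hxZc z hz).symm hxW⟩
      intro h
      apply hv0'
      have : v ∈ W' := ⟨hv, Module.End.mem_eigenspace_iff.2 hvr'⟩
      rwa [h, Submodule.mem_bot] at this
    have h1 : ¬ W' < W := hmin W' hW'
    have h2 : W' = W := (inf_le_left.lt_or_eq).resolve_left h1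
    intro w hw
    rw [← h2] at hw
    exact Module.End.mem_eigenspace_iff.1 hw.2
  -- the radical
  let R : Subgroup Γ :=
    { carrier := {y | y ∈ T ∧ ∀ z ∈ T, ∀ w ∈ W, ρ (y * z * y⁻¹ * z⁻¹) w = w}
      one_mem' := ⟨T.one_mem, fun z _ w _ => by simp⟩
      mul_mem' := by
        rintro y y' ⟨hy1, hy2⟩ ⟨hy1', hy2'⟩
        refine ⟨T.mul_mem hy1 hy1', fun z hz w hw => ?_⟩
        have h1 : y' * z * y'⁻¹ * z⁻¹ ∈ Z := hTT (commutator_mem_commutator hy1' hz)
        have h2 : y * y' * z * (y * y')⁻¹ * z⁻¹ = (y' * z * y'⁻¹ * z⁻¹) * (y * z * y⁻¹ * z⁻¹) := by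
          calc y * y' * z * (y * y')⁻¹ * z⁻¹ = y * (y' * z * y'⁻¹ * z⁻¹) * y⁻¹ * (y * z * y⁻¹ * z⁻¹) := by group
            _ = (y' * z * y'⁻¹ * z⁻¹) * (y * z * y⁻¹ * z⁻¹) := by
              rw [← hZc _ h1 y hy1]; group
        rw [h2, map_mul, Module.End.mul_apply, hy2 z hz w hw, hy2' z hz w hw]
      inv_mem' := by
        rintro y ⟨hy1, hy2⟩
        refine ⟨T.inv_mem hy1, fun z hz w hw => ?_⟩
        have h1 : y * z * y⁻¹ * z⁻¹ ∈ Z := hTT (commutator_mem_commutator hy1 hz)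
        have h2 : (y⁻¹ * z * y⁻¹⁻¹ * z⁻¹) * (y * z * y⁻¹ * z⁻¹) = 1 := by
          have h3 := hZc _ h1 y hy1
          have h4 : y⁻¹ * z * y⁻¹⁻¹ * z⁻¹ = y⁻¹ * (y * z * y⁻¹ * z⁻¹)⁻¹ * y := by group
          rw [h4]
          have h5 : y⁻¹ * (y * z * y⁻¹ * z⁻¹)⁻¹ * y = (y * z * y⁻¹ * z⁻¹)⁻¹ := by
            have h6 : Commute (y * z * y⁻¹ * z⁻¹) y := h3
            have h7 := h6.inv_left
            rw [mul_assoc, h7.eq, ← mul_assoc, inv_mul_cancel, one_mul]
          rw [h5, inv_mul_cancel]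
        have h3 : ρ ((y⁻¹ * z * y⁻¹⁻¹ * z⁻¹) * (y * z * y⁻¹ * z⁻¹)) w = w := by rw [h2, map_one]; rfl
        rw [map_mul, Module.End.mul_apply, hy2 z hz w hw] at h3
        exact h3 }
  have hRT : R ≤ T := fun y hy => hy.1
  have hZR : Z ≤ R := by
    intro y hy
    refine ⟨hZT.le hy, fun z hz w hw => ?_⟩
    have h1 : y * z * y⁻¹ * z⁻¹ = 1 := by
      rw [hZc y hy z hz]; group
    rw [h1, map_one]; rfl
  have hxW' : ∀ w ∈ W, ρ x⁻¹ w ∈ W := by
    have h1 : ∀ i : ℕ, ∀ w ∈ W, ρ (x ^ i) w ∈ W := by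
      intro i
      induction i with
      | zero => intro w hw; rw [pow_zero, map_one]; exact hw
      | succ i ih => intro w hw; rw [pow_succ', map_mul, Module.End.mul_apply]; exact hxW _ (ih w hw)
    intro w hw
    have h2 : x⁻¹ = x ^ (e - 1) := by
      rw [inv_eq_iff_mul_eq_one, ← pow_succ', Nat.sub_add_cancel he.one_lt.le, hxe]
    rw [h2]
    exact h1 _ w hw
  have hxT' : ∀ u ∈ T, x⁻¹ * u * x ∈ T := fun u hu =>
    (mem_normalizer_iff''.1 ((zpowers_le.1 (normalizes T hxT))) u).1 hu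
  have hRx : ∀ u ∈ R, x * u * x⁻¹ ∈ R := by
    rintro y ⟨hy1, hy2⟩
    refine ⟨hxT y hy1, fun z hz w hw => ?_⟩
    have h1 : x * y * x⁻¹ * z * (x * y * x⁻¹)⁻¹ * z⁻¹ =
        x * ((y * (x⁻¹ * z * x) * y⁻¹ * (x⁻¹ * z * x)⁻¹) * x⁻¹) := by group
    rw [h1, map_mul, Module.End.mul_apply, map_mul, Module.End.mul_apply, hy2 _ (hxT' z hz) _ (hxW' w hw),
      ← Module.End.mul_apply, ← map_mul, mul_inv_cancel, map_one]
    rfl
  have hRneT : R ≠ T := by
    intro h
    have h1 : a ∈ R := by rw [h]; exact ha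
    obtain ⟨w, hw, hw0⟩ := Submodule.exists_mem_ne_zero_of_ne_bot hW0
    have h2 := h1.2 b hb w hw
    have h3 := Module.End.mem_eigenspace_iff.1 (hWE hw)
    rw [hz0, h2] at h3
    have h4 : (c - 1) • w = 0 := by rw [sub_smul, one_smul, ← h3, sub_self]
    rcases smul_eq_zero.1 h4 with h5 | h5
    · exact hc1 (sub_eq_zero.1 h5)
    · exact hw0 h5
  have hRZ : R = Z := (hirr R hZR hRT hRx).resolve_right hRneT
  have heT : ¬ e ∣ Nat.card T := by
    intro h
    obtain ⟨n, hn⟩ := IsPGroup.iff_card.1 hT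
    rw [hn] at h
    exact hte ((Nat.prime_dvd_prime_iff_eq he ht).1 (he.dvd_of_dvd_pow h)).symm
  obtain ⟨d, hd1, hd2⟩ := H851.PQ.P1 ρ T Z Z x he hxe hxT (Nat.cast_ne_zero.2 he.ne_zero)
    (Nat.cast_ne_zero.2 Nat.card_pos.ne') heT W hW0 hTW hxW
    (fun y hy z hz => hscalZ _ (hTT (commutator_mem_commutator hy hz)))
    (fun y => by
      constructor
      · intro hy
        rw [← hRZ] at hy
        exact hy
      · intro hy
        rw [← hRZ]
        exact hy)
    (fun y => by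
      constructor
      · intro hy
        exact ⟨hZT.le hy, Z.mul_mem (Z.inv_mem hy) (hxZ y hy)⟩
      · rintro ⟨hy1, hy2⟩
        exact hZfix y hy1 hy2)
    (fun w _ => hfix w)
  rw [relIndex_self, mul_one] at hd2
  -- the number of fixed points
  obtain ⟨k, hk⟩ := IsPGroup.iff_card.1 hT
  obtain ⟨j, hjk, hj, hdvd⟩ := card_fixed he ht hte hx hk hxT
  have hCZ : T ⊓ centralizer ({x} : Set Γ) = Z := by
    apply le_antisymm
    · rintro u ⟨hu1, hu2⟩
      apply hZfix u hu1
      have : x * u * x⁻¹ = u := mul_inv_eq_iff_eq_mul.2 (mem_centralizer_singleton_iff.1 hu2).symm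
      rw [this, inv_mul_cancel]
      exact Z.one_mem
    · intro u hu
      exact ⟨hZT.le hu, mem_centralizer_singleton_iff.2 (hxZc u hu).symm⟩
  rw [hCZ] at hj
  have hidx : Z.relIndex T = t ^ j := by
    have h1 := Subgroup.card_mul_index (Z.subgroupOf T)
    have h2 : Nat.card (Z.subgroupOf T) = Nat.card Z := Nat.card_congr (subgroupOfEquivOfLe hZT.le).toEquiv
    rw [h2, hj, hk] at h1
    have h3 : t ^ k = t ^ (k - j) * t ^ j := by rw [← pow_add]; congr 1; omega
    rw [h3] at h1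
    exact Nat.eq_of_mul_eq_mul_left (pow_pos ht.pos _) h1
  have hidx1 : Z.relIndex T ≠ 1 := by
    intro h
    rw [relIndex_eq_one] at h
    exact hZT.not_ge h
  rw [← hidx, ← hd1] at hdvd
  have hd0 : d ≠ 0 := by
    rintro rfl
    rw [hidx, zero_pow two_ne_zero] at hd1
    exact (pow_pos ht.pos j).ne hd1
  have hd11 : d ≠ 1 := by
    rintro rfl
    exact hidx1 (by rw [← hd1, one_pow])
  have hle : d ≤ e - 1 := (Nat.pow_le_pow_iff_left two_ne_zero).1 hd2
  have h2 : d ^ 2 - 1 = (d - 1) * (d + 1) := by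
    obtain ⟨n, rfl⟩ : ∃ n, d = n + 1 := ⟨d - 1, by omega⟩
    rw [Nat.add_sub_cancel]
    have : (n + 1) ^ 2 = n * (n + 1 + 1) + 1 := by ring
    rw [this, Nat.add_sub_cancel]
  rw [h2, he.dvd_mul] at hdvd
  have he1 := he.one_lt
  rcases hdvd with h | h
  · have := Nat.le_of_dvd (by omega) h
    omega
  · have h3 := Nat.le_of_dvd (by omega) h
    have h4 : d + 1 = e := by omega
    have h5 : d ∣ t ^ j := by
      rw [← hidx, ← hd1]
      exact dvd_pow_self d two_ne_zero
    obtain ⟨m, -, hm⟩ := (Nat.dvd_prime_pow ht).1 h5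
    exact hF t m ht (by rw [← hm, h4])

/-- **An element of prime order without fixed vectors centralises the invariant `t`-subgroups.** -/
theorem comm_of_noFix [FiniteDimensional ℂ V] (ρ : Representation ℂ Γ V) (hρ : ∀ g, ρ g = 1 → g = 1) {e : ℕ}
    (he : e.Prime) (hF : ∀ t m : ℕ, t.Prime → t ^ m + 1 ≠ e) {x : Γ} (hx : orderOf x = e)
    (hfix : ∀ v, ρ x v = v → v = 0) {t : ℕ} (ht : t.Prime) (hte : t ≠ e) (T : Subgroup Γ) (hT : IsPGroup t T)
    (hxT : ∀ u ∈ T, x * u * x⁻¹ ∈ T) : ∀ u ∈ T, x * u = u * x := by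
  have hft : Fact t.Prime := ⟨ht⟩
  -- induction on the order
  suffices H : ∀ n : ℕ, ∀ T : Subgroup Γ, Nat.card T = n → IsPGroup t T → (∀ u ∈ T, x * u * x⁻¹ ∈ T) →
      ∀ u ∈ T, x * u = u * x from H _ T rfl hT hxT
  intro n
  induction n using Nat.strong_induction_on with
  | _ n ih =>
  intro T hTn hT hxT
  by_contra hcon
  rw [← comm_bot_iff] at hcon
  have hBP : zpowers x ≤ normalizer (T : Set Γ) := normalizes T hxT
  have hAp : (Nat.card (zpowers x)).Coprime t := by
    rw [Nat.card_zpowers, hx]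
    exact (Nat.coprime_primes he ht).2 (Ne.symm hte)
  have hinv : ∀ U : Subgroup Γ, zpowers x ≤ normalizer (U : Set Γ) → ∀ u ∈ U, x * u * x⁻¹ ∈ U := fun U hU u hu =>
    (mem_normalizer_iff.1 (hU (mem_zpowers x)) u).1 hu
  have hmin : ∀ U : Subgroup Γ, U < T → zpowers x ≤ normalizer (U : Set Γ) → ⁅U, zpowers x⁆ = ⊥ := by
    intro U hU hxU
    rw [comm_bot_iff]
    refine ih (Nat.card U) ?_ U rfl (hT.to_le hU.le) (hinv U hxU)
    rw [← hTn]
    exact lt_of_not_ge fun h => hU.ne (eq_of_le_of_card_ge hU.le h)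
  have hPA := MinimalAction.commutator_eq hT hBP le_rfl le_normalizer hAp hcon hmin
  by_cases hab : ∀ u ∈ T, ∀ v ∈ T, u * v = v * u
  · -- abelian
    have hTT : ⁅T, T⁆ ≤ ⊥ := by
      rw [commutator_le]
      intro u hu v hv
      rw [mem_bot, commutatorElement_eq_one_iff_mul_comm]
      exact hab u hu v hv
    have hfpf : ∀ u ∈ T, x * u = u * x → u = 1 := by
      intro u hu hxu
      have h1 := MinimalAction.mem_of_fixed hT hBP le_rfl hAp hPA (N := ⊥) bot_le
        (by intro g _; rw [mem_normalizer_iff]; intro h; rw [mem_bot, mem_bot, mul_inv_eq_one, mul_eq_left]) hTT hu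
        (fun a ha => by
          obtain ⟨i, rfl⟩ := ha
          rw [mem_bot, commutatorElement_eq_one_iff_mul_comm]
          exact ((show Commute x u from hxu).zpow_left i).eq.symm)
      rwa [mem_bot] at h1
    have h1 := trivial_of_fpf ρ he hx hfix T hxT hfpf
    apply hcon
    rw [comm_bot_iff]
    intro u hu
    rw [hρ u (h1 u hu), mul_one, one_mul]
  · -- special
    set Z := MinimalAction.frat T with hZ
    have hTne : T ≠ ⊥ := by
      rintro rfl
      exact hab fun u hu v hv => by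
        rw [mem_bot] at hu hv
        rw [hu, hv]
    have hZT : Z < T := lt_of_le_of_ne (MinimalAction.frat_le T) (MinimalAction.frat_ne hTne)
    have hxZn : zpowers x ≤ normalizer (Z : Set Γ) := MinimalAction.le_normalizer_frat hBP
    have hTT : ⁅T, T⁆ ≤ Z := MinimalAction.commutator_le_frat hT
    have hZTn : T ≤ normalizer (Z : Set Γ) := MinimalAction.le_normalizer_frat le_normalizer
    have hZc := MinimalAction.le_centralizer hPA hmin hZT hxZn hZTn
    have hxZ := (comm_bot_iff Z x).1 (hmin Z hZT hxZn)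
    refine special_case ρ hρ he hF hx hfix ht hte T hT hxT Z hZT (hinv Z hxZn) hTT
      (fun z hz u hu => (mem_centralizer_iff.1 (hZc hz) u hu).symm) hxZ ?_ ?_ hab
    · intro u hu hu2
      refine MinimalAction.mem_of_fixed hT hBP le_rfl hAp hPA hZT.le hxZn hTT hu fun a ha => ?_
      obtain ⟨i, rfl⟩ := mem_powers_iff_mem_zpowers.2 ha
      set z := u⁻¹ * (x * u * x⁻¹) with hz
      have h1 : ∀ i : ℕ, x ^ i * u * (x ^ i)⁻¹ = u * z ^ i := by
        intro i
        induction i with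
        | zero => simp
        | succ i ih' =>
          calc x ^ (i + 1) * u * (x ^ (i + 1))⁻¹ = x * (x ^ i * u * (x ^ i)⁻¹) * x⁻¹ := by
                rw [pow_succ']; group
            _ = x * u * (z ^ i * x⁻¹) := by rw [ih']; group
            _ = x * u * (x⁻¹ * z ^ i) := by
                have : Commute x z := hxZ z hu2
                rw [(this.inv_left.pow_right i).eq]
            _ = u * z * z ^ i := by rw [hz]; group
            _ = u * z ^ (i + 1) := by rw [pow_succ', mul_assoc]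
      have h2 : ⁅u, x ^ i⁆ = u * (x ^ i * u * (x ^ i)⁻¹)⁻¹ := by
        rw [commutatorElement_def]; group
      show ⁅u, x ^ i⁆ ∈ Z
      rw [h2, h1, mul_inv_rev]
      have h3 : u * ((z ^ i)⁻¹ * u⁻¹) = (z ^ i)⁻¹ := by
        have h4 : Commute u (z ^ i)⁻¹ :=
          (mem_centralizer_iff.1 (hZc (Z.inv_mem (Z.pow_mem hu2 i))) u hu)
        rw [← mul_assoc, h4.eq, mul_assoc, mul_inv_cancel, mul_one]
      rw [h3]
      exact Z.inv_mem (Z.pow_mem hu2 i)
    · intro R hZR hRT hxR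
      exact MinimalAction.eq_or_eq hT hBP le_rfl hAp hPA hmin hZT.le hxZn hTT hZR hRT (normalizes R hxR)

end Cfsg.Agent.H322.NoFix
end

-- part: H322/SU/CoOne
section
/-!
# Solvably unique elements of order 13 in `Co1` and `Suz` (helper322)

An element of order 13 of `Co0` has no fixed vectors on the Leech lattice, hence (`NoFix.comm_of_noFix`) centralises
all `t`-subgroups it normalises, `t ≠ 13`.
-/

set_option autoImplicit false

namespace Cfsg.Agent.H322.SUCo

open Cfsg Cfsg.Agent Cfsg.Agent.H465.SU Cfsg.Agent.H794.LeechPP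
open Cfsg.Spor (Co1)
open Cfsg.Agent.SporadicStructure.Co0Base
open Subgroup

theorem rep_faithful (g : Co0) (hg : rep g = 1) : g = 1 := by
  apply co0_ext
  intro v
  apply toV_injective
  rw [← rep_toV, hg, one_smul]
  rfl

theorem rep_noFix {x : Co0} (hx : orderOf x = 13) (v : Sp) (hv : rep x v = v) : v = 0 := by
  have hx13 : x ^ 13 = 1 := by rw [← hx, pow_orderOf_eq_one]
  -- the sum of the powers
  have h0 : ∀ w : leechLattice, ∑ i ∈ Finset.range 13, (x ^ i) • w = 0 := by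
    intro w
    apply BpSpor.MBigCo.free_thirteen hx
    rw [co0_smul_sum]
    have h1 : ∑ i ∈ Finset.range 13, x • x ^ i • w = ∑ i ∈ Finset.range 13, x ^ (i + 1) • w :=
      Finset.sum_congr rfl fun i _ => by rw [pow_succ', mul_smul]
    rw [h1]
    have h2 := Finset.sum_range_succ (fun i => x ^ i • w) 13
    have h3 := Finset.sum_range_succ' (fun i => x ^ i • w) 13
    rw [h2] at h3
    simp only [pow_zero, hx13] at h3
    exact (add_right_cancel h3).symm
  have h1 : ∑ i ∈ Finset.range 13, rep (x ^ i) = 0 := by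
    apply ext_e8
    intro j
    rw [LinearMap.sum_apply, LinearMap.zero_apply]
    have h2 : ∀ i, rep (x ^ i) (toV (e8 j)) = toV (x ^ i • e8 j) := fun i => rep_toV _ _
    rw [Finset.sum_congr rfl fun i _ => h2 i]
    have h3 := congrArg toV (h0 (e8 j))
    funext k
    have h4 := congrFun h3 k
    rw [toV_apply, toV_apply] at h4
    rw [Finset.sum_apply]
    simp only [toV_apply]
    rw [coe_sum, Finset.sum_apply, Int.cast_sum] at h4
    rw [h4]
    simp
  have h2 : ∀ i : ℕ, rep (x ^ i) v = v := by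
    intro i
    induction i with
    | zero => rw [pow_zero, map_one]; rfl
    | succ i ih => rw [pow_succ', map_mul, Module.End.mul_apply, ih, hv]
  have h3 := LinearMap.congr_fun h1 v
  rw [LinearMap.sum_apply, Finset.sum_congr rfl fun i _ => h2 i, Finset.sum_const, Finset.card_range,
    LinearMap.zero_apply] at h3
  rw [← Nat.cast_smul_eq_nsmul ℂ] at h3
  exact (smul_eq_zero.1 h3).resolve_left (by norm_num)

/-- an element of order 13 of `Co0` centralises the `t`-subgroups it normalises -/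
theorem comm_thirteen {x : Co0} (hx : orderOf x = 13) {t : ℕ} (ht : t.Prime) (ht13 : t ≠ 13) (T : Subgroup Co0)
    (hT : IsPGroup t T) (hxT : ∀ u ∈ T, x * u * x⁻¹ ∈ T) : ∀ u ∈ T, x * u = u * x := by
  have := CpAutBig.CoZero.finite_co0
  refine NoFix.comm_of_noFix rep rep_faithful (by norm_num) ?_ hx (rep_noFix hx) ht ht13 T hT hxT
  intro t m ht h
  have h12 : t ^ m = 12 := by omega
  have h2 : t ∣ 12 := by
    rw [← h12]
    apply dvd_pow_self
    rintro rfl
    norm_num at h12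
  have h3 : 2 = t := (Nat.prime_dvd_prime_iff_eq Nat.prime_two ht).1
    (Nat.prime_two.dvd_of_dvd_pow (h12 ▸ (by norm_num : (2 : ℕ) ∣ 12)))
  have h4 : 3 = t := (Nat.prime_dvd_prime_iff_eq Nat.prime_three ht).1
    (Nat.prime_three.dvd_of_dvd_pow (h12 ▸ (by norm_num : (3 : ℕ) ∣ 12)))
  omega

theorem card_co0 : Nat.card Co0 = 2 * Nat.card Co1 := by
  have h := Subgroup.card_mul_index (Subgroup.center Co0)
  rw [SporadicA.Co0Basic.card_center] at h
  exact h.symm

theorem card_co1 : Nat.card Co1 = 4157776806543360000 :=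
  have := CpAutBig.CoZero.finite_co0
  NotCT.Orders.co1 ⟨MulEquiv.refl _⟩

theorem suel_co0 {x : Co0} (hx : orderOf x = 13) : SUel 13 x := by
  have := CpAutBig.CoZero.finite_co0
  refine SUel.of_prime (by norm_num) ?_ hx fun t ht ht13 T hT hxT => comm_thirteen hx ht ht13 T hT hxT
  rw [card_co0, card_co1]
  norm_num

theorem suel_co1 {s : Co1} (hs : orderOf s = 13) : SUel 13 s := by
  have := CpAutBig.CoZero.finite_co0
  obtain ⟨a, rfl, -, ha⟩ := BpSpor.MBigCo.exists_lift_thirteen hs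
  refine SUel.map (QuotientGroup.mk' (Subgroup.center Co0)) (QuotientGroup.mk'_surjective _) ?_ (by norm_num) ?_
    (suel_co0 ha)
  · rw [QuotientGroup.ker_mk']
    exact Group.isSolvable_of_comm fun a b => Subtype.ext ((mem_center_iff.1 a.2 (b : Co0)).symm)
  · rw [QuotientGroup.ker_mk', SporadicA.Co0Basic.card_center]
    norm_num

/-- **Co1** -/
theorem co1 {G : Type*} [Group G] [Finite G] (h : Spor.IsoCo1 G) : HasSU1 G := by
  have h13 : Fact (Nat.Prime 13) := ⟨by norm_num⟩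
  obtain ⟨f⟩ := id h
  obtain ⟨y, hy⟩ := exists_prime_orderOf_dvd_card' (G := G) 13 (by rw [NotCT.Orders.co1 h]; norm_num)
  refine ⟨13, y, by norm_num, by norm_num, hy, by rw [NotCT.Orders.co1 h]; norm_num, ?_⟩
  have h1 := (suel_co1 (s := f y) (by rw [MulEquiv.orderOf_eq, hy])).congr f.symm
  rwa [f.symm_apply_apply] at h1

/-- restriction to a subgroup -/
theorem suel_restrict {K : Type*} [Group K] {p : ℕ} {H : Subgroup K} {y : H} (h : SUel p (y : K)) : SUel p y := by
  obtain ⟨h1, ⟨k, hk⟩, h3⟩ := h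
  refine ⟨fun h => h1 (by rw [h]; rfl), ⟨k, by rw [← Subgroup.orderOf_coe, hk]⟩, ?_⟩
  intro M hM hyM A B hA hB hAc hBc
  have hM' : Group.IsSolvable (M.map H.subtype) :=
    Group.isSolvable_of_surjective (f := H.subtype.subgroupMap M) (MonoidHom.subgroupMap_surjective _ _)
  have h4 := h3 _ hM' ⟨y, hyM, rfl⟩ (A.map H.subtype) (B.map H.subtype) (map_mono hA) (map_mono hB)
    (by rw [card_map_of_injective H.subtype_injective, hAc]) (by rw [card_map_of_injective H.subtype_injective, hBc])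
  exact map_injective H.subtype_injective h4

open LThreeCo1Suz.Main LThreeCo1.FourCo1 in
/-- **Suz** -/
theorem suz {G : Type*} [Group G] [Finite G] (h : Spor.IsoSuz G) : HasSU1 G := by
  have h13 : Fact (Nat.Prime 13) := ⟨by norm_num⟩
  have := CpAutBig.CoZero.finite_co0
  obtain ⟨f⟩ := id h
  obtain ⟨f'⟩ := isoSuz_X
  let C := centralizer ({X 0} : Set Co1)
  let π : C →* C ⧸ EE := QuotientGroup.mk' EE
  have hπ : Function.Surjective π := QuotientGroup.mk'_surjective _
  have hcard : Nat.card (C ⧸ EE) = Nat.card G := Nat.card_congr (f'.trans f.symm).toEquiv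
  have hd : 13 ∣ Nat.card C := by
    refine dvd_trans ?_ (card_dvd_of_surjective π hπ)
    rw [hcard, NotCT.Orders.suz h]
    norm_num
  obtain ⟨y, hy⟩ := exists_prime_orderOf_dvd_card' (G := C) 13 hd
  have hker : π.ker = EE := QuotientGroup.ker_mk' _
  have h3 : IsPGroup 3 EE := fun g => ⟨1, Subtype.ext (by rw [pow_one]; exact cube g.2)⟩
  have h1 : SUel 13 y := suel_restrict (suel_co1 (s := (y : Co1)) (by rw [Subgroup.orderOf_coe, hy]))
  have hco : ¬ 13 ∣ Nat.card EE := by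
    intro hd
    have : Fact (Nat.Prime 3) := ⟨by norm_num⟩
    obtain ⟨n, hn⟩ := IsPGroup.iff_card.1 h3
    rw [hn] at hd
    have := (Nat.prime_dvd_prime_iff_eq (by norm_num) (by norm_num)).1
      ((show Nat.Prime 13 by norm_num).dvd_of_dvd_pow hd)
    omega
  have h2 : SUel 13 (π y) := by
    refine h1.map π hπ ?_ (by norm_num) ?_
    · rw [hker]
      have : Fact (Nat.Prime 3) := ⟨by norm_num⟩
      have := h3.isNilpotent
      infer_instance
    · rw [hker]
      exact hco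
  have hord : orderOf (π y) = 13 := by
    refine orderOf_eq_prime (by rw [← map_pow, ← hy, pow_orderOf_eq_one, map_one]) h2.1
  refine ⟨13, (f'.trans f.symm) (π y), by norm_num, by norm_num, by rw [MulEquiv.orderOf_eq, hord],
    by rw [NotCT.Orders.suz h]; norm_num, h2.congr _⟩

end Cfsg.Agent.H322.SUCo
end

-- part: H465/PETable
section
/-!
# S3853: the table of the known simple groups
-/

set_option autoImplicit false

namespace Cfsg.Agent.H465.PETable

open Subgroup Cfsg Cfsg.Agent.H465.SU Cfsg.Agent.H465.Red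

universe u

variable {K : Type u} [Group K] [Finite K] [IsSimpleGroup K]

theorem center_eq_bot (hK : ¬ IsMulCommutative K) : center K = ⊥ := by
  rcases (inferInstance : (center K).Normal).eq_bot_or_eq_top with h1 | h1
  · exact h1
  · exfalso
    apply hK
    refine ⟨⟨fun a b => ?_⟩⟩
    have h2 : a ∈ center K := by rw [h1]; exact mem_top a
    exact (mem_center_iff.1 h2 b).symm

theorem PE.of_HasSU (hK : ¬ IsMulCommutative K) (h : HasSU K) : PE K := PE.of_P2 hK (P2.of_SU hK h)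

theorem PE.of_HasSU1 (hK : ¬ IsMulCommutative K) (h : HasSU1 K) : PE K := PE.of_HasSU hK h.hasSU

/-- helper518's rows give `HasSU`. -/
theorem hasSU_of_rowOut (h : H518.SU.RowOut K) : HasSU K := by
  obtain ⟨p, a, hp, hp5, ha, -, -, y, hy, hel⟩ := h
  refine ⟨p, hp, by omega, y, ?_, ⟨a, hy⟩, fun M hM hyM A B hA hB hAc hBc =>
    hel.eq_of_card hp ha hy M hM hyM A B hA hB hAc hBc⟩
  intro h1
  rw [h1, orderOf_one] at hy
  exact (Nat.one_lt_pow (by omega) hp.one_lt).ne hy

/-- the sporadic groups, except `Fi₂₂` -/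
theorem hasSU1_sporadic (h : IsSporadicGroup K) : HasSU1 K ∨ Spor.IsoFi22 K := by
  rcases h with h | h | h | h | h | h | h | h | h | h | h | h | h | h | h | h | h | h | h | h | h | h | h | h | h | h
  · exact Or.inl (SpRows.m11 h)
  · exact Or.inl (SpRows.m12 h)
  · exact Or.inl (SpRows.m22 h)
  · exact Or.inl (SpRows.m23 h)
  · exact Or.inl (SpRows.m24 h)
  · exact Or.inl (SpRows.j1 h)
  · exact Or.inl (H679.SpJ2.j2 h)
  · exact Or.inl (SpRows.j3 h)
  · exact Or.inl (SpRows.j4 h)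
  · exact Or.inl (H322.SUCo.co1 h)
  · exact Or.inl (H821.SpCo2.co2 h)
  · exact Or.inl (SpRows.co3 h)
  · exact Or.inl (H60.SpMcL.mcl h)
  · exact Or.inl (SpRows.hs h)
  · exact Or.inl (H322.SUCo.suz h)
  · exact Or.inl (H679.SpHe.he h)
  · exact Or.inl (SpRows.ru h)
  · exact Or.inl (SpRows.on h)
  · exact Or.inl (SpRows.ly h)
  · exact Or.inr h
  · exact Or.inl (SpFi23.fi23 h)
  · exact Or.inl (SpRows.fi24 h)
  · exact Or.inl (SpRows.hn h)
  · exact Or.inl (SpRows.th h)
  · exact Or.inl (H821.SpB.hasSU1 h)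
  · exact Or.inl (SpRows.m h)

/-- the exceptional groups, except `³D₄(2)` -/
theorem hasSU_exceptional (h : IsExceptionalLieType K) : HasSU K ∨
    ∃ (F : Type) (_ : Field F) (_ : Fintype F), Fintype.card F = 2 ^ 3 ∧ Nonempty (K ≃* Lie.twistedD4 F 2) := by
  rcases h with h | h | h | h | h | h | h | h | h | h | h
  · obtain ⟨F, _, _, h3, ⟨e⟩⟩ := h
    exact Or.inl ((H585.SuG2.result (F := F) (by omega)).congr e.symm).hasSU
  · obtain ⟨F, _, _, ⟨e⟩⟩ := h
    exact Or.inl ((H585.SuF4.result (F := F)).congr e.symm).hasSU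
  · obtain ⟨F, _, _, ⟨e⟩⟩ := h
    exact Or.inl ((H585.SuE6.result (F := F)).congr e.symm).hasSU
  · obtain ⟨F, _, _, ⟨e⟩⟩ := h
    exact Or.inl ((H585.SuE7.result (F := F)).congr e.symm).hasSU
  · obtain ⟨F, _, _, ⟨e⟩⟩ := h
    exact Or.inl ((H585.SuE8.result (F := F)).congr e.symm).hasSU
  · obtain ⟨F, _, _, q, hq, hF, ⟨e⟩⟩ := h
    exact Or.inl ((H585.SuTE6.result hq hF).congr e.symm).hasSU
  · obtain ⟨F, _, _, q, hq, hF, ⟨e⟩⟩ := h
    by_cases h2 : q = 2
    · subst h2
      exact Or.inr ⟨F, _, _, hF, ⟨e⟩⟩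
    · exact Or.inl ((H585.SuTD4.result hq hF h2).congr e.symm).hasSU
  · exact Or.inl (SzRee.hasSUS_sz h).hasSU
  · exact Or.inl (SzRee.hasSUS_ree h).hasSU
  · obtain ⟨p, a, y, hy⟩ := H965.SU.row_twF4 K h
    exact Or.inl hy.hasSU
  · obtain ⟨p, a, y, hy⟩ := H965.SU.row_tits K h
    exact Or.inl hy.hasSU

/-- the groups with a separate argument -/
def Open (K : Type u) [Group K] : Prop :=
  H518.SU.Exceptions K ∨ Spor.IsoFi22 K ∨
    ∃ (F : Type) (_ : Field F) (_ : Fintype F), Fintype.card F = 2 ^ 3 ∧ Nonempty (K ≃* Lie.twistedD4 F 2)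

theorem classical (hK : ¬ IsMulCommutative K) (h : IsPSL K ∨ IsPSp K ∨ IsPSU K ∨ IsPOmegaOdd K ∨ IsPOmegaPlus K ∨
    IsPOmegaMinus K) : PE K ∨ Open K := by
  rcases H518.SU.table (center_eq_bot hK) h with ⟨F, _, _, hF, ⟨e⟩⟩ | h | h
  · exact Or.inl (PE.of_P2 hK (LTwo.p2_psl_two hK e hF))
  · exact Or.inr (Or.inl h)
  · exact Or.inl (PE.of_HasSU hK (hasSU_of_rowOut h))

/-- **The table**: `PE K` for all known simple groups outside a finite list. -/
theorem table (hK : ¬ IsMulCommutative K) (h : IsKnownSimple' K) : PE K ∨ Open K := by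
  rcases h with h | h | h | h | h | h | h | h | h | h
  · exfalso
    have : Fact (Nat.card K).Prime := ⟨h⟩
    have := isCyclic_of_prime_card (α := K) rfl
    exact hK IsCyclic.commutative
  · exact Or.inl (AltPE.pe_alternating hK h)
  · exact classical hK (Or.inl h)
  · exact classical hK (Or.inr (Or.inl h))
  · exact classical hK (Or.inr (Or.inr (Or.inl h)))
  · exact classical hK (Or.inr (Or.inr (Or.inr (Or.inl h))))
  · exact classical hK (Or.inr (Or.inr (Or.inr (Or.inr (Or.inl h)))))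
  · exact classical hK (Or.inr (Or.inr (Or.inr (Or.inr (Or.inr h)))))
  · rcases hasSU_exceptional h with h | h
    · exact Or.inl (PE.of_HasSU hK h)
    · exact Or.inr (Or.inr (Or.inr h))
  · rcases hasSU1_sporadic h with h | h
    · exact Or.inl (PE.of_HasSU1 hK h)
    · exact Or.inr (Or.inr (Or.inl h))

end Cfsg.Agent.H465.PETable
end
end
end
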